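import Groth.Agent.Zeta.K669.ProjMain
import Groth.Agent.Zeta.K467.Final
import Mathlib.Algebra.MvPolynomial.SchwartzZippel

/-!
# Counting the bad hyperplane sections
-/

set_option autoImplicit false
universe u

open CategoryTheory CategoryTheory.Limits AlgebraicGeometry TopologicalSpace Filter Topology
open Groth.Agent

namespace K669.Count

/-- The number of zeros over a finite subfield. -/
theorem card_zeros_le {k : Type u} [Field k] [Finite k] {K : Type u} [Field K] [Algebra k K] {n : ℕ}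
    (g : MvPolynomial (Fin (n + 1)) K) (hg : g ≠ 0) :
    Nat.card {h : Fin (n + 1) → k // MvPolynomial.eval (fun i => algebraMap k K (h i)) g = 0} ≤
      g.totalDegree * Nat.card k ^ n := by
  classical
  have := Fintype.ofFinite k
  let S : Finset K := Finset.univ.image (algebraMap k K)
  have hS : S.card = Nat.card k := by
    rw [Finset.card_image_of_injective _ (algebraMap k K).injective, Finset.card_univ,
      Nat.card_eq_fintype_card]
  have h1 := MvPolynomial.schwartz_zippel_totalDegree hg S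
  have hq : 0 < S.card := by rw [hS]; exact Nat.card_pos
  have hq' : (0 : ℚ≥0) < (S.card : ℚ≥0) := by exact_mod_cast hq
  rw [div_le_div_iff₀ (pow_pos hq' _) hq'] at h1
  have h2 : ((Fintype.piFinset fun _ : Fin (n + 1) => S).filter fun f =>
      MvPolynomial.eval f g = 0).card * S.card ≤ g.totalDegree * S.card ^ (n + 1) := by
    exact_mod_cast h1
  rw [pow_succ, ← mul_assoc] at h2
  have h3 := Nat.le_of_mul_le_mul_right h2 hq
  rw [hS] at h3
  refine le_trans ?_ h3
  rw [Nat.card_eq_fintype_card, Fintype.card_subtype]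
  refine Finset.card_le_card_of_injOn (fun h i => algebraMap k K (h i)) ?_ ?_
  · intro h hh
    rw [Finset.mem_coe, Finset.mem_filter] at hh
    rw [Finset.mem_coe, Finset.mem_filter, Fintype.mem_piFinset]
    exact ⟨fun i => Finset.mem_image_of_mem _ (Finset.mem_univ _), hh.2⟩
  · intro h _ h' _ e
    funext i
    exact (algebraMap k K).injective (congrFun e i)

theorem cf_injective {k : Type u} [Field k] {n : ℕ} : Function.Injective
    (fun (ℓ : CohB1.polyGrading n k 1) (i : Fin (n + 1)) =>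
      MvPolynomial.coeff (Finsupp.single i 1) (ℓ : MvPolynomial (Fin (n + 1)) k)) := by
  intro ℓ ℓ' h
  apply Subtype.ext
  rw [K658.ProjSec.linear_eq_sum ℓ, K658.ProjSec.linear_eq_sum ℓ']
  refine Finset.sum_congr rfl fun i _ => ?_
  have h1 : MvPolynomial.coeff (Finsupp.single i 1) (ℓ : MvPolynomial (Fin (n + 1)) k) =
      MvPolynomial.coeff (Finsupp.single i 1) (ℓ' : MvPolynomial (Fin (n + 1)) k) := congrFun h i
  rw [h1]

theorem main (hT : K467.Final.HilbThm.{u}) (n d r : ℕ) (_hd : 0 < d) (hr : 2 ≤ r) :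
    ∃ A : ℝ, 0 < A ∧ ∀ (k : Type u) [Field k] [Finite k] (X : Scheme.{u})
      (ι : X ⟶ CohB1.ProjSpace n k) [IsClosedImmersion ι] [IsReduced X]
      [GeometricallyIrreducible (ι ≫ CohB1.ProjSpace.toSpec n k)],
      topologicalKrullDim X = r →
      letI : X.Over (Spec (CommRingCat.of k)) := ⟨ι ≫ CohB1.ProjSpace.toSpec n k⟩
      FGA.intNum k X r (fun _ : Fin r => (Scheme.Modules.pullback ι).obj (Twist.twistProjSpace n k (-1)))
          (Coh.structureModule X) = d →
      (Nat.card {ℓ : ↥(CohB1.polyGrading n k 1) // ℓ ≠ 0 ∧ ∀ s : (Coh.structureModule (CohB1.ProjSpace n k) ⟶ Twist.twistProjSpace n k 1),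
          PicF2.secVal (Twist.twistProjSpace n k 1) s ⊤ = Twist.globalOf (CohB1.polyGrading n k) ℓ →
            ¬ (GeometricallyIrreducible
                  (pullback.fst ι (PicF2.zeroScheme (Twist.twistProjSpace n k 1) s).subschemeι ≫ ι ≫ CohB1.ProjSpace.toSpec n k) ∧
               ∃ U : (pullback ι (PicF2.zeroScheme (Twist.twistProjSpace n k 1) s).subschemeι).Opens,
                 Dense (U : Set ↥(pullback ι (PicF2.zeroScheme (Twist.twistProjSpace n k 1) s).subschemeι)) ∧ IsReduced (U : Scheme.{u}))} : ℝ) ≤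
        A * ((Nat.card k : ℝ) - 1) * (Nat.card k : ℝ) ^ (n - 1) := by
  refine ⟨2 * (Cone.Dmax.{u} r d : ℝ) + 1, by positivity, fun k _ _ X ι _ _ _ hdim => ?_⟩
  let _ : X.Over (Spec (CommRingCat.of k)) := ⟨ι ≫ CohB1.ProjSpace.toSpec n k⟩
  intro hdeg
  have hirr : IrreducibleSpace X :=
    (inferInstance : GeometricallyIrreducible (ι ≫ CohB1.ProjSpace.toSpec n k)).geometrically_irreducibleSpace
      (𝟙 _) (𝟙 _) (ι ≫ CohB1.ProjSpace.toSpec n k) IsPullback.of_id_fst
  have hint : IsIntegral X := isIntegral_of_irreducibleSpace_of_isReduced X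
  have hlim := hT k ι r hdim
  have hdeg' : ((FGA.intNum k X r (fun _ : Fin r => (Scheme.Modules.pullback ι).obj (Twist.twistProjSpace n k (-1)))
      (Coh.structureModule X) : ℤ) : ℝ) = d := by rw [hdeg]; rfl
  rw [hdeg'] at hlim
  obtain ⟨g, hg0, hgd, hg⟩ := ProjMain.exists_g ι hr hdim d (by
    intro ε hε
    have h1 := (tendsto_order.1 hlim).2 ((d : ℝ) / (r.factorial : ℝ) + ε) (by linarith)
    filter_upwards [h1, eventually_ge_atTop 1] with t ht ht1
    have : (0 : ℝ) < (t : ℝ) ^ r := pow_pos (by exact_mod_cast ht1) _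
    exact ((div_lt_iff₀ this).mp ht).le)
  have hq : 1 < Nat.card k := Finite.one_lt_card (α := k)
  have hcount := card_zeros_le (k := k) g hg0
  have hfin : Finite {h : Fin (n + 1) → k //
      MvPolynomial.eval (fun i => algebraMap k (AlgebraicClosure k) (h i)) g = 0} := inferInstance
  have h1 : Nat.card {ℓ : ↥(CohB1.polyGrading n k 1) // ℓ ≠ 0 ∧ ∀ s : (Coh.structureModule (CohB1.ProjSpace n k) ⟶ Twist.twistProjSpace n k 1),
          PicF2.secVal (Twist.twistProjSpace n k 1) s ⊤ = Twist.globalOf (CohB1.polyGrading n k) ℓ →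
            ¬ (GeometricallyIrreducible
                  (pullback.fst ι (PicF2.zeroScheme (Twist.twistProjSpace n k 1) s).subschemeι ≫ ι ≫ CohB1.ProjSpace.toSpec n k) ∧
               ∃ U : (pullback ι (PicF2.zeroScheme (Twist.twistProjSpace n k 1) s).subschemeι).Opens,
                 Dense (U : Set ↥(pullback ι (PicF2.zeroScheme (Twist.twistProjSpace n k 1) s).subschemeι)) ∧ IsReduced (U : Scheme.{u}))} ≤
      Nat.card {h : Fin (n + 1) → k //
        MvPolynomial.eval (fun i => algebraMap k (AlgebraicClosure k) (h i)) g = 0} := by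
    refine Nat.card_le_card_of_injective (fun ℓ => ⟨fun i =>
      MvPolynomial.coeff (Finsupp.single i 1) (ℓ.1 : MvPolynomial (Fin (n + 1)) k), ?_⟩) ?_
    · by_contra hne
      exact ℓ.2.2 (K658.SecSmooth.secOf ℓ.1) (ProjMain.secVal_secOf ℓ.1) (hg ℓ.1 hne)
    · intro ℓ ℓ' h
      exact Subtype.ext (cf_injective (congrArg Subtype.val h))
  have h2 : Nat.card k ^ n ≤ Nat.card k * Nat.card k ^ (n - 1) := by
    rcases Nat.eq_zero_or_pos n with rfl | hn
    · simp; omega
    · obtain ⟨m, rfl⟩ := Nat.exists_eq_succ_of_ne_zero hn.ne'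
      rw [Nat.succ_eq_add_one, Nat.add_sub_cancel, pow_succ, mul_comm]
  have h3 := h1.trans (hcount.trans (Nat.mul_le_mul hgd h2))
  have h4 : (2 : ℝ) ≤ Nat.card k := by exact_mod_cast hq
  have h5 : (0 : ℝ) < (Nat.card k : ℝ) ^ (n - 1) := by positivity
  refine (show ((_ : ℕ) : ℝ) ≤ ((Cone.Dmax.{u} r d * (Nat.card k * Nat.card k ^ (n - 1)) : ℕ) : ℝ) from
    by exact_mod_cast h3).trans ?_
  push_cast
  have h6 : (Cone.Dmax.{u} r d : ℝ) * (Nat.card k : ℝ) ≤
      (2 * (Cone.Dmax.{u} r d : ℝ) + 1) * ((Nat.card k : ℝ) - 1) := by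
    have h7 : (0 : ℝ) ≤ Cone.Dmax.{u} r d := Nat.cast_nonneg _
    nlinarith
  rw [← mul_assoc]
  exact mul_le_mul_of_nonneg_right h6 h5.le

end K669.Count
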