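import Groth.Agent.Zeta.K467.LinNoether
import Mathlib.Algebra.MvPolynomial.Funext
import Mathlib.FieldTheory.SeparableClosure
import Mathlib.RingTheory.AlgebraicIndependent.Basic
import Mathlib.RingTheory.IntegralClosure.IsIntegral.Basic

/-!
# Linear separable Noether normalization over infinite perfect fields
-/

set_option autoImplicit false
universe u v

open MvPolynomial
open K467.LinNoether

namespace K669.Noether

/-- A good shear over an infinite field. -/
theorem exists_good {k : Type u} [Field k] [Infinite k] {s : ℕ} {K : Type v} [Field K] [Algebra k K]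
    (F : MvPolynomial (Fin (s + 1)) k) (hF : F ≠ 0) (w : Fin (s + 1) → K) (hw : ∃ i, w i ≠ 0) :
    ∃ c : Fin s → k, eval c (top F) ≠ 0 ∧ w 0 + ∑ i, algebraMap k K (c i) * w i.succ ≠ 0 := by
  classical
  let Q : MvPolynomial (Fin s) K := C (w 0) + ∑ i, C (w (Fin.succ i)) * X i
  have hQeval : ∀ c : Fin s → K, eval c Q = w 0 + ∑ i, w (Fin.succ i) * c i := by
    intro c; simp [Q]
  have hQ : Q ≠ 0 := by
    intro h
    obtain ⟨i, hi⟩ := hw
    have h0 : ∀ c : Fin s → K, w 0 + ∑ i, w (Fin.succ i) * c i = 0 := by
      intro c; rw [← hQeval, h, map_zero]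
    have h1 : w 0 = 0 := by simpa using h0 0
    refine hi ?_
    refine Fin.cases h1 (fun j => ?_) i
    have := h0 (Pi.single j 1)
    rw [h1, zero_add, Finset.sum_eq_single j] at this
    · simpa using this
    · intro b _ hb; simp [hb]
    · intro h; exact absurd (Finset.mem_univ _) h
  let P : MvPolynomial (Fin s) K := (top F).map (algebraMap k K) * Q
  have hT : (top F).map (algebraMap k K) ≠ 0 := by
    rw [ne_eq, map_eq_zero_iff _ (map_injective _ (algebraMap k K).injective)]
    exact top_ne_zero F hF
  have hP : P ≠ 0 := mul_ne_zero hT hQ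
  by_contra! hcon
  apply hP
  refine funext_set (fun _ => Set.range (algebraMap k K))
    (fun _ => Set.infinite_range_of_injective (algebraMap k K).injective) fun f hf => ?_
  have : ∀ i, ∃ c : k, algebraMap k K c = f i := fun i => hf i (Set.mem_univ i)
  choose c hc using this
  have hc' : f = algebraMap k K ∘ c := by
    funext i; exact (hc i).symm
  rw [map_mul, hQeval, map_zero]
  by_cases h : eval c (top F) = 0
  · rw [hc', eval_map, ← eval₂_comp, h, map_zero, zero_mul]
  · have h2 := hcon c h
    have h3 : w 0 + ∑ i, w (Fin.succ i) * f i = 0 := by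
      rw [← h2]
      congr 1
      refine Finset.sum_congr rfl fun i _ => ?_
      rw [← hc i, mul_comm]
    rw [h3, mul_zero]

/-- The linear Noether normalization step over an infinite perfect field. -/
theorem exists_step {k : Type u} [Field k] [Infinite k] [PerfectField k] {s : ℕ} {K : Type v}
    [Field K] [Algebra k K] (y : Fin (s + 1) → K) (hy : ¬ AlgebraicIndependent k y) :
    ∃ (F : MvPolynomial (Fin (s + 1)) k) (c : Fin s → k), eval c (top F) ≠ 0 ∧
      (E c y F).eval (y 0) = 0 ∧ (E c y F).derivative.eval (y 0) ≠ 0 := by
  classical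
  rw [algebraicIndependent_iff] at hy
  push Not at hy
  have hex : ∃ N : ℕ, ∃ F : MvPolynomial (Fin (s + 1)) k, aeval y F = 0 ∧ F ≠ 0 ∧
      F.totalDegree = N := by
    obtain ⟨F, h1, h2⟩ := hy
    exact ⟨_, F, h1, h2, rfl⟩
  obtain ⟨F, hFy, hF0, hFN⟩ := Nat.find_spec hex
  have hmin : ∀ G : MvPolynomial (Fin (s + 1)) k, G ≠ 0 → aeval y G = 0 →
      F.totalDegree ≤ G.totalDegree := by
    intro G h1 h2
    rw [hFN]
    exact Nat.find_min' hex ⟨G, h2, h1, rfl⟩
  have hirr : Irreducible F :=
    irreducible_of_forall_totalDegree_le (a := y) (fun G h1 h2 => hmin G h1 h2) hF0 hFy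
  obtain ⟨i, hi⟩ := exists_pderiv_ne_zero hirr
  have hw : ∃ i, aeval y (pderiv i F) ≠ 0 := by
    refine ⟨i, fun h => ?_⟩
    have h1 := hmin _ hi h
    have h2 := totalDegree_pderiv_lt i hi
    omega
  obtain ⟨c, hc1, hc2⟩ := exists_good F hF0 (fun i => aeval y (pderiv i F)) hw
  refine ⟨F, c, hc1, by rw [eval_E, hFy], ?_⟩
  rw [eval_derivative_E]
  exact hc2

/-- A simple root of a polynomial over a field is separable. -/
theorem isSeparable_of_simple_root {M L : Type*} [Field M] [Field L] [Algebra M L] (x : L)
    (P : Polynomial M) (h0 : Polynomial.aeval x P = 0)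
    (h1 : Polynomial.aeval x P.derivative ≠ 0) : IsSeparable M x := by
  have hP0 : P ≠ 0 := by
    rintro rfl
    simp at h1
  have hint : IsIntegral M x := isAlgebraic_iff_isIntegral.mp ⟨P, hP0, h0⟩
  obtain ⟨Q, hQ⟩ := minpoly.dvd M x h0
  have hirr := minpoly.irreducible hint
  rw [IsSeparable, Polynomial.separable_iff_derivative_ne_zero hirr]
  intro h2
  apply h1
  rw [hQ, Polynomial.derivative_mul, h2, zero_mul, zero_add, map_mul, minpoly.aeval, zero_mul]

/-- **Linear separable Noether normalization.** -/
theorem exists_noether {k : Type u} [Field k] [Infinite k] [PerfectField k] {K : Type v}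
    [Field K] [Algebra k K] : ∀ (m : ℕ) (y : Fin m → K), ∃ (s : ℕ) (Z : Fin s → K),
      (∀ i, Z i ∈ Submodule.span k (Set.range y)) ∧ AlgebraicIndependent k Z ∧
      (∀ i, IsIntegral (Algebra.adjoin k (Set.range Z)) (y i)) ∧
      (∀ i, IsSeparable (IntermediateField.adjoin k (Set.range Z)) (y i)) := by
  intro m
  induction m with
  | zero =>
    intro y
    refine ⟨0, y, fun i => i.elim0, ?_, fun i => i.elim0, fun i => i.elim0⟩
    exact algebraicIndependent_empty_type_iff.mpr (algebraMap k K).injective
  | succ m ih =>
    intro y
    by_cases hy : AlgebraicIndependent k y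
    · refine ⟨m + 1, y, fun i => Submodule.subset_span ⟨i, rfl⟩, hy, fun i => ?_, fun i => ?_⟩
      · exact isIntegral_algebraMap (R := Algebra.adjoin k (Set.range y))
          (x := ⟨y i, Algebra.subset_adjoin ⟨i, rfl⟩⟩)
      · exact isSeparable_algebraMap (F := IntermediateField.adjoin k (Set.range y)) (K := K)
          ⟨y i, IntermediateField.subset_adjoin k _ ⟨i, rfl⟩⟩
    · obtain ⟨F, c, hc, hE0, hE1⟩ := exists_step y hy
      obtain ⟨s, Z, hZspan, hZind, hZint, hZsep⟩ := ih (ynew c y)
      have hspan : Submodule.span k (Set.range (ynew c y)) ≤ Submodule.span k (Set.range y) := by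
        rw [Submodule.span_le]
        rintro _ ⟨i, rfl⟩
        refine sub_mem (Submodule.subset_span ⟨i.succ, rfl⟩) ?_
        rw [← Algebra.smul_def]
        exact Submodule.smul_mem _ _ (Submodule.subset_span ⟨0, rfl⟩)
      let A := Algebra.adjoin k (Set.range Z)
      let N := IntermediateField.adjoin k (Set.range Z)
      have hyi : ∀ i : Fin m, y i.succ = ynew c y i + algebraMap k K (c i) * y 0 := by
        intro i; simp [ynew]
      -- integrality of `y 0`
      have hint0 : IsIntegral A (y 0) := by
        let C' := integralClosure A K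
        let y'' : Fin m → C' := fun i => ⟨ynew c y i, hZint i⟩
        let ρ : MvPolynomial (Fin m) k →ₐ[k] C' := aeval y''
        have hρ : ∀ p, ((ρ p : C') : K) = aeval (ynew c y) p := by
          intro p
          have h1 : (C'.val.restrictScalars k).comp ρ = aeval (ynew c y) := by
            apply MvPolynomial.algHom_ext
            intro i
            simp [ρ, y'']
          exact DFunLike.congr_fun h1 p
        have h2 : IsIntegral C' (y 0) := by
          refine ⟨(mon c F).map ρ.toRingHom, (monic_mon c F hc).map _, ?_⟩
          rw [Polynomial.eval₂_map]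
          have h3 : (algebraMap C' K).comp ρ.toRingHom =
              (aeval (ynew c y) : MvPolynomial (Fin m) k →ₐ[k] K).toRingHom := by
            ext p
            · exact hρ _
            · exact hρ _
          rw [h3]
          have h4 : (E c y F).eval (y 0) = algebraMap k K (eval c (top F)) *
              Polynomial.eval₂ (aeval (ynew c y) : MvPolynomial (Fin m) k →ₐ[k] K).toRingHom (y 0)
                (mon c F) := by
            rw [E_apply, uni_eq c F hc, Polynomial.eval_map, Polynomial.eval₂_mul,
              Polynomial.eval₂_C]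
            congr 1
            exact (aeval (ynew c y) : MvPolynomial (Fin m) k →ₐ[k] K).commutes _
          rw [hE0] at h4
          have h5 : algebraMap k K (eval c (top F)) ≠ 0 := by
            rw [ne_eq, map_eq_zero]; exact hc
          exact (mul_eq_zero.mp h4.symm).resolve_left h5
        exact isIntegral_trans (y 0) h2
      have hsep0 : IsSeparable N (y 0) := by
        let E' := separableClosure N K
        let y'' : Fin m → E' := fun i => ⟨ynew c y i, mem_separableClosure_iff.mpr (hZsep i)⟩
        let ρ : MvPolynomial (Fin m) k →ₐ[k] E' := aeval y''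
        have h3 : (algebraMap E' K).comp ρ.toRingHom =
            (aeval (ynew c y) : MvPolynomial (Fin m) k →ₐ[k] K).toRingHom := by
          apply MvPolynomial.ringHom_ext
          · intro a
            simp only [AlgHom.toRingHom_eq_coe, RingHom.comp_apply, RingHom.coe_coe,
              ← MvPolynomial.algebraMap_eq, AlgHom.commutes]
            rfl
          · intro i
            simp [ρ, y'']
        have h4 : ∀ P : Polynomial (MvPolynomial (Fin m) k),
            Polynomial.aeval (y 0) (P.map ρ.toRingHom) =
            (P.map (aeval (ynew c y) : MvPolynomial (Fin m) k →ₐ[k] K).toRingHom).eval (y 0) := by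
          intro P
          rw [Polynomial.aeval_def, Polynomial.eval₂_map, h3, Polynomial.eval_map]
        have h5 : IsSeparable E' (y 0) := by
          refine isSeparable_of_simple_root (y 0) ((uni c F).map ρ.toRingHom) ?_ ?_
          · rw [h4]; exact hE0
          · rw [Polynomial.derivative_map, h4, ← Polynomial.derivative_map]
            exact hE1
        have h6 : y 0 ∈ separableClosure E' K := mem_separableClosure_iff.mpr h5
        rw [separableClosure.separableClosure_eq_bot N K] at h6
        obtain ⟨b, hb⟩ := IntermediateField.mem_bot.mp h6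
        rw [← hb]
        exact mem_separableClosure_iff.mp b.2
      refine ⟨s, Z, fun i => hspan (hZspan i), hZind, ?_, ?_⟩
      · intro i
        refine Fin.cases hint0 (fun j => ?_) i
        rw [hyi j]
        have h1 : IsIntegral A (algebraMap k K (c j)) := by
          rw [IsScalarTower.algebraMap_apply k A K]
          exact isIntegral_algebraMap
        exact (hZint j).add (h1.mul hint0)
      · intro i
        refine Fin.cases hsep0 (fun j => ?_) i
        rw [hyi j, ← mem_separableClosure_iff]
        refine add_mem (mem_separableClosure_iff.mpr (hZsep j)) (mul_mem ?_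
          (mem_separableClosure_iff.mpr hsep0))
        rw [IsScalarTower.algebraMap_apply k N K]
        exact (separableClosure N K).algebraMap_mem _

end K669.Noether
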