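import Mathlib.RingTheory.Valuation.LocalSubring
import Mathlib.RingTheory.Jacobson.Ring
import Mathlib.RingTheory.MvPolynomial.Homogeneous
import Mathlib.FieldTheory.IsAlgClosed.AlgebraicClosure
import Mathlib.RingTheory.Ideal.MinimalPrime.Noetherian
import Mathlib.RingTheory.LocalRing.ResidueField.Ideal
import Mathlib.Data.Finsupp.Weight
import Mathlib.Algebra.MvPolynomial.NoZeroDivisors
import Mathlib.RingTheory.TensorProduct.Finite
import Mathlib.RingTheory.Flat.Localization
import Mathlib.RingTheory.FinitePresentation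
import Mathlib.RingTheory.TensorProduct.MvPolynomial
import Mathlib.RingTheory.FiniteStability
import Mathlib.RingTheory.MvPolynomial.Basic
import Mathlib.Algebra.MvPolynomial.Nilpotent
import Mathlib.RingTheory.Polynomial.UniqueFactorization

/-!
# Reducible polynomials form a closed set (over `ℤ`, uniformly)

`Red δ f`: `f` is a product of two polynomials of total degree `< δ`.  For a polynomial `f` of total
degree `≤ δ` over a field this means that `f` is not an irreducible polynomial of total degree `δ`.
Main results: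
* `exists_not_red` (Bertini–Noether);
* `red_specialize` (reducible forms specialise to reducible forms);
* `exists_finset`: over a Noetherian ring the locus of reducible members of a family is closed,
  simultaneously for all algebraically closed fields.
-/

set_option autoImplicit false

open MvPolynomial

namespace K669.RedPoly

/-- `f` is a product of two polynomials of total degree `< δ`. -/
def Red {σ E : Type*} [CommSemiring E] (δ : ℕ) (f : MvPolynomial σ E) : Prop :=
  ∃ G H : MvPolynomial σ E, G.totalDegree < δ ∧ H.totalDegree < δ ∧ f = G * H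

theorem Red.pos {σ E : Type*} [CommSemiring E] {δ : ℕ} {f : MvPolynomial σ E} (h : Red δ f) :
    0 < δ := by
  obtain ⟨G, H, hG, -, -⟩ := h
  omega

theorem totalDegree_map_le' {σ E E' : Type*} [CommSemiring E] [CommSemiring E'] (φ : E →+* E')
    (f : MvPolynomial σ E) : (map φ f).totalDegree ≤ f.totalDegree :=
  Finset.sup_mono (MvPolynomial.support_map_subset _ _)

theorem Red.map {σ E E' : Type*} [CommSemiring E] [CommSemiring E'] {δ : ℕ}
    {f : MvPolynomial σ E} (φ : E →+* E') (h : Red δ f) : Red δ (MvPolynomial.map φ f) := by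
  obtain ⟨G, H, hG, hH, rfl⟩ := h
  exact ⟨MvPolynomial.map φ G, MvPolynomial.map φ H, (totalDegree_map_le' φ G).trans_lt hG,
    (totalDegree_map_le' φ H).trans_lt hH, map_mul _ _ _⟩

theorem not_red_iff {σ E : Type*} [Field E] {δ : ℕ} (hδ : 0 < δ) {f : MvPolynomial σ E}
    (hf : f.totalDegree ≤ δ) : ¬ Red δ f ↔ Irreducible f ∧ f.totalDegree = δ := by
  constructor
  · intro h
    have hdeg : f.totalDegree = δ := by
      by_contra hne
      exact h ⟨1, f, by rw [totalDegree_one]; exact hδ, lt_of_le_of_ne hf hne, (one_mul f).symm⟩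
    have hf0 : f ≠ 0 := by
      rintro rfl
      rw [totalDegree_zero] at hdeg
      omega
    refine ⟨⟨?_, ?_⟩, hdeg⟩
    · intro hu
      rw [isUnit_iff_totalDegree_of_isReduced] at hu
      omega
    · intro a b hab
      by_contra hcon
      push Not at hcon
      have ha0 : a ≠ 0 := by rintro rfl; exact hf0 (by rw [hab, zero_mul])
      have hb0 : b ≠ 0 := by rintro rfl; exact hf0 (by rw [hab, mul_zero])
      have h1 := totalDegree_mul_of_isDomain ha0 hb0
      rw [← hab, hdeg] at h1
      have unit_of : ∀ c : MvPolynomial σ E, c ≠ 0 → c.totalDegree = 0 → IsUnit c := by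
        intro c hc0 hc
        rw [totalDegree_eq_zero_iff_eq_C] at hc
        rw [hc]
        refine (isUnit_iff_ne_zero.mpr ?_).map C
        intro h0
        rw [h0, map_zero] at hc
        exact hc0 hc
      refine h ⟨a, b, ?_, ?_, hab⟩
      · by_contra hge
        exact hcon.2 (unit_of b hb0 (by omega))
      · by_contra hge
        exact hcon.1 (unit_of a ha0 (by omega))
  · rintro ⟨hirr, hdeg⟩ ⟨G, H, hG, hH, rfl⟩
    have h0 : G * H ≠ 0 := hirr.ne_zero
    rcases hirr.isUnit_or_isUnit rfl with h | h
    · rw [isUnit_iff_totalDegree_of_isReduced] at h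
      have := totalDegree_mul_of_isDomain (left_ne_zero_of_mul h0) (right_ne_zero_of_mul h0)
      omega
    · rw [isUnit_iff_totalDegree_of_isReduced] at h
      have := totalDegree_mul_of_isDomain (left_ne_zero_of_mul h0) (right_ne_zero_of_mul h0)
      omega

/-- A form of the Nullstellensatz. -/
theorem exists_ne_zero_of_no_hom {R Ω B : Type*} [CommRing R] [IsDomain R] [Field Ω]
    [IsAlgClosed Ω] [Algebra R Ω] [FaithfulSMul R Ω] [CommRing B] [Algebra R B]
    [Algebra.FiniteType R B] (h : IsEmpty (B →ₐ[R] Ω)) : ∃ u : R, u ≠ 0 ∧ algebraMap R B u = 0 := by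
  by_contra hcon
  push Not at hcon
  have hinj : Function.Injective (algebraMap R B) := by
    rw [injective_iff_map_eq_zero]
    intro a ha
    by_contra h0
    exact hcon a h0 ha
  let K := FractionRing R
  let _ : Algebra K Ω := FractionRing.liftAlgebra R Ω
  have : IsScalarTower R K Ω := FractionRing.isScalarTower_liftAlgebra R Ω
  have flat : Module.Flat R K := IsLocalization.flat K (nonZeroDivisors R)
  let B' := TensorProduct R K B
  have nt : Nontrivial B' := by
    have h1 : Function.Injective ((Algebra.linearMap R B).lTensor K) :=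
      Module.Flat.lTensor_preserves_injective_linearMap _ hinj
    have : Nontrivial (TensorProduct R K R) := (TensorProduct.rid R K).toEquiv.nontrivial
    exact h1.nontrivial
  obtain ⟨m, hm⟩ := Ideal.exists_maximal B'
  let _ : Field (B' ⧸ m) := Ideal.Quotient.field m
  have ft0 : Algebra.FiniteType K B' := inferInstance
  have ft : Algebra.FiniteType K (B' ⧸ m) :=
    Algebra.FiniteType.of_surjective (Ideal.Quotient.mkₐ K m) (Ideal.Quotient.mkₐ_surjective K m)
  have fin : Module.Finite K (B' ⧸ m) := finite_of_finite_type_of_isJacobsonRing K (B' ⧸ m)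
  let l : B' ⧸ m →ₐ[K] Ω := IsAlgClosed.lift
  exact h.false (((l.comp (Ideal.Quotient.mkₐ K m)).restrictScalars R).comp
    (Algebra.TensorProduct.includeRight (R := R) (A := K) (B := B)))

section Generic

variable {σ : Type*} [Finite σ] (δ : ℕ)

/-- Exponents of degree `< δ`. -/
abbrev Ix (σ : Type*) (δ : ℕ) : Type _ := {α : σ →₀ ℕ // α.degree < δ}

noncomputable instance : Fintype (Ix σ δ) :=
  (Finsupp.finite_of_degree_lt (σ := σ) δ).fintype

/-- The polynomial with coefficients `c`. -/
noncomputable def pol {R : Type*} [CommSemiring R] (c : Ix σ δ → R) : MvPolynomial σ R :=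
  ∑ α : Ix σ δ, monomial α.1 (c α)

theorem totalDegree_pol {R : Type*} [CommSemiring R] (hδ : 0 < δ) (c : Ix σ δ → R) :
    (pol δ c).totalDegree < δ := by
  have h1 : (pol δ c).totalDegree ≤ δ - 1 := by
    refine totalDegree_finsetSum_le fun α _ => ?_
    refine (totalDegree_monomial_le _ _).trans ?_
    have := α.2
    simp only [Finsupp.sum, Finsupp.degree] at this ⊢
    exact Nat.le_sub_one_of_lt this
  omega

theorem map_pol {R S : Type*} [CommSemiring R] [CommSemiring S] (φ : R →+* S) (c : Ix σ δ → R) :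
    map φ (pol δ c) = pol δ (fun α => φ (c α)) := by
  simp [pol, map_monomial]

theorem pol_coeff {R : Type*} [CommSemiring R] (G : MvPolynomial σ R) (hG : G.totalDegree < δ) :
    pol δ (fun α => coeff α.1 G) = G := by
  classical
  ext β
  rw [pol, coeff_sum]
  simp only [coeff_monomial]
  by_cases hβ : β.degree < δ
  · rw [Finset.sum_eq_single ⟨β, hβ⟩]
    · simp
    · intro b _ hb
      rw [if_neg]
      intro h
      exact hb (Subtype.ext h)
    · intro h
      exact absurd (Finset.mem_univ _) h
  · rw [Finset.sum_eq_zero]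
    · symm
      by_contra h0
      have h1 : β ∈ G.support := mem_support_iff.mpr h0
      have h2 := le_totalDegree h1
      simp only [Finsupp.sum] at h2
      simp only [Finsupp.degree] at hβ
      exact hβ (h2.trans_lt hG)
    · intro b _
      rw [if_neg]
      intro h
      exact hβ (h ▸ b.2)

/-- The ideal of factorisations. -/
noncomputable def facIdeal {R : Type*} [CommRing R] (f : MvPolynomial σ R) :
    Ideal (MvPolynomial (Ix σ δ ⊕ Ix σ δ) R) :=
  Ideal.span (Set.range fun β => coeff β (map C f -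
    pol δ (fun α => X (Sum.inl α)) * pol δ (fun α => X (Sum.inr α))))

theorem facIdeal_iff {R S : Type*} [CommRing R] [CommRing S] (f : MvPolynomial σ R)
    (χ : MvPolynomial (Ix σ δ ⊕ Ix σ δ) R →+* S) : (∀ a ∈ facIdeal δ f, χ a = 0) ↔
      map (χ.comp C) f = pol δ (fun α => χ (X (Sum.inl α))) * pol δ (fun α => χ (X (Sum.inr α))) := by
  have h1 : map χ (map C f - pol δ (fun α => X (Sum.inl α)) * pol δ (fun α => X (Sum.inr α))) =
      map (χ.comp C) f -
      pol δ (fun α => χ (X (Sum.inl α))) * pol δ (fun α => χ (X (Sum.inr α))) := by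
    rw [map_sub, map_mul, map_map, map_pol, map_pol]
  constructor
  · intro h
    rw [← sub_eq_zero, ← h1]
    ext β
    rw [coeff_map, coeff_zero]
    exact h _ (Ideal.subset_span ⟨β, rfl⟩)
  · intro h a ha
    have h2 : facIdeal δ f ≤ RingHom.ker χ := by
      rw [facIdeal, Ideal.span_le]
      rintro _ ⟨β, rfl⟩
      rw [SetLike.mem_coe, RingHom.mem_ker, ← coeff_map, h1, h, sub_self, coeff_zero]
    exact h2 ha

/-- **Bertini–Noether** (elementary form). -/
theorem exists_not_red {R Ω : Type*} [CommRing R] [IsDomain R] [Field Ω] [IsAlgClosed Ω]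
    [Algebra R Ω] [FaithfulSMul R Ω] (f : MvPolynomial σ R)
    (hf : ¬ Red δ (map (algebraMap R Ω) f)) :
    ∃ u : R, u ≠ 0 ∧ ∀ {E : Type*} [CommRing E] [Nontrivial E] (φ : R →+* E), φ u ≠ 0 →
      ¬ Red δ (map φ f) := by
  rcases Nat.eq_zero_or_pos δ with rfl | hδ
  · exact ⟨1, one_ne_zero, fun φ _ h => absurd h.pos (by omega)⟩
  let A := MvPolynomial (Ix σ δ ⊕ Ix σ δ) R
  let I : Ideal A := facIdeal δ f
  have hempty : IsEmpty ((A ⧸ I) →ₐ[R] Ω) := by
    refine ⟨fun χ => hf ?_⟩
    let χ' : A →+* Ω := χ.toRingHom.comp (Ideal.Quotient.mk I)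
    have h1 := (facIdeal_iff δ f χ').mp (fun a ha => by
      change χ (Ideal.Quotient.mk I a) = 0
      rw [Ideal.Quotient.eq_zero_iff_mem.mpr ha, map_zero])
    have h2 : χ'.comp C = algebraMap R Ω := by
      ext r
      exact χ.commutes r
    rw [h2] at h1
    exact ⟨_, _, totalDegree_pol δ hδ _, totalDegree_pol δ hδ _, h1⟩
  obtain ⟨u, hu, hu0⟩ := exists_ne_zero_of_no_hom hempty
  refine ⟨u, hu, fun {E} _ _ φ hφ hred => hφ ?_⟩
  obtain ⟨G, H, hG, hH, hGH⟩ := hred
  let χ : A →+* E := eval₂Hom φ (Sum.elim (fun α => coeff α.1 G) (fun α => coeff α.1 H))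
  have h2 : χ.comp C = φ := by
    ext r
    change eval₂ φ _ (C r) = φ r
    rw [eval₂_C]
  have h1 := (facIdeal_iff δ f χ).mpr (by
    rw [h2, hGH]
    simp only [χ, coe_eval₂Hom, eval₂_X, Sum.elim_inl, Sum.elim_inr]
    rw [pol_coeff δ G hG, pol_coeff δ H hH])
  have h3 : C u ∈ I := Ideal.Quotient.eq_zero_iff_mem.mp hu0
  have h4 := h1 _ h3
  rw [← h2]
  exact h4

end Generic

/-- The notion does not depend on the algebraically closed field, only on the kernel. -/
theorem red_of_ker_eq {σ : Type*} [Finite σ] {δ : ℕ} {A E E' : Type*} [CommRing A] [Field E]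
    [IsAlgClosed E] [Field E'] (f : MvPolynomial σ A) (φ : A →+* E) (ψ : A →+* E')
    (h : RingHom.ker φ ≤ RingHom.ker ψ) (h' : RingHom.ker ψ ≤ RingHom.ker φ)
    (hred : Red δ (map ψ f)) : Red δ (map φ f) := by
  by_contra hcon
  let R := A ⧸ RingHom.ker φ
  have hp : (RingHom.ker φ).IsPrime := RingHom.ker_isPrime φ
  let _ : Algebra R E := (RingHom.kerLift φ).toAlgebra
  have fs : FaithfulSMul R E :=
    (faithfulSMul_iff_algebraMap_injective _ _).mpr (RingHom.kerLift_injective φ)
  have h1 : map (algebraMap R E) (map (Ideal.Quotient.mk (RingHom.ker φ)) f) = map φ f := by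
    rw [map_map]
    rfl
  obtain ⟨u, hu, H⟩ := exists_not_red (Ω := E) δ (map (Ideal.Quotient.mk (RingHom.ker φ)) f)
    (by rw [h1]; exact hcon)
  let ψ' : R →+* E' := Ideal.Quotient.lift (RingHom.ker φ) ψ (fun a ha => h ha)
  have h2 : map ψ' (map (Ideal.Quotient.mk (RingHom.ker φ)) f) = map ψ f := by
    rw [map_map]
    rfl
  refine H ψ' ?_ (by rw [h2]; exact hred)
  intro h0
  obtain ⟨a, rfl⟩ := Ideal.Quotient.mk_surjective u
  apply hu
  rw [Ideal.Quotient.eq_zero_iff_mem]
  exact h' h0

section Val

variable {K : Type*} [Field K] (V : ValuationSubring K)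

theorem exists_scale {σ : Type*} (G : MvPolynomial σ K) (hG : G ≠ 0) :
    ∃ c : K, c ≠ 0 ∧ ∃ G' : MvPolynomial σ V, map V.subtype G' = C c * G ∧
      G'.totalDegree ≤ G.totalDegree ∧ map (IsLocalRing.residue V) G' ≠ 0 := by
  classical
  obtain ⟨α, hα, hmax⟩ := G.support.exists_max_image (fun β => V.valuation (coeff β G))
    (Finset.nonempty_iff_ne_empty.mpr fun h => hG (support_eq_empty.mp h))
  have hα0 : coeff α G ≠ 0 := mem_support_iff.mp hα
  have hmem : ∀ β, (coeff α G)⁻¹ * coeff β G ∈ V := by
    intro β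
    by_cases hβ : β ∈ G.support
    · rw [← V.valuation_le_one_iff, map_mul, map_inv₀]
      have h1 := hmax β hβ
      have h2 : V.valuation (coeff α G) ≠ 0 := (V.valuation.ne_zero_iff).mpr hα0
      rw [inv_mul_le_iff₀ (zero_lt_iff.mpr h2), mul_one]
      exact h1
    · rw [notMem_support_iff.mp hβ, mul_zero]
      exact V.zero_mem
  let G' : MvPolynomial σ V := ∑ β ∈ G.support, monomial β ⟨_, hmem β⟩
  have hmap : map V.subtype G' = C (coeff α G)⁻¹ * G := by
    have hs : C (coeff α G)⁻¹ * G =
        ∑ β ∈ G.support, monomial β ((coeff α G)⁻¹ * coeff β G) := by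
      conv_lhs => rw [G.as_sum, Finset.mul_sum]
      rw [← G.as_sum]
      refine Finset.sum_congr rfl fun β _ => ?_
      rw [C_mul_monomial]
    rw [hs]
    simp only [G', map_sum, map_monomial]
    rfl
  refine ⟨(coeff α G)⁻¹, inv_ne_zero hα0, G', hmap, ?_, ?_⟩
  · refine totalDegree_finsetSum_le fun β hβ => ?_
    exact (totalDegree_monomial_le _ _).trans (le_totalDegree hβ)
  · intro h0
    have h1 : coeff α (map (IsLocalRing.residue V) G') = 0 := by rw [h0, coeff_zero]
    rw [coeff_map] at h1
    have h2 : coeff α G' = 1 := by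
      apply V.subtype_injective
      rw [← coeff_map, hmap, coeff_C_mul, inv_mul_cancel₀ hα0]
      rfl
    rw [h2, map_one] at h1
    exact one_ne_zero h1

theorem red_residue {σ : Type*} {δ : ℕ} (f : MvPolynomial σ V) (h : Red δ (map V.subtype f)) :
    Red δ (map (IsLocalRing.residue V) f) := by
  have hδ := h.pos
  obtain ⟨G, H, hG, hH, hGH⟩ := h
  by_cases hf0 : f = 0
  · refine ⟨0, 0, by rwa [totalDegree_zero], by rwa [totalDegree_zero], ?_⟩
    rw [hf0, map_zero, mul_zero]
  have hf1 : map V.subtype f ≠ 0 := fun h0 =>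
    hf0 (map_injective _ V.subtype_injective (by rw [h0, map_zero]))
  have hG0 : G ≠ 0 := by rintro rfl; exact hf1 (by rw [hGH, zero_mul])
  have hH0 : H ≠ 0 := by rintro rfl; exact hf1 (by rw [hGH, mul_zero])
  obtain ⟨c, hc, G', hG', hdG, hGr⟩ := exists_scale V G hG0
  obtain ⟨e, he, H', hH', hdH, hHr⟩ := exists_scale V H hH0
  have hprod : map V.subtype (G' * H') = C (c * e) * map V.subtype f := by
    rw [map_mul, hG', hH', hGH, C_mul]
    ring
  have hce : c * e ≠ 0 := mul_ne_zero hc he
  by_cases hmem : (c * e)⁻¹ ∈ V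
  · have h1 : f = C ⟨(c * e)⁻¹, hmem⟩ * (G' * H') := by
      apply map_injective _ V.subtype_injective
      rw [map_mul, hprod, map_C, ← mul_assoc, ← C_mul]
      change _ = C ((c * e)⁻¹ * (c * e)) * _
      rw [inv_mul_cancel₀ hce, C_1, one_mul]
    refine ⟨C (IsLocalRing.residue V ⟨(c * e)⁻¹, hmem⟩) * map (IsLocalRing.residue V) G',
      map (IsLocalRing.residue V) H', ?_, ?_, ?_⟩
    · refine ((totalDegree_mul _ _).trans ?_).trans_lt (hdG.trans_lt hG)
      rw [totalDegree_C, zero_add]
      exact totalDegree_map_le' _ _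
    · exact (totalDegree_map_le' _ _).trans_lt (hdH.trans_lt hH)
    · conv_lhs => rw [h1]
      rw [map_mul, map_mul, map_C, mul_assoc]
  · exfalso
    have hmem' : c * e ∈ V := by
      rcases V.mem_or_inv_mem (c * e) with h | h
      · exact h
      · exact absurd h hmem
    have h1 : C ⟨c * e, hmem'⟩ * f = G' * H' := by
      apply map_injective _ V.subtype_injective
      rw [hprod, map_mul, map_C]
      rfl
    have h2 : IsLocalRing.residue V ⟨c * e, hmem'⟩ = 0 := by
      rw [IsLocalRing.residue_eq_zero_iff, IsLocalRing.mem_maximalIdeal, mem_nonunits_iff]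
      intro hu
      obtain ⟨⟨w, hw⟩, hw1⟩ := hu.exists_right_inv
      have h3 : c * e * w = 1 := congrArg Subtype.val hw1
      exact hmem (by rw [← eq_inv_of_mul_eq_one_right h3]; exact hw)
    have h3 := congrArg (map (IsLocalRing.residue V)) h1
    rw [map_mul, map_mul, map_C, h2, C_0, zero_mul] at h3
    rcases mul_eq_zero.mp h3.symm with h | h
    · exact hGr h
    · exact hHr h

end Val

/-- **Specialisation**: a reducible polynomial specialises to a reducible one. -/
theorem red_specialize {σ : Type*} [Finite σ] {δ : ℕ} {A Ω E : Type*} [CommRing A] [Field Ω]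
    [Field E] [IsAlgClosed E] (f : MvPolynomial σ A) (ψ : A →+* Ω) (h : Red δ (map ψ f))
    (φ : A →+* E) (hker : RingHom.ker ψ ≤ RingHom.ker φ) : Red δ (map φ f) := by
  let A' : Subring Ω := ψ.range
  let P : Ideal A := RingHom.ker φ
  have hP : P.IsPrime := RingHom.ker_isPrime φ
  let ρ : A →+* A' := ψ.rangeRestrict
  have hρ : Function.Surjective ρ := ψ.rangeRestrict_surjective
  have hkρ : RingHom.ker ρ ≤ P := by
    intro a ha
    refine hker ?_
    rw [RingHom.mem_ker] at ha ⊢
    exact congrArg Subtype.val ha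
  let P' : Ideal A' := P.map ρ
  have hP' : P'.IsPrime := Ideal.map_isPrime_of_surjective hρ hkρ
  have hcomap : P'.comap ρ = P := by
    rw [Ideal.comap_map_of_surjective ρ hρ]
    exact sup_eq_left.mpr (by rwa [← RingHom.ker_eq_comap_bot])
  obtain ⟨V, hV⟩ := (LocalSubring.ofPrime A' P').exists_le_valuationSubring
  have hle : A' ≤ V.toSubring := (LocalSubring.le_ofPrime A' P').trans hV.1
  let j : A →+* V := (Subring.inclusion hle).comp ρ
  have hj : V.subtype.comp j = ψ := rfl
  have hred : Red δ (map ((IsLocalRing.residue V).comp j) f) := by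
    rw [← map_map]
    apply red_residue
    rw [map_map, hj]
    exact h
  have hkr : ∀ a, (IsLocalRing.residue V) (j a) = 0 ↔ a ∈ P := by
    intro a
    rw [IsLocalRing.residue_eq_zero_iff, IsLocalRing.mem_maximalIdeal, mem_nonunits_iff]
    have h1 : IsUnit (algebraMap A' (LocalSubring.ofPrime A' P').toSubring (ρ a)) ↔ a ∉ P := by
      rw [IsLocalization.AtPrime.isUnit_to_map_iff _ P']
      change ρ a ∉ P' ↔ _
      rw [← Ideal.mem_comap, hcomap]
    have h2 : IsUnit (j a) ↔
        IsUnit (algebraMap A' (LocalSubring.ofPrime A' P').toSubring (ρ a)) := by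
      have := hV.2
      exact isUnit_map_iff (Subring.inclusion hV.1)
        (algebraMap A' (LocalSubring.ofPrime A' P').toSubring (ρ a))
    rw [h2, h1, not_not]
  refine red_of_ker_eq f φ ((IsLocalRing.residue V).comp j) ?_ ?_ hred
  · intro a ha
    rw [RingHom.mem_ker, RingHom.comp_apply, hkr]
    exact ha
  · intro a ha
    rw [RingHom.mem_ker, RingHom.comp_apply, hkr] at ha
    exact ha

/-- **The reducible locus is closed**, uniformly for all algebraically closed fields. -/
theorem exists_finset {σ : Type*} [Finite σ] (δ : ℕ) {A : Type*} [CommRing A] [IsNoetherianRing A]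
    (f : MvPolynomial σ A) : ∃ G : Finset A, ∀ {E : Type*} [Field E] [IsAlgClosed E] (φ : A →+* E),
      ¬ Red δ (map φ f) ↔ ∃ g ∈ G, φ g ≠ 0 := by
  classical
  let Z : Set (PrimeSpectrum A) := {P | Red δ (map
    (algebraMap A (AlgebraicClosure P.asIdeal.ResidueField)) f)}
  have hkerP : ∀ P : PrimeSpectrum A, RingHom.ker
      (algebraMap A (AlgebraicClosure P.asIdeal.ResidueField)) = P.asIdeal := by
    intro P
    rw [IsScalarTower.algebraMap_eq A P.asIdeal.ResidueField, RingHom.ker_comp_of_injective _
      (algebraMap P.asIdeal.ResidueField _).injective]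
    exact Ideal.ker_algebraMap_residueField _
  let J := PrimeSpectrum.vanishingIdeal Z
  have main : ∀ P : PrimeSpectrum A, J ≤ P.asIdeal → P ∈ Z := by
    intro P hJP
    obtain ⟨Q, hQ, hQP⟩ := Ideal.exists_minimalPrimes_le hJP
    have hQp : Q.IsPrime := hQ.1.1
    have hQZ : (⟨Q, hQp⟩ : PrimeSpectrum A) ∈ Z := by
      by_contra hcon
      let R := A ⧸ Q
      let Ω := AlgebraicClosure (FractionRing R)
      have fs : FaithfulSMul R Ω := by
        rw [faithfulSMul_iff_algebraMap_injective, IsScalarTower.algebraMap_eq R (FractionRing R) Ω]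
        exact (algebraMap (FractionRing R) Ω).injective.comp (IsFractionRing.injective R _)
      have h1 : ¬ Red δ (map (algebraMap R Ω) (map (Ideal.Quotient.mk Q) f)) := by
        intro h
        apply hcon
        rw [map_map] at h
        refine red_of_ker_eq f _ _ ?_ ?_ h
        · rw [hkerP]
          intro a ha
          rw [RingHom.mem_ker, RingHom.comp_apply, Ideal.Quotient.eq_zero_iff_mem.mpr ha, map_zero]
        · rw [hkerP]
          intro a ha
          rw [RingHom.mem_ker, RingHom.comp_apply, map_eq_zero_iff _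
            (FaithfulSMul.algebraMap_injective R Ω)] at ha
          exact Ideal.Quotient.eq_zero_iff_mem.mp ha
      obtain ⟨u, hu, Hu⟩ := exists_not_red δ _ h1
      obtain ⟨u, rfl⟩ := Ideal.Quotient.mk_surjective u
      have huQ : u ∉ Q := fun h => hu (Ideal.Quotient.eq_zero_iff_mem.mpr h)
      have hfin : J.minimalPrimes.Finite := Ideal.finite_minimalPrimes_of_isNoetherianRing A J
      have hex : ∀ Q' ∈ J.minimalPrimes, Q' ≠ Q → ∃ v ∈ Q', v ∉ Q := by
        intro Q' hQ' hne
        by_contra hcon2
        push Not at hcon2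
        exact hne (le_antisymm hcon2 (hQ.2 hQ'.1 hcon2))
      let v : Ideal A → A := fun Q' =>
        if h : Q' ∈ J.minimalPrimes ∧ Q' ≠ Q then (hex Q' h.1 h.2).choose else 1
      have hv1 : ∀ Q' ∈ J.minimalPrimes, Q' ≠ Q → v Q' ∈ Q' := by
        intro Q' h1 h2
        simp only [v]
        rw [dif_pos ⟨h1, h2⟩]
        exact (hex Q' h1 h2).choose_spec.1
      have hv2 : ∀ Q', v Q' ∉ Q := by
        intro Q'
        simp only [v]
        split_ifs with h
        · exact (hex Q' h.1 h.2).choose_spec.2
        · exact fun h1 => hQp.ne_top ((Ideal.eq_top_iff_one _).mpr h1)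
      let w := ∏ Q' ∈ hfin.toFinset, v Q'
      have hw : w ∉ Q := by
        intro hw
        obtain ⟨Q', _, h⟩ := (hQp.prod_mem_iff).mp hw
        exact hv2 Q' h
      have huw : u * w ∈ J := by
        rw [PrimeSpectrum.mem_vanishingIdeal]
        intro P' hP'
        have hJP' : J ≤ P'.asIdeal := fun a ha => (PrimeSpectrum.mem_vanishingIdeal _ _).mp ha P' hP'
        obtain ⟨Q', hQ', hQP'⟩ := Ideal.exists_minimalPrimes_le hJP'
        by_cases hne : Q' = Q
        · subst hne
          apply Ideal.mul_mem_right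
          by_contra hu'
          let ψ : R →+* AlgebraicClosure P'.asIdeal.ResidueField := Ideal.Quotient.lift Q'
            (algebraMap A _) (fun a ha => by
              have h2 : a ∈ RingHom.ker
                (algebraMap A (AlgebraicClosure P'.asIdeal.ResidueField)) := by
                rw [hkerP]; exact hQP' ha
              exact h2)
          refine Hu ψ ?_ ?_
          · intro h0
            have h2 : u ∈ RingHom.ker
                (algebraMap A (AlgebraicClosure P'.asIdeal.ResidueField)) := h0
            rw [hkerP] at h2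
            exact hu' h2
          · rw [map_map]
            exact hP'
        · apply Ideal.mul_mem_left
          refine hQP' ?_
          exact (Ideal.mem_of_dvd _ (Finset.dvd_prod_of_mem v (hfin.mem_toFinset.mpr hQ'))
            (hv1 Q' hQ' hne))
      rcases hQp.mem_or_mem (hQ.1.2 huw) with h | h
      · exact huQ h
      · exact hw h
    exact red_specialize f _ hQZ _ (by rw [hkerP, hkerP]; exact hQP)
  obtain ⟨G, hG⟩ := (IsNoetherian.noetherian J : J.FG)
  refine ⟨G, fun {E} _ _ φ => ?_⟩
  have hkerpr : (RingHom.ker φ).IsPrime := RingHom.ker_isPrime φ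
  let P : PrimeSpectrum A := ⟨RingHom.ker φ, hkerpr⟩
  have h1 : Red δ (map φ f) ↔ P ∈ Z := by
    constructor
    · intro h
      refine red_of_ker_eq f _ _ ?_ ?_ h
      · rw [hkerP]
      · rw [hkerP]
    · intro h
      refine red_of_ker_eq f _ _ ?_ ?_ h
      · rw [hkerP]
      · rw [hkerP]
  have h2 : P ∈ Z ↔ J ≤ RingHom.ker φ := by
    constructor
    · intro h a ha
      exact (PrimeSpectrum.mem_vanishingIdeal _ _).mp ha P h
    · exact main P
  rw [h1, h2, ← hG, Ideal.span_le]
  simp only [Set.subset_def, SetLike.mem_coe, RingHom.mem_ker, not_forall,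
    exists_prop]

end K669.RedPoly

namespace K669.RedPoly

theorem totalDegree_eval₂_le {ι τ K : Type*} [CommRing K] (e : ℕ) (c : ι → MvPolynomial τ K)
    (hc : ∀ i, (c i).totalDegree ≤ e) (g : MvPolynomial ι ℤ) :
    (eval₂ (Int.castRingHom (MvPolynomial τ K)) c g).totalDegree ≤ g.totalDegree * e := by
  classical
  rw [eval₂_eq]
  refine totalDegree_finsetSum_le fun m hm => ?_
  refine (totalDegree_mul _ _).trans ?_
  have h1 : (Int.castRingHom (MvPolynomial τ K) (coeff m g)).totalDegree = 0 := by
    have : Int.castRingHom (MvPolynomial τ K) (coeff m g) = C ((coeff m g : ℤ) : K) := by simp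
    rw [this, totalDegree_C]
  rw [h1, zero_add]
  refine (totalDegree_finset_prod _ _).trans ?_
  calc ∑ i ∈ m.support, (c i ^ m i).totalDegree ≤ ∑ i ∈ m.support, m i * e :=
        Finset.sum_le_sum fun i _ => (totalDegree_pow _ _).trans (Nat.mul_le_mul_left _ (hc i))
    _ = (∑ i ∈ m.support, m i) * e := (Finset.sum_mul _ _ _).symm
    _ ≤ g.totalDegree * e := Nat.mul_le_mul_right _ (le_totalDegree hm)

/-- **Uniform bound** for the reducible members of a family of polynomials of bounded degree,
the coefficients being polynomials of bounded degree in the parameters. -/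
theorem exists_bound (σ : Type*) [Finite σ] (δ : ℕ) : ∃ D : ℕ, ∀ {K τ : Type*} [Field K]
    [IsAlgClosed K] (e : ℕ) (N : MvPolynomial σ (MvPolynomial τ K)),
    (∀ α, (coeff α N).totalDegree ≤ e) → N.totalDegree ≤ δ → ∀ h₀ : τ → K,
    ¬ Red δ (map (eval h₀) N) → ∃ g : MvPolynomial τ K, g ≠ 0 ∧ g.totalDegree ≤ D * e ∧
      ∀ h : τ → K, eval h g ≠ 0 → ¬ Red δ (map (eval h) N) := by
  classical
  let f₀ : MvPolynomial σ (MvPolynomial (Ix σ (δ + 1)) ℤ) := pol (δ + 1) X
  obtain ⟨G, hG⟩ := exists_finset δ f₀
  refine ⟨G.sup totalDegree, ?_⟩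
  intro K τ _ _ e N hN hδ h₀ hred
  let c : Ix σ (δ + 1) → MvPolynomial τ K := fun α => coeff α.1 N
  let Φ : MvPolynomial (Ix σ (δ + 1)) ℤ →+* MvPolynomial τ K :=
    eval₂Hom (Int.castRingHom _) c
  have hΦ : map Φ f₀ = N := by
    rw [map_pol]
    have : (fun α => Φ (X α)) = c := by
      funext α
      exact eval₂_X _ _ _
    rw [this]
    exact pol_coeff (δ + 1) N (Nat.lt_succ_of_le hδ)
  have hΦ' : ∀ h : τ → K, map ((eval h).comp Φ) f₀ = map (eval h) N := by
    intro h
    rw [← map_map, hΦ]
  obtain ⟨g, hgG, hg⟩ := (hG ((eval h₀).comp Φ)).mp (by rw [hΦ']; exact hred)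
  refine ⟨Φ g, ?_, ?_, ?_⟩
  · intro h0
    exact hg (by rw [RingHom.comp_apply, h0, map_zero])
  · refine (totalDegree_eval₂_le e c (fun α => hN _) g).trans ?_
    exact Nat.mul_le_mul_right _ (Finset.le_sup (f := totalDegree) hgG)
  · intro h hh
    rw [← hΦ']
    exact (hG ((eval h).comp Φ)).mpr ⟨g, hgG, hh⟩

end K669.RedPoly
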