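import Groth.Agent.Zeta.K669.PencilSep
import Groth.Agent.Zeta.K669.RedPoly
import Groth.Agent.Zeta.K468.RD1

/-!
# A pencil of sections of an irreducible hypersurface has an irreducible member
-/

set_option autoImplicit false
universe u v

open IntermediateField
open scoped IntermediateField.algebraAdjoinAdjoin TensorProduct

namespace K669.Pencil

/-- Restriction to a coordinate axis. -/
noncomputable def axis {r : ℕ} (R : Type*) [CommRing R] (i0 : Fin r) :
    MvPolynomial (Fin r) R →ₐ[R] Polynomial R :=
  MvPolynomial.aeval (fun j => if j = i0 then Polynomial.X else 0)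

theorem natDegree_axis_le {r : ℕ} {R : Type*} [CommRing R] (i0 : Fin r)
    (F : MvPolynomial (Fin r) R) : (axis R i0 F).natDegree ≤ F.totalDegree := by
  classical
  rw [axis, MvPolynomial.aeval_def, MvPolynomial.eval₂_eq]
  refine Polynomial.natDegree_sum_le_of_forall_le _ _ fun m hm => ?_
  rw [Polynomial.algebraMap_eq]
  refine (Polynomial.natDegree_C_mul_le _ _).trans ?_
  refine (Polynomial.natDegree_prod_le _ _).trans ?_
  refine le_trans (Finset.sum_le_sum fun i _ => ?_) (MvPolynomial.le_totalDegree hm)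
  refine Polynomial.natDegree_pow_le.trans ?_
  have h : (if i = i0 then (Polynomial.X : Polynomial R) else 0).natDegree ≤ 1 := by
    split_ifs
    · exact Polynomial.natDegree_X_le
    · simp
  calc m i * _ ≤ m i * 1 := Nat.mul_le_mul_left _ h
    _ = m i := mul_one _

theorem axis_map {r : ℕ} {R S : Type*} [CommRing R] [CommRing S] (φ : R →+* S) (i0 : Fin r)
    (F : MvPolynomial (Fin r) R) :
    axis S i0 (MvPolynomial.map φ F) = (axis R i0 F).map φ := by
  have h : (axis S i0).toRingHom.comp (MvPolynomial.map φ) =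
      (Polynomial.mapRingHom φ).comp (axis R i0).toRingHom := by
    apply MvPolynomial.ringHom_ext
    · intro a
      simp [axis]
    · intro i
      simp only [axis, AlgHom.toRingHom_eq_coe, RingHom.coe_comp, RingHom.coe_coe,
        Function.comp_apply, MvPolynomial.map_X, MvPolynomial.aeval_X, Polynomial.coe_mapRingHom]
      split_ifs <;> simp
  exact RingHom.congr_fun h F

section

variable {r : ℕ} {K : Type*} [CommRing K] {B : Type*} [CommRing B] [Algebra K B]

/-- The linear polynomial `w + c X_{i0} - ε X_{i1}`. -/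
noncomputable def lin (i0 i1 : Fin r) (c ε w : B) : MvPolynomial (Fin r) B :=
  MvPolynomial.C w + MvPolynomial.C c * MvPolynomial.X i0 - MvPolynomial.C ε * MvPolynomial.X i1

/-- Substitution of the linear polynomial for the last variable. -/
noncomputable def subst (i0 i1 : Fin r) (c ε w : B) :
    Polynomial (MvPolynomial (Fin r) K) →+* MvPolynomial (Fin r) B :=
  Polynomial.eval₂RingHom (MvPolynomial.map (algebraMap K B)) (lin i0 i1 c ε w)

theorem totalDegree_lin (i0 i1 : Fin r) (c ε w : B) : (lin i0 i1 c ε w).totalDegree ≤ 1 := by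
  rcases subsingleton_or_nontrivial B with h | h
  · have : lin i0 i1 c ε w = 0 := Subsingleton.elim _ _
    rw [this]; simp
  have hX : ∀ (a : B) (i : Fin r), (MvPolynomial.C a * MvPolynomial.X i).totalDegree ≤ 1 := by
    intro a i
    refine (MvPolynomial.totalDegree_mul _ _).trans ?_
    rw [MvPolynomial.totalDegree_C, zero_add, MvPolynomial.totalDegree_X]
  refine (MvPolynomial.totalDegree_sub _ _).trans (max_le ?_ (hX _ _))
  refine (MvPolynomial.totalDegree_add _ _).trans (max_le ?_ (hX _ _))
  rw [MvPolynomial.totalDegree_C]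
  exact zero_le

theorem totalDegree_subst (i0 i1 : Fin r) (c ε w : B) (f : Polynomial (MvPolynomial (Fin r) K))
    (δ : ℕ) (hf : f.natDegree ≤ δ) (hdeg : ∀ i ≤ δ, (f.coeff i).totalDegree + i ≤ δ) :
    (subst i0 i1 c ε w f).totalDegree ≤ δ := by
  rw [subst, Polynomial.coe_eval₂RingHom, Polynomial.eval₂_eq_sum_range]
  refine MvPolynomial.totalDegree_finsetSum_le fun i hi => ?_
  have hi' : i ≤ δ := by
    have := Finset.mem_range.mp hi
    omega
  refine (MvPolynomial.totalDegree_mul _ _).trans ?_
  refine le_trans (add_le_add (RedPoly.totalDegree_map_le' _ _)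
    ((MvPolynomial.totalDegree_pow _ _).trans (Nat.mul_le_mul_left i (totalDegree_lin i0 i1 c ε w)))) ?_
  rw [mul_one]
  exact hdeg i hi'

/-- The leading coefficient along the axis, as a polynomial in `c`. -/
noncomputable def topc (i0 : Fin r) (f : Polynomial (MvPolynomial (Fin r) K)) (δ : ℕ) :
    Polynomial K :=
  ∑ i ∈ Finset.range (δ + 1), Polynomial.monomial i ((axis K i0 (f.coeff i)).coeff (δ - i))

theorem topc_coeff (i0 : Fin r) (f : Polynomial (MvPolynomial (Fin r) K)) (δ : ℕ) (i : ℕ)
    (hi : i ≤ δ) : (topc i0 f δ).coeff i = (axis K i0 (f.coeff i)).coeff (δ - i) := by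
  rw [topc, Polynomial.finsetSum_coeff, Finset.sum_eq_single i]
  · rw [Polynomial.coeff_monomial, if_pos rfl]
  · intro j _ hj
    rw [Polynomial.coeff_monomial, if_neg hj]
  · intro h
    exact absurd (Finset.mem_range.mpr (by omega)) h

theorem axis_subst_coeff (i0 i1 : Fin r) (h01 : i1 ≠ i0) (c : K) (ε w : B)
    (f : Polynomial (MvPolynomial (Fin r) K))
    (δ : ℕ) (hf : f.natDegree ≤ δ) (hdeg : ∀ i ≤ δ, (f.coeff i).totalDegree + i ≤ δ) :
    (axis B i0 (subst i0 i1 (algebraMap K B c) ε w f)).coeff δ =
      algebraMap K B ((topc i0 f δ).eval c) := by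
  have hlin : axis B i0 (lin i0 i1 (algebraMap K B c) ε w) =
      Polynomial.C w + Polynomial.C (algebraMap K B c) * Polynomial.X := by
    simp only [lin, axis, map_sub, map_add, map_mul, MvPolynomial.aeval_X,
      if_neg h01, mul_zero, sub_zero, if_true]
    rw [← MvPolynomial.algebraMap_eq, AlgHom.commutes, AlgHom.commutes, Polynomial.algebraMap_eq]
  have hnat : (Polynomial.C w + Polynomial.C (algebraMap K B c) * Polynomial.X).natDegree ≤ 1 := by
    refine (Polynomial.natDegree_add_le _ _).trans (max_le (by simp) ?_)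
    refine (Polynomial.natDegree_C_mul_le _ _).trans Polynomial.natDegree_X_le
  have hcf : (Polynomial.C w + Polynomial.C (algebraMap K B c) * Polynomial.X).coeff 1 =
      algebraMap K B c := by
    simp [Polynomial.coeff_C]
  rw [subst, Polynomial.coe_eval₂RingHom, Polynomial.eval₂_eq_sum_range' _
    (Nat.lt_succ_of_le hf), map_sum, Polynomial.finsetSum_coeff, topc, Polynomial.eval_finsetSum,
    map_sum]
  refine Finset.sum_congr rfl fun i hi => ?_
  have hi' : i ≤ δ := by
    have := Finset.mem_range.mp hi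
    omega
  rw [map_mul, map_pow, hlin, axis_map]
  have hδ : δ = (δ - i) + i := by omega
  have h1 : ((axis K i0 (f.coeff i)).map (algebraMap K B)).natDegree ≤ δ - i := by
    refine Polynomial.natDegree_map_le.trans ((natDegree_axis_le _ _).trans ?_)
    have := hdeg i hi'
    omega
  have h2 : ((Polynomial.C w + Polynomial.C (algebraMap K B c) * Polynomial.X) ^ i).natDegree ≤
      i := by
    refine Polynomial.natDegree_pow_le.trans ?_
    calc i * _ ≤ i * 1 := Nat.mul_le_mul_left _ hnat
      _ = i := mul_one i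
  conv_lhs => rw [hδ]
  rw [Polynomial.coeff_mul_add_eq_of_natDegree_le h1 h2, Polynomial.coeff_map, Polynomial.eval_monomial,
    map_mul, map_pow]
  congr 1
  have h3 := Polynomial.coeff_pow_of_natDegree_le (m := i) hnat
  rw [mul_one] at h3
  rw [h3, hcf]

end

theorem map_subst {r : ℕ} {K B B' : Type*} [CommRing K] [CommRing B] [CommRing B'] [Algebra K B]
    [Algebra K B'] (φ : B →ₐ[K] B') (i0 i1 : Fin r) (c ε w : B)
    (f : Polynomial (MvPolynomial (Fin r) K)) :
    MvPolynomial.map φ.toRingHom (subst i0 i1 c ε w f) = subst i0 i1 (φ c) (φ ε) (φ w) f := by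
  have h : (MvPolynomial.map φ.toRingHom).comp (subst (K := K) i0 i1 c ε w) =
      subst i0 i1 (φ c) (φ ε) (φ w) := by
    apply Polynomial.ringHom_ext'
    · apply MvPolynomial.ringHom_ext
      · intro a
        simp [subst]
      · intro i
        simp [subst]
    · simp [subst, lin]
  exact RingHom.congr_fun h f

theorem subst_self {r : ℕ} {K : Type*} [CommRing K] (i0 i1 : Fin r) (c ε w : K)
    (f : Polynomial (MvPolynomial (Fin r) K)) :
    subst i0 i1 c ε w f = f.eval (lin i0 i1 c ε w) := by
  have h : MvPolynomial.map (algebraMap K K) = RingHom.id (MvPolynomial (Fin r) K) := by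
    apply MvPolynomial.ringHom_ext <;> intro <;> simp
  rw [subst, Polynomial.coe_eval₂RingHom, h, Polynomial.eval₂_id]

theorem aeval_subst {r : ℕ} {K B L : Type*} [CommRing K] [CommRing B] [CommRing L] [Algebra K B]
    [Algebra K L] [Algebra B L] [IsScalarTower K B L] (i0 i1 : Fin r) (c ε w : B) (y : Fin r → L)
    (z : L) (hz : z = algebraMap B L w + algebraMap B L c * y i0 - algebraMap B L ε * y i1)
    (f : Polynomial (MvPolynomial (Fin r) K)) :
    MvPolynomial.aeval y (subst i0 i1 c ε w f) =
      Polynomial.eval₂ (MvPolynomial.aeval y : MvPolynomial (Fin r) K →ₐ[K] L).toRingHom z f := by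
  have h : ((MvPolynomial.aeval y : MvPolynomial (Fin r) B →ₐ[B] L).toRingHom.comp
      (subst (K := K) i0 i1 c ε w)) =
      Polynomial.eval₂RingHom (MvPolynomial.aeval y : MvPolynomial (Fin r) K →ₐ[K] L).toRingHom z := by
    apply Polynomial.ringHom_ext'
    · apply MvPolynomial.ringHom_ext
      · intro a
        simp [subst, ← IsScalarTower.algebraMap_apply]
      · intro i
        simp [subst]
    · simp [subst, lin, hz]
  exact RingHom.congr_fun h f

theorem subst_surjective {r : ℕ} {K B : Type*} [CommRing K] [CommRing B] [Algebra K B]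
    (i0 i1 : Fin r) (c ε : K) (w : B)
    (hw : Function.Surjective (Polynomial.aeval w : Polynomial K →ₐ[K] B)) :
    Function.Surjective (subst (K := K) i0 i1 (algebraMap K B c) (algebraMap K B ε) w) := by
  intro g
  let s : Polynomial (MvPolynomial (Fin r) K) →+* MvPolynomial (Fin r) B :=
    subst i0 i1 (algebraMap K B c) (algebraMap K B ε) w
  change ∃ a, s a = g
  have hX : ∀ i, s (Polynomial.C (MvPolynomial.X i)) = MvPolynomial.X i := by
    intro i; simp [s, subst]
  let W : Polynomial (MvPolynomial (Fin r) K) := Polynomial.X -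
    Polynomial.C (MvPolynomial.C c * MvPolynomial.X i0) +
    Polynomial.C (MvPolynomial.C ε * MvPolynomial.X i1)
  have hW : s W = MvPolynomial.C w := by
    simp only [s, W, subst, lin, map_add, map_sub, Polynomial.coe_eval₂RingHom,
      Polynomial.eval₂_X, Polynomial.eval₂_C, map_mul, MvPolynomial.map_C, MvPolynomial.map_X]
    ring
  have hC : ∀ b : B, ∃ a, s a = MvPolynomial.C b := by
    intro b
    obtain ⟨p, rfl⟩ := hw b
    refine ⟨Polynomial.eval₂ (Polynomial.C.comp MvPolynomial.C) W p, ?_⟩
    rw [Polynomial.hom_eval₂, hW]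
    have h1 : (s.comp (Polynomial.C.comp MvPolynomial.C)) =
        (MvPolynomial.C (σ := Fin r)).comp (algebraMap K B) := by
      ext a
      simp [s, subst]
    rw [h1, ← Polynomial.hom_eval₂]
    rfl
  induction g using MvPolynomial.induction_on with
  | C b => exact hC b
  | add p q hp hq =>
    obtain ⟨a, ha⟩ := hp
    obtain ⟨b, hb⟩ := hq
    exact ⟨a + b, by rw [map_add, ha, hb]⟩
  | mul_X p i hp =>
    obtain ⟨a, ha⟩ := hp
    exact ⟨a * Polynomial.C (MvPolynomial.X i), by rw [map_mul, ha, hX]⟩

theorem irreducible_of_ker {B M L Ω : Type u} [CommRing B] [IsDomain B] [Field M] [Field L]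
    [Algebra B M] [IsFractionRing B M] [Algebra B L] [Algebra M L] [IsScalarTower B M L]
    [Field Ω] [Algebra B Ω] [Algebra M Ω] [IsScalarTower B M Ω]
    [IsDomain (Ω ⊗[M] L)] {r : ℕ} (y : Fin r → L) (F : MvPolynomial (Fin r) B)
    (hker : ∀ g : MvPolynomial (Fin r) B, MvPolynomial.aeval y g = 0 ↔ F ∣ g)
    (hF : MvPolynomial.map (algebraMap B Ω) F ≠ 0) :
    Irreducible (MvPolynomial.map (algebraMap B Ω) F) := by
  let g : (MvPolynomial (Fin r) B ⧸ Ideal.span {F}) →ₐ[B] L :=
    Ideal.Quotient.liftₐ (Ideal.span {F}) (MvPolynomial.aeval y) (by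
      intro a ha
      rw [hker]
      exact Ideal.mem_span_singleton.mp ha)
  have hg : Function.Injective g := by
    rw [injective_iff_map_eq_zero]
    intro a ha
    obtain ⟨a, rfl⟩ := Ideal.Quotient.mk_surjective a
    rw [Ideal.Quotient.eq_zero_iff_mem, Ideal.mem_span_singleton, ← hker]
    exact ha
  have hdomD : IsDomain (Ω ⊗[B] (MvPolynomial (Fin r) B ⧸ Ideal.span {F})) :=
    K468.Cnt.isDomain_tensor_of_injective (B := B) (M := M) (L := L) (Ω := Ω) g hg
  exact K468.Cnt.irreducible_of_isDomain_tensor F hF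

theorem exists_section_aux {K L B M : Type u} [Field K] [Infinite K] [Field L] [Algebra K L]
    [CommRing B] [IsDomain B] [Algebra K B] [Algebra B L] [IsScalarTower K B L] [Field M]
    [Algebra B M] [IsFractionRing B M] [Algebra M L] [IsScalarTower B M L]
    [IsDomain (AlgebraicClosure M ⊗[M] L)] {r : ℕ} (y : Fin r → L) (i0 i1 : Fin r) (h01 : i1 ≠ i0)
    (c ε : K) (z : L) (wB : B)
    (hwB : Function.Surjective (Polynomial.aeval wB : Polynomial K →ₐ[K] B))
    (hwBi : Function.Injective (Polynomial.aeval wB : Polynomial K →ₐ[K] B))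
    (hz : z = algebraMap B L wB + algebraMap B L (algebraMap K B c) * y i0 -
      algebraMap B L (algebraMap K B ε) * y i1)
    (f : Polynomial (MvPolynomial (Fin r) K))
    (hker : ∀ g : Polynomial (MvPolynomial (Fin r) K),
      Polynomial.eval₂ (MvPolynomial.aeval y : MvPolynomial (Fin r) K →ₐ[K] L).toRingHom z g = 0 ↔
        f ∣ g)
    (hδ : 0 < f.natDegree)
    (hdeg : ∀ i ≤ f.natDegree, (f.coeff i).totalDegree + i ≤ f.natDegree)
    (hc1 : (topc i0 f f.natDegree).eval c ≠ 0) :
    ∃ b : K, ¬ RedPoly.Red f.natDegree (f.eval (lin i0 i1 c ε b)) := by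
  classical
  set δ := f.natDegree with hδdef
  let F : MvPolynomial (Fin r) B := subst i0 i1 (algebraMap K B c) (algebraMap K B ε) wB f
  have hkerψ : ∀ g : MvPolynomial (Fin r) B, MvPolynomial.aeval y g = 0 ↔ F ∣ g := by
    intro g
    obtain ⟨g', rfl⟩ := subst_surjective i0 i1 c ε wB hwB g
    rw [aeval_subst i0 i1 _ _ _ y z hz, hker]
    constructor
    · exact fun h => map_dvd _ h
    · rintro ⟨q, hq⟩
      obtain ⟨q', rfl⟩ := subst_surjective i0 i1 c ε wB hwB q
      rw [← hker, ← aeval_subst i0 i1 _ _ _ y z hz, hq, map_mul]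
      have : MvPolynomial.aeval y F = 0 := by
        rw [aeval_subst i0 i1 _ _ _ y z hz, hker]
      rw [this, zero_mul]
  let Ω := AlgebraicClosure M
  have injΩ : Function.Injective (algebraMap B Ω) := by
    rw [IsScalarTower.algebraMap_eq B M Ω]
    exact (algebraMap M Ω).injective.comp (IsFractionRing.injective B M)
  have fsΩ : FaithfulSMul B Ω := (faithfulSMul_iff_algebraMap_injective _ _).mpr injΩ
  have injKB : Function.Injective (algebraMap K B) := (algebraMap K B).injective
  let F' := MvPolynomial.map (algebraMap B Ω) F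
  have hcoef : (axis Ω i0 F').coeff δ ≠ 0 := by
    rw [axis_map, Polynomial.coeff_map, axis_subst_coeff i0 i1 h01 c _ _ f δ le_rfl hdeg]
    intro h0
    have h1 := injΩ (h0.trans (map_zero _).symm)
    have h2 := injKB (h1.trans (map_zero _).symm)
    exact hc1 h2
  have hF'0 : F' ≠ 0 := by
    intro h0
    apply hcoef
    rw [h0, map_zero, Polynomial.coeff_zero]
  have hle : F'.totalDegree ≤ δ := (RedPoly.totalDegree_map_le' _ _).trans
    (totalDegree_subst i0 i1 _ _ _ f δ le_rfl hdeg)
  have hge : δ ≤ F'.totalDegree :=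
    (Polynomial.le_natDegree_of_ne_zero hcoef).trans (natDegree_axis_le _ _)
  have hirr : Irreducible F' := irreducible_of_ker (M := M) y F hkerψ hF'0
  have hnot : ¬ RedPoly.Red δ F' :=
    (RedPoly.not_red_iff hδ hle).mpr ⟨hirr, le_antisymm hle hge⟩
  obtain ⟨u, hu, H⟩ := RedPoly.exists_not_red (Ω := Ω) δ F hnot
  let e := AlgEquiv.ofBijective (Polynomial.aeval wB : Polynomial K →ₐ[K] B) ⟨hwBi, hwB⟩
  obtain ⟨b, hb⟩ : ∃ b : K, (e.symm u).eval b ≠ 0 := by
    by_contra hcon
    push Not at hcon
    have h1 : e.symm u = 0 := Polynomial.funext fun x => by rw [hcon x, Polynomial.eval_zero]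
    exact hu (by rw [← e.apply_symm_apply u, h1, map_zero])
  let φ : B →ₐ[K] K := (Polynomial.aeval b : Polynomial K →ₐ[K] K).comp e.symm.toAlgHom
  refine ⟨b, ?_⟩
  have h1 := H φ.toRingHom (by
    change Polynomial.aeval b (e.symm u) ≠ 0
    rw [Polynomial.coe_aeval_eq_eval]
    exact hb)
  have h2 : φ wB = b := by
    change Polynomial.aeval b (e.symm wB) = b
    have h3 : e.symm wB = Polynomial.X := by
      rw [AlgEquiv.symm_apply_eq]
      exact (Polynomial.aeval_X wB).symm
    rw [h3, Polynomial.aeval_X]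
  rw [map_subst, h2, AlgHom.commutes, AlgHom.commutes, Algebra.algebraMap_self_apply,
    Algebra.algebraMap_self_apply, subst_self] at h1
  exact h1

theorem aeval_adjoin_surjective {K L : Type*} [Field K] [Field L] [Algebra K L] (w : L)
    (hw : w ∈ Algebra.adjoin K {w}) : Function.Surjective
      (Polynomial.aeval (⟨w, hw⟩ : Algebra.adjoin K {w}) : Polynomial K →ₐ[K] Algebra.adjoin K {w}) := by
  rintro ⟨x, hx⟩
  have hx' : x ∈ (Polynomial.aeval w : Polynomial K →ₐ[K] L).range := by
    rw [← Algebra.adjoin_singleton_eq_range_aeval]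
    exact hx
  obtain ⟨p, hp⟩ := hx'
  refine ⟨p, Subtype.ext ?_⟩
  have h1 := Polynomial.aeval_algHom_apply (Algebra.adjoin K {w}).val
    (⟨w, hw⟩ : Algebra.adjoin K {w}) p
  exact h1.symm.trans hp

theorem aeval_adjoin_injective {K L : Type*} [Field K] [Field L] [Algebra K L] (w : L)
    (hw : w ∈ Algebra.adjoin K {w}) (htr : Transcendental K w) : Function.Injective
      (Polynomial.aeval (⟨w, hw⟩ : Algebra.adjoin K {w}) : Polynomial K →ₐ[K] Algebra.adjoin K {w}) := by
  intro p q hpq
  apply transcendental_iff_injective.mp htr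
  have h1 := congrArg (Algebra.adjoin K {w}).val hpq
  rw [← Polynomial.aeval_algHom_apply, ← Polynomial.aeval_algHom_apply] at h1
  exact h1

/-- **Bertini for pencils**: a pencil of hyperplane sections of an irreducible hypersurface.
`y'` is a separating transcendence basis of `L` over `K` containing the coordinates `y`. -/
theorem exists_section {K L : Type u} [Field K] [IsAlgClosed K] [Field L] [Algebra K L] {r : ℕ}
    {ι : Type} [Finite ι] (y' : ι → L) (hy : AlgebraicIndependent K y')
    [Algebra.EssFiniteType K L] [Algebra.IsSeparable (adjoin K (Set.range y')) L] (j : Fin r → ι)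
    (hj : Function.Injective j) (i0 i1 : Fin r) (h01 : i1 ≠ i0) (ε : K) (z : L)
    (hind : AlgebraicIndependent K ![y' (j i0), z + algebraMap K L ε * y' (j i1)])
    (f : Polynomial (MvPolynomial (Fin r) K)) (hf : f.Monic)
    (hker : ∀ g : Polynomial (MvPolynomial (Fin r) K),
      Polynomial.eval₂ (MvPolynomial.aeval (fun i => y' (j i)) :
        MvPolynomial (Fin r) K →ₐ[K] L).toRingHom z g = 0 ↔ f ∣ g)
    (hδ : 0 < f.natDegree)
    (hdeg : ∀ i ≤ f.natDegree, (f.coeff i).totalDegree + i ≤ f.natDegree) :
    ∃ b c : K, ¬ RedPoly.Red f.natDegree (f.eval (lin i0 i1 c ε b)) := by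
  classical
  set δ := f.natDegree with hδdef
  have hinf : Infinite K := IsAlgClosed.instInfinite
  -- the leading coefficient
  have hP : topc i0 f δ ≠ 0 := by
    intro h0
    have h1 := topc_coeff i0 f δ δ le_rfl
    rw [h0, Polynomial.coeff_zero, Nat.sub_self, hδdef, hf.coeff_natDegree, map_one] at h1
    simp at h1
  obtain ⟨Bad, hBad, hsep⟩ := exists_sub_separable y' (j i0) (j i1) (fun h => h01 (hj h)) ε z
  let C : Set K := ({c | (topc i0 f δ).IsRoot c} ∪ Bad)ᶜ
  have hC : C.Infinite := by
    apply Set.Finite.infinite_compl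
    exact (Polynomial.finite_setOfPred_isRoot hP).union hBad.finite
  obtain ⟨c, hcC, hclosed⟩ :=
    exists_sepClosed (y' (j i0)) (z + algebraMap K L ε * y' (j i1)) hind C hC
  have hc1 : (topc i0 f δ).eval c ≠ 0 := fun h => hcC (Or.inl h)
  have hc2 : c ∉ Bad := fun h => hcC (Or.inr h)
  let w : L := z + algebraMap K L ε * y' (j i1) - algebraMap K L c * y' (j i0)
  let t : ι → L := Function.update y' (j i0) w
  have hsepc : Algebra.IsSeparable (adjoin K (Set.range t)) L := hsep c hc2
  have halg : Algebra.IsAlgebraic (Algebra.adjoin K (Set.range t)) L :=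
    isAlgebraic_adjoin_iff_top.mp inferInstance
  have ht : AlgebraicIndependent K t := by
    have hle := hy.lift_cardinalMk_le_trdeg
    exact (Algebra.IsAlgebraic.isTranscendenceBasis_of_lift_le_trdeg_of_finite K t hle).1
  let M : IntermediateField K L := adjoin K {w}
  let v : ({j i0}ᶜ : Set ι) → L := fun l => t l
  have hv : AlgebraicIndependent M v := by
    have h1 := ht.adjoin_of_disjoint (s := {j i0}) (t := {j i0}ᶜ) disjoint_compl_right
    have h2 : t '' {j i0} = {w} := by
      rw [Set.image_singleton]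
      simp [t]
    rw [h2] at h1
    exact algebraicIndependent_adjoin_iff.mpr h1
  have hsepv : Algebra.IsSeparable (adjoin M (Set.range v)) L := by
    let G : IntermediateField K L := adjoin K (Set.range t)
    have hG : G ≤ (adjoin M (Set.range v)).restrictScalars K := by
      rw [adjoin_le_iff]
      rintro _ ⟨l, rfl⟩
      by_cases hl : l = j i0
      · rw [hl]
        have h1 : t (j i0) = w := by simp [t]
        rw [h1]
        exact (adjoin M (Set.range v)).algebraMap_mem ⟨w, mem_adjoin_simple_self K w⟩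
      · exact subset_adjoin M (Set.range v) ⟨⟨l, hl⟩, rfl⟩
    let H : IntermediateField G L := extendScalars hG
    have h2 : Algebra.IsSeparable H L := Algebra.isSeparable_tower_top_of_isSeparable G H L
    exact h2
  have hM : ∀ a : L, IsSeparable M a → a ∈ (algebraMap M L).range := fun a ha =>
    ⟨⟨a, hclosed a ha⟩, rfl⟩
  have hdom : IsDomain (AlgebraicClosure M ⊗[M] L) :=
    K468.Cnt.isDomain_tensor_algClosure (M := M) (L := L) hM hv
  -- the ring `B = K[w]`
  have hwtr : Transcendental K w := by
    have h1 := ht.transcendental (j i0)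
    have h2 : t (j i0) = w := by simp [t]
    rwa [h2] at h1
  have hwm : w ∈ Algebra.adjoin K {w} := Algebra.self_mem_adjoin_singleton K w
  obtain ⟨b, hb⟩ := exists_section_aux (K := K) (L := L) (B := Algebra.adjoin K {w}) (M := M)
    (fun i => y' (j i)) i0 i1 h01 c ε z ⟨w, hwm⟩ (aeval_adjoin_surjective w hwm)
    (aeval_adjoin_injective w hwm hwtr) (by
      change z = w + algebraMap K L c * y' (j i0) - algebraMap K L ε * y' (j i1)
      simp only [w]
      ring) f hker hδ hdeg hc1
  exact ⟨b, c, hb⟩

end K669.Pencil
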