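import Groth.Agent.Zeta.K669.NormPrime
import Groth.Agent.Zeta.K669.PencilIrr
import Groth.Agent.Zeta.K669.Noether

/-!
# Norm forms of linear forms on a cone
-/

set_option autoImplicit false
universe u v

open MvPolynomial
open K669.NormPrime

attribute [local instance] FractionRing.liftAlgebra

namespace K669.Cone

section Graded

variable {K : Type*} [Field K] {S : Type*} [CommRing S] [IsDomain S] [Algebra K S] {s : ℕ}
  [Algebra (MvPolynomial (Fin s) K) S] [IsScalarTower K (MvPolynomial (Fin s) K) S]
  [FaithfulSMul (MvPolynomial (Fin s) K) S] [Module.Finite (MvPolynomial (Fin s) K) S]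
  (γ : S →ₐ[K] Polynomial S)
  (hγ : ∀ i, γ (algebraMap (MvPolynomial (Fin s) K) S (X i)) =
    Polynomial.C (algebraMap (MvPolynomial (Fin s) K) S (X i)) * Polynomial.X)

omit [IsDomain S] [FaithfulSMul (MvPolynomial (Fin s) K) S]
  [Module.Finite (MvPolynomial (Fin s) K) S] in
include hγ in
theorem γ_monomial (α : Fin s →₀ ℕ) (a : K) :
    γ (algebraMap (MvPolynomial (Fin s) K) S (monomial α a)) =
      Polynomial.C (algebraMap (MvPolynomial (Fin s) K) S (monomial α a)) *
        Polynomial.X ^ α.degree := by
  rw [monomial_eq, map_mul, map_mul, Finsupp.prod, map_prod, map_prod, map_mul, map_prod]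
  have h1 : γ (algebraMap (MvPolynomial (Fin s) K) S (C a)) =
      Polynomial.C (algebraMap (MvPolynomial (Fin s) K) S (C a)) := by
    rw [← MvPolynomial.algebraMap_eq, ← IsScalarTower.algebraMap_apply, AlgHom.commutes]
    rfl
  have h2 : ∀ i, γ (algebraMap (MvPolynomial (Fin s) K) S (X i ^ α i)) =
      Polynomial.C (algebraMap (MvPolynomial (Fin s) K) S (X i ^ α i)) * Polynomial.X ^ α i := by
    intro i
    rw [map_pow, map_pow, hγ, mul_pow, ← map_pow]
  rw [h1, Finset.prod_congr rfl (fun i _ => h2 i), Finset.prod_mul_distrib,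
    Finset.prod_pow_eq_pow_sum, mul_assoc]
  rfl

omit [IsDomain S] [FaithfulSMul (MvPolynomial (Fin s) K) S]
  [Module.Finite (MvPolynomial (Fin s) K) S] in
include hγ in
theorem γ_coeff (b : MvPolynomial (Fin s) K) (m : ℕ) :
    (γ (algebraMap (MvPolynomial (Fin s) K) S b)).coeff m =
      algebraMap (MvPolynomial (Fin s) K) S (homogeneousComponent m b) := by
  classical
  conv_lhs => rw [b.as_sum, map_sum, map_sum, Polynomial.finsetSum_coeff]
  rw [homogeneousComponent_apply, map_sum, Finset.sum_filter]
  refine Finset.sum_congr rfl fun α _ => ?_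
  rw [γ_monomial γ hγ, Polynomial.coeff_C_mul, Polynomial.coeff_X_pow]
  by_cases h : α.degree = m
  · rw [if_pos h, if_pos h.symm, mul_one]
  · rw [if_neg h, if_neg (fun h' => h h'.symm), mul_zero]

include hγ in
/-- The minimal polynomial of a linear form is homogeneous. -/
theorem minpoly_homog (x : S) (hx : γ x = Polynomial.C x * Polynomial.X) (i : ℕ)
    (hi : i ≤ (minpoly (MvPolynomial (Fin s) K) x).natDegree) :
    ((minpoly (MvPolynomial (Fin s) K) x).coeff i).IsHomogeneous
      ((minpoly (MvPolynomial (Fin s) K) x).natDegree - i) := by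
  set f := minpoly (MvPolynomial (Fin s) K) x with hf
  set e := f.natDegree with he
  have hint : IsIntegral (MvPolynomial (Fin s) K) x := Algebra.IsIntegral.isIntegral x
  have hmon : f.Monic := minpoly.monic hint
  let g : Polynomial (MvPolynomial (Fin s) K) :=
    ∑ i ∈ Finset.range (e + 1), Polynomial.monomial i (homogeneousComponent (e - i) (f.coeff i))
  have hgc : ∀ i ≤ e, g.coeff i = homogeneousComponent (e - i) (f.coeff i) := by
    intro i hi
    rw [Polynomial.finsetSum_coeff, Finset.sum_eq_single i]
    · rw [Polynomial.coeff_monomial, if_pos rfl]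
    · intro j _ hj
      rw [Polynomial.coeff_monomial, if_neg hj]
    · intro h
      exact absurd (Finset.mem_range.mpr (by omega)) h
  have hgdeg : g.natDegree ≤ e := by
    refine Polynomial.natDegree_sum_le_of_forall_le _ _ fun i hi => ?_
    refine (Polynomial.natDegree_monomial_le _).trans ?_
    have := Finset.mem_range.mp hi
    omega
  have hge : g.coeff e = 1 := by
    rw [hgc e le_rfl, Nat.sub_self, he, hmon.coeff_natDegree, homogeneousComponent_zero]
    simp
  have hgmon : g.Monic := Polynomial.monic_of_natDegree_le_of_coeff_eq_one e hgdeg hge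
  have hgd : g.natDegree = e := by
    refine le_antisymm hgdeg (Polynomial.le_natDegree_of_ne_zero ?_)
    rw [hge]; exact one_ne_zero
  have hgx : Polynomial.aeval x g = 0 := by
    have h1 : γ (Polynomial.aeval x f) = 0 := by rw [minpoly.aeval, map_zero]
    rw [Polynomial.aeval_eq_sum_range, map_sum] at h1
    have h2 := congrArg (fun p => Polynomial.coeff p e) h1
    simp only [Polynomial.finsetSum_coeff, Polynomial.coeff_zero] at h2
    rw [map_sum, ← h2]
    refine Finset.sum_congr rfl fun i hi => ?_
    have hi' : i ≤ e := by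
      have := Finset.mem_range.mp hi
      omega
    rw [Polynomial.aeval_monomial, Algebra.smul_def, map_mul, map_pow, hx, mul_pow, ← map_pow,
      ← mul_assoc]
    have h3 : e = (e - i) + i := by omega
    conv_rhs => rw [h3]
    rw [Polynomial.coeff_mul_X_pow, Polynomial.coeff_mul_C, γ_coeff γ hγ]
  have hfg : g = f := by
    refine _root_.IsIntegrallyClosed.minpoly.unique hgmon hgx ?_
    intro Q hQ hQx
    rw [Polynomial.degree_eq_natDegree hgmon.ne_zero, hgd, he,
      ← Polynomial.degree_eq_natDegree hmon.ne_zero]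
    exact minpoly.min _ x hQ hQx
  have h4 : f.coeff i = homogeneousComponent (e - i) (f.coeff i) := by
    rw [← hgc i hi, hfg]
  rw [h4]
  exact homogeneousComponent_isHomogeneous _ _

include hγ in
theorem totalDegree_nrm_le (x : S) (hx : γ x = Polynomial.C x * Polynomial.X) :
    (nrm (MvPolynomial (Fin s) K) x).totalDegree ≤
      Module.finrank (FractionRing (MvPolynomial (Fin s) K)) (FractionRing S) := by
  have h1 := minpoly_homog γ hγ x hx 0 (Nat.zero_le _)
  rw [Nat.sub_zero] at h1
  rw [nrm, ← natDegree_minpoly_mul (B := MvPolynomial (Fin s) K) x]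
  refine (totalDegree_pow _ _).trans ?_
  rw [mul_comm]
  refine Nat.mul_le_mul_right _ ?_
  have h2 : ((-1 : MvPolynomial (Fin s) K)) ^
      (minpoly (MvPolynomial (Fin s) K) x).natDegree =
      C ((-1) ^ (minpoly (MvPolynomial (Fin s) K) x).natDegree) := by
    simp
  rw [h2]
  refine (totalDegree_mul _ _).trans ?_
  rw [totalDegree_C, zero_add]
  exact h1.totalDegree_le

end Graded

section Poly

/-- A polynomial with coefficients in a `K`-algebra vanishing at all `K`-points is zero. -/
theorem eq_zero_of_eval {K A : Type*} [Field K] [Infinite K] [CommRing A] [Algebra K A]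
    {τ : Type*} (Q : MvPolynomial τ A)
    (h : ∀ a : τ → K, eval (fun i => algebraMap K A (a i)) Q = 0) : Q = 0 := by
  classical
  ext α
  rw [coeff_zero, ← Module.forall_dual_apply_eq_zero_iff K (coeff α Q)]
  intro φ
  let Qφ : MvPolynomial τ K := ∑ β ∈ Q.support, monomial β (φ (coeff β Q))
  have h1 : Qφ = 0 := by
    refine MvPolynomial.funext fun a => ?_
    have h2 := congrArg φ (h a)
    rw [eval_eq, map_sum, map_zero] at h2
    rw [map_sum, map_zero, ← h2]
    refine Finset.sum_congr rfl fun β _ => ?_
    rw [eval_monomial, Finsupp.prod]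
    have h3 : ∏ i ∈ β.support, algebraMap K A (a i) ^ β i =
        algebraMap K A (∏ i ∈ β.support, a i ^ β i) := by
      rw [map_prod]
      exact Finset.prod_congr rfl fun i _ => (map_pow _ _ _).symm
    rw [h3, mul_comm (coeff β Q), ← Algebra.smul_def, map_smul, smul_eq_mul, mul_comm]
  have h2 : coeff α Qφ = φ (coeff α Q) := by
    rw [coeff_sum]
    simp only [coeff_monomial]
    by_cases hα : α ∈ Q.support
    · rw [Finset.sum_eq_single α]
      · rw [if_pos rfl]
      · intro β _ hβ
        rw [if_neg hβ]
      · intro h'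
        exact absurd hα h'
    · rw [Finset.sum_eq_zero]
      · rw [notMem_support_iff.mp hα, map_zero]
      · intro β hβ
        rw [if_neg]
        rintro rfl
        exact hα hβ
  rw [← h2, h1, coeff_zero]

theorem totalDegree_det_le {R : Type*} [CommRing R] {τ : Type*} {m : ℕ}
    (M : Matrix (Fin m) (Fin m) (MvPolynomial τ R)) (hM : ∀ i j, (M i j).totalDegree ≤ 1) :
    M.det.totalDegree ≤ m := by
  rw [Matrix.det_apply']
  refine totalDegree_finsetSum_le fun σ _ => ?_
  refine (totalDegree_mul _ _).trans ?_
  have h1 : (((Equiv.Perm.sign σ : ℤ) : MvPolynomial τ R)).totalDegree = 0 := by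
    have : (((Equiv.Perm.sign σ : ℤ) : MvPolynomial τ R)) = C ((Equiv.Perm.sign σ : ℤ) : R) := by
      simp
    rw [this, totalDegree_C]
  rw [h1, zero_add]
  refine (totalDegree_finsetProd _ _).trans ?_
  refine (Finset.sum_le_sum fun i _ => hM _ _).trans ?_
  simp

variable {K : Type*} [Field K] [Infinite K] {S : Type*} [CommRing S] [IsDomain S] [Algebra K S]
  {s : ℕ} [Algebra (MvPolynomial (Fin s) K) S] [IsScalarTower K (MvPolynomial (Fin s) K) S]
  [FaithfulSMul (MvPolynomial (Fin s) K) S] [Module.Finite (MvPolynomial (Fin s) K) S]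

/-- The norm of a linear combination is a polynomial in the coefficients. -/
theorem exists_nrm_poly {n : ℕ} (T : Fin (n + 1) → S) :
    ∃ P : MvPolynomial (Fin (n + 1)) (MvPolynomial (Fin s) K),
      P.totalDegree ≤ Module.finrank (FractionRing (MvPolynomial (Fin s) K)) (FractionRing S) ∧
      ∀ h : Fin (n + 1) → K, nrm (MvPolynomial (Fin s) K) (∑ i, algebraMap K S (h i) * T i) =
        eval (fun i => algebraMap K (MvPolynomial (Fin s) K) (h i)) P := by
  classical
  let B := MvPolynomial (Fin s) K
  let F := FractionRing B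
  let L := FractionRing S
  have hfd : FiniteDimensional F L := fd (B := B) (S := S)
  let b := Module.finBasis F L
  set δ := Module.finrank F L with hδ
  let M : Fin (n + 1) → Matrix (Fin δ) (Fin δ) F := fun i =>
    Algebra.leftMulMatrix b (algebraMap S L (T i))
  obtain ⟨D, hD⟩ := IsLocalization.exist_integer_multiples_of_finite (nonZeroDivisors B)
    (fun x : Fin (n + 1) × Fin δ × Fin δ => M x.1 x.2.1 x.2.2)
  choose M' hM' using hD
  have hD0 : (D : B) ≠ 0 := nonZeroDivisors.ne_zero D.2
  let N : Matrix (Fin δ) (Fin δ) (MvPolynomial (Fin (n + 1)) B) :=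
    fun j k => ∑ i, C (M' (i, j, k)) * X i
  have hNdeg : N.det.totalDegree ≤ δ := by
    refine totalDegree_det_le N fun j k => ?_
    refine totalDegree_finsetSum_le fun i _ => ?_
    refine (totalDegree_mul _ _).trans ?_
    rw [totalDegree_C, zero_add, totalDegree_X]
  have hinj : Function.Injective (algebraMap B F) := IsFractionRing.injective B F
  have key : ∀ h : Fin (n + 1) → K, eval (fun i => algebraMap K B (h i)) N.det =
      (D : B) ^ δ * nrm B (∑ i, algebraMap K S (h i) * T i) := by
    intro h
    apply hinj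
    rw [RingHom.map_det, RingHom.map_det, map_mul, map_pow, ← norm_eq,
      Algebra.norm_eq_matrix_det b]
    have h1 : Algebra.leftMulMatrix b (algebraMap S L (∑ i, algebraMap K S (h i) * T i)) =
        ∑ i, algebraMap B F (algebraMap K B (h i)) • M i := by
      rw [map_sum, map_sum]
      refine Finset.sum_congr rfl fun i _ => ?_
      have h2 : algebraMap S L (algebraMap K S (h i) * T i) =
          algebraMap B F (algebraMap K B (h i)) • algebraMap S L (T i) := by
        rw [map_mul, Algebra.smul_def]
        congr 1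
        rw [← IsScalarTower.algebraMap_apply B F L, IsScalarTower.algebraMap_apply K B S,
          ← IsScalarTower.algebraMap_apply B S L]
      rw [h2, map_smul]
    have h3 : ((algebraMap B F).mapMatrix ((eval (fun i => algebraMap K B (h i))).mapMatrix N)) =
        algebraMap B F (D : B) • ∑ i, algebraMap B F (algebraMap K B (h i)) • M i := by
      ext j k
      simp only [RingHom.mapMatrix_apply, Matrix.map_apply, N, map_sum, map_mul, eval_C, eval_X,
        Matrix.smul_apply, Matrix.sum_apply, Finset.smul_sum]
      refine Finset.sum_congr rfl fun i _ => ?_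
      rw [hM' (i, j, k), Algebra.smul_def, smul_eq_mul, smul_eq_mul]
      ring
    rw [h1, h3, Matrix.det_smul, Fintype.card_fin]
  have hdvd : C ((D : B) ^ δ) ∣ N.det := by
    rw [C_dvd_iff_dvd_coeff]
    intro β
    let I : Ideal B := Ideal.span {(D : B) ^ δ}
    have h1 : map (Ideal.Quotient.mk I) N.det = 0 := by
      apply eq_zero_of_eval (K := K)
      intro a
      have h2 : (fun i => algebraMap K (B ⧸ I) (a i)) =
          fun i => Ideal.Quotient.mk I (algebraMap K B (a i)) := rfl
      rw [h2, eval_map, ← Function.comp_def (Ideal.Quotient.mk I), ← eval₂_comp, key, map_mul,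
        Ideal.Quotient.eq_zero_iff_mem.mpr (Ideal.mem_span_singleton_self _), zero_mul]
    have h2 : coeff β (map (Ideal.Quotient.mk I) N.det) = 0 := by rw [h1, coeff_zero]
    rw [coeff_map, Ideal.Quotient.eq_zero_iff_mem, Ideal.mem_span_singleton] at h2
    exact h2
  obtain ⟨P, hP⟩ := hdvd
  have hDδ : (D : B) ^ δ ≠ 0 := pow_ne_zero _ hD0
  refine ⟨P, ?_, ?_⟩
  · refine le_trans ?_ hNdeg
    refine Finset.sup_mono fun β hβ => ?_
    rw [mem_support_iff, hP, coeff_C_mul]
    exact mul_ne_zero hDδ (mem_support_iff.mp hβ)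
  · intro h
    have h1 := key h
    rw [hP, map_mul, eval_C] at h1
    exact (mul_left_cancel₀ hDδ h1).symm

/-- The coefficients of the norm form are polynomials of bounded degree in `h`. -/
theorem exists_coeff_poly {n : ℕ} (T : Fin (n + 1) → S) (α : Fin s →₀ ℕ) :
    ∃ p : MvPolynomial (Fin (n + 1)) K,
      p.totalDegree ≤ Module.finrank (FractionRing (MvPolynomial (Fin s) K)) (FractionRing S) ∧
      ∀ h : Fin (n + 1) → K,
        coeff α (nrm (MvPolynomial (Fin s) K) (∑ i, algebraMap K S (h i) * T i)) = eval h p := by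
  classical
  obtain ⟨P, hPdeg, hP⟩ := exists_nrm_poly (K := K) (s := s) T
  refine ⟨∑ β ∈ P.support, monomial β (coeff α (coeff β P)), ?_, fun h => ?_⟩
  · refine totalDegree_finsetSum_le fun β hβ => ?_
    exact (totalDegree_monomial_le _ _).trans ((le_totalDegree hβ).trans hPdeg)
  · rw [hP, eval_eq, coeff_sum, map_sum]
    refine Finset.sum_congr rfl fun β _ => ?_
    rw [eval_monomial, Finsupp.prod]
    have h3 : ∏ i ∈ β.support, algebraMap K (MvPolynomial (Fin s) K) (h i) ^ β i =
        C (∏ i ∈ β.support, h i ^ β i) := by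
      rw [map_prod]
      exact Finset.prod_congr rfl fun i _ => (map_pow _ _ _).symm
    rw [h3, mul_comm, coeff_C_mul, mul_comm]

end Poly

end K669.Cone
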