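import Groth.Agent.Zeta.K669.ConeMain

/-!
# From the cone to the charts of the projective variety
-/

set_option autoImplicit false
universe u v

open Polynomial

namespace K669.ConeChart

variable {K : Type*} [Field K] {S : Type*} [CommRing S] [Algebra K S]

/-- Homogeneous elements for a grading given by `γ`. -/
def Hmg (γ : S →ₐ[K] S[X]) (d : ℕ) (s : S) : Prop := γ s = C s * X ^ d

variable {γ : S →ₐ[K] S[X]}

theorem Hmg.add {d : ℕ} {s t : S} (hs : Hmg γ d s) (ht : Hmg γ d t) : Hmg γ d (s + t) := by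
  rw [Hmg, map_add, hs, ht, C_add, add_mul]

theorem Hmg.zero (d : ℕ) : Hmg γ d (0 : S) := by
  rw [Hmg, map_zero, C_0, zero_mul]

theorem Hmg.mul {d e : ℕ} {s t : S} (hs : Hmg γ d s) (ht : Hmg γ e t) : Hmg γ (d + e) (s * t) := by
  rw [Hmg, map_mul, hs, ht, C_mul, pow_add]
  ring

theorem Hmg.one : Hmg γ 0 (1 : S) := by
  rw [Hmg, map_one, C_1, pow_zero, one_mul]

theorem Hmg.pow {d : ℕ} {s : S} (hs : Hmg γ d s) (m : ℕ) : Hmg γ (d * m) (s ^ m) := by
  rw [Hmg, map_pow, hs, mul_pow, ← C_pow, pow_mul]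

theorem Hmg.neg {d : ℕ} {s : S} (hs : Hmg γ d s) : Hmg γ d (-s) := by
  rw [Hmg, map_neg, hs, C_neg, neg_mul]

theorem Hmg.sub {d : ℕ} {s t : S} (hs : Hmg γ d s) (ht : Hmg γ d t) : Hmg γ d (s - t) := by
  rw [sub_eq_add_neg]
  exact hs.add ht.neg

theorem Hmg.sum {ι : Type*} {d : ℕ} {f : ι → S} (s : Finset ι) (h : ∀ i ∈ s, Hmg γ d (f i)) :
    Hmg γ d (∑ i ∈ s, f i) := by
  classical
  induction s using Finset.induction_on with
  | empty => rw [Finset.sum_empty]; exact Hmg.zero d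
  | insert a s ha ih =>
    rw [Finset.sum_insert ha]
    exact (h a (Finset.mem_insert_self _ _)).add (ih fun i hi => h i (Finset.mem_insert_of_mem hi))

theorem Hmg.coeff {d : ℕ} {s : S} (hs : Hmg γ d s) (e : ℕ) : (γ s).coeff e = if e = d then s else 0 := by
  have h : γ s = C s * X ^ d := hs
  rw [h, coeff_C_mul, coeff_X_pow]
  split_ifs <;> simp

section gen

variable {ι : Type*} {T : ι → S} (hT : Algebra.adjoin K (Set.range T) = ⊤)
  (hγ : ∀ i, γ (T i) = C (T i) * X)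

include hγ in
theorem hmg_T (i : ι) : Hmg γ 1 (T i) := by
  rw [Hmg, pow_one]; exact hγ i

include hT hγ in
theorem hmg_coeff (s : S) : ∀ d, Hmg γ d ((γ s).coeff d) := by
  have hs : s ∈ Algebra.adjoin K (Set.range T) := by rw [hT]; trivial
  refine Algebra.adjoin_induction (p := fun s _ => ∀ d, Hmg γ d ((γ s).coeff d)) ?_ ?_ ?_ ?_ hs
  · rintro _ ⟨i, rfl⟩ d
    rw [(hmg_T hγ i).coeff]
    split_ifs with h
    · subst h; exact hmg_T hγ i
    · exact Hmg.zero d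
  · intro c d
    rw [AlgHom.commutes, Polynomial.algebraMap_apply, coeff_C]
    split_ifs with h
    · subst h
      rw [Hmg, AlgHom.commutes, pow_zero, mul_one]
      rfl
    · exact Hmg.zero d
  · intro a b _ _ ha hb d
    rw [map_add, coeff_add]
    exact (ha d).add (hb d)
  · intro a b _ _ ha hb d
    rw [map_mul, coeff_mul]
    refine Hmg.sum _ fun x hx => ?_
    rw [← Finset.HasAntidiagonal.mem_antidiagonal.mp hx]
    exact (ha _).mul (hb _)

include hT hγ in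
theorem sum_coeff (s : S) : (γ s).eval 1 = s := by
  have hs : s ∈ Algebra.adjoin K (Set.range T) := by rw [hT]; trivial
  refine Algebra.adjoin_induction (p := fun s _ => (γ s).eval 1 = s) ?_ ?_ ?_ ?_ hs
  · rintro _ ⟨i, rfl⟩
    rw [hγ]; simp
  · intro c
    rw [AlgHom.commutes, Polynomial.algebraMap_apply, eval_C]
  · intro a b _ _ ha hb
    rw [map_add, eval_add, ha, hb]
  · intro a b _ _ ha hb
    rw [map_mul, eval_mul, ha, hb]

include hT hγ in
theorem sum_coeff' (s : S) : ∑ d ∈ Finset.range ((γ s).natDegree + 1), (γ s).coeff d = s := by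
  conv_rhs => rw [← sum_coeff hT hγ s, eval_eq_sum_range]
  simp

/-- The ideal generated by a homogeneous element is homogeneous. -/
theorem coeff_mem_span {ℓ : S} (hℓ : Hmg γ 1 ℓ) {w : S} (hw : w ∈ Ideal.span {ℓ}) (d : ℕ) :
    (γ w).coeff d ∈ Ideal.span {ℓ} := by
  obtain ⟨c, rfl⟩ := Ideal.mem_span_singleton.mp hw
  have h : γ ℓ = C ℓ * X ^ 1 := hℓ
  rw [map_mul, h, pow_one, mul_assoc, coeff_C_mul]
  exact Ideal.mem_span_singleton.mpr (dvd_mul_right _ _)

end gen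

section chart

variable {ι : Type*} {T : ι → S} (hT : Algebra.adjoin K (Set.range T) = ⊤)
  (hγ : ∀ i, γ (T i) = C (T i) * X) {R : Type*} [CommRing R] (θ : S →+* R)
  (hθ : Function.Surjective θ) (i₀ : ι) (h₀ : θ (T i₀) = 1)
  (hinj : ∀ d s, Hmg γ d s → θ s = 0 → s = 0)

include hT hγ hθ h₀ in
/-- Every element of the chart is the image of a homogeneous element. -/
theorem exists_hmg (y : R) : ∃ d s, Hmg γ d s ∧ θ s = y := by
  obtain ⟨s, rfl⟩ := hθ y
  set D := (γ s).natDegree with hD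
  refine ⟨D, ∑ d ∈ Finset.range (D + 1), (γ s).coeff d * T i₀ ^ (D - d), ?_, ?_⟩
  · refine Hmg.sum _ fun d hd => ?_
    have h1 := (hmg_coeff hT hγ s d).mul ((hmg_T hγ i₀).pow (D - d))
    have h2 : d + 1 * (D - d) = D := by
      have := Finset.mem_range.mp hd
      omega
    rw [h2] at h1
    exact h1
  · rw [map_sum]
    conv_rhs => rw [← sum_coeff' hT hγ s, map_sum]
    refine Finset.sum_congr rfl fun d _ => ?_
    rw [map_mul, map_pow, h₀, one_pow, mul_one]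

include hT hγ hθ h₀ hinj in
/-- Membership in the radical of the section, on a chart. -/
theorem mem_radical_iff {ℓ : S} (hℓ : Hmg γ 1 ℓ) {q : Ideal S} (hq : q.IsPrime)
    (hrad : (Ideal.span {ℓ}).radical = q) (hT₀ : T i₀ ∉ q) {d : ℕ} {P : S} (hP : Hmg γ d P) :
    θ P ∈ (Ideal.span {θ ℓ}).radical ↔ P ∈ q := by
  constructor
  · rintro ⟨m, hm⟩
    obtain ⟨c, hc⟩ := Ideal.mem_span_singleton.mp hm
    obtain ⟨e, c', hc', rfl⟩ := exists_hmg hT hγ θ hθ i₀ h₀ c
    have h1 : Hmg γ (d * m + (1 + e)) (P ^ m * T i₀ ^ (1 + e)) := by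
      have := (hP.pow m).mul ((hmg_T hγ i₀).pow (1 + e))
      rwa [one_mul] at this
    have h2 : Hmg γ (d * m + (1 + e)) (ℓ * c' * T i₀ ^ (d * m)) := by
      have := (hℓ.mul hc').mul ((hmg_T hγ i₀).pow (d * m))
      rw [one_mul, add_comm] at this
      exact this
    have h3 := hinj _ _ (h1.sub h2) (by
      rw [map_sub, map_mul, map_mul, map_mul, map_pow, map_pow, map_pow, h₀, one_pow, one_pow,
        mul_one, mul_one, hc, sub_self])
    have h4 : P ^ m * T i₀ ^ (1 + e) ∈ Ideal.span {ℓ} := by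
      rw [sub_eq_zero.mp h3, mul_assoc]
      exact Ideal.mem_span_singleton.mpr (dvd_mul_right _ _)
    have h5 : P ^ m * T i₀ ^ (1 + e) ∈ q := by
      rw [← hrad]; exact Ideal.le_radical h4
    rcases hq.mem_or_mem h5 with h | h
    · exact hq.mem_of_pow_mem _ h
    · exact absurd (hq.mem_of_pow_mem _ h) hT₀
  · intro h
    rw [← hrad] at h
    obtain ⟨m, hm⟩ := h
    obtain ⟨c, hc⟩ := Ideal.mem_span_singleton.mp hm
    refine ⟨m, ?_⟩
    rw [← map_pow, hc, map_mul]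
    exact Ideal.mem_span_singleton.mpr (dvd_mul_right _ _)

include hT hγ hθ h₀ hinj in
theorem isPrime_radical {ℓ : S} (hℓ : Hmg γ 1 ℓ) {q : Ideal S} (hq : q.IsPrime)
    (hrad : (Ideal.span {ℓ}).radical = q) (hT₀ : T i₀ ∉ q) : ((Ideal.span {θ ℓ}).radical).IsPrime := by
  constructor
  · intro h
    apply hT₀
    rw [← mem_radical_iff hT hγ θ hθ i₀ h₀ hinj hℓ hq hrad hT₀ (hmg_T hγ i₀), h]
    trivial
  · intro x y hxy
    obtain ⟨d, P, hP, rfl⟩ := exists_hmg hT hγ θ hθ i₀ h₀ x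
    obtain ⟨e, Q, hQ, rfl⟩ := exists_hmg hT hγ θ hθ i₀ h₀ y
    rw [← map_mul, mem_radical_iff hT hγ θ hθ i₀ h₀ hinj hℓ hq hrad hT₀ (hP.mul hQ)] at hxy
    rw [mem_radical_iff hT hγ θ hθ i₀ h₀ hinj hℓ hq hrad hT₀ hP,
      mem_radical_iff hT hγ θ hθ i₀ h₀ hinj hℓ hq hrad hT₀ hQ]
    exact hq.mem_or_mem hxy

include hT hγ hθ h₀ hinj in
theorem exists_generic {ℓ : S} (hℓ : Hmg γ 1 ℓ) {q : Ideal S} (hq : q.IsPrime)
    (hrad : (Ideal.span {ℓ}).radical = q) (hT₀ : T i₀ ∉ q) (s : S) (hs : s ∉ q)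
    (hsq : ∀ z ∈ q, s * z ∈ Ideal.span {ℓ}) :
    ∃ s' : R, s' ∉ (Ideal.span {θ ℓ}).radical ∧
      ∀ y ∈ (Ideal.span {θ ℓ}).radical, s' * y ∈ Ideal.span {θ ℓ} := by
  obtain ⟨d, hd⟩ : ∃ d, (γ s).coeff d ∉ q := by
    by_contra hcon
    push Not at hcon
    apply hs
    rw [← sum_coeff' hT hγ s]
    exact q.sum_mem fun d _ => hcon d
  refine ⟨θ ((γ s).coeff d), ?_, ?_⟩
  · rw [mem_radical_iff hT hγ θ hθ i₀ h₀ hinj hℓ hq hrad hT₀ (hmg_coeff hT hγ s d)]
    exact hd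
  · intro y hy
    obtain ⟨e, z, hz, rfl⟩ := exists_hmg hT hγ θ hθ i₀ h₀ y
    rw [mem_radical_iff hT hγ θ hθ i₀ h₀ hinj hℓ hq hrad hT₀ hz] at hy
    have h1 := coeff_mem_span hℓ (hsq z hy) (d + e)
    have h2 : (γ (s * z)).coeff (d + e) = (γ s).coeff d * z := by
      have h3 : γ z = C z * X ^ e := hz
      rw [map_mul, h3, ← mul_assoc, coeff_mul_X_pow, coeff_mul_C]
    rw [h2] at h1
    obtain ⟨c, hc⟩ := Ideal.mem_span_singleton.mp h1
    rw [← map_mul, hc, map_mul]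
    exact Ideal.mem_span_singleton.mpr (dvd_mul_right _ _)

include h₀ in
omit [Algebra K S] in
theorem span_eq_top {ℓ : S} {q : Ideal S} (hrad : (Ideal.span {ℓ}).radical = q) (hT₀ : T i₀ ∈ q) :
    Ideal.span {θ ℓ} = ⊤ := by
  rw [← hrad] at hT₀
  obtain ⟨m, hm⟩ := hT₀
  obtain ⟨c, hc⟩ := Ideal.mem_span_singleton.mp hm
  rw [Ideal.eq_top_iff_one]
  have h1 := congrArg θ hc
  rw [map_pow, h₀, one_pow, map_mul] at h1
  rw [h1]
  exact Ideal.mem_span_singleton.mpr (dvd_mul_right _ _)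

end chart

end K669.ConeChart
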