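import Groth.Agent.Zeta.K669.ConeEx
import Groth.Agent.Zeta.K467.HilbDeg

/-!
# The degree of a cone over a linear Noether normalization is bounded by the Hilbert function
-/

set_option autoImplicit false
universe u v

open MvPolynomial Filter Topology
open K669.NormPrime K467.HilbDeg

attribute [local instance] FractionRing.liftAlgebra

namespace K669.Cone

theorem le_of_growth {d : ℝ} (D R : ℕ) (f : ℕ → ℕ)
    (h : ∀ ε : ℝ, 0 < ε → ∀ᶠ t : ℕ in atTop, (f t : ℝ) ≤ (d / (R.factorial : ℝ) + ε) * (t : ℝ) ^ R)
    (hf : ∀ t, D ≤ t → D * ((t + 1 - D + R).choose R) ≤ f t) : (D : ℝ) ≤ d := by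
  have hRf : (0 : ℝ) < (R.factorial : ℝ) := by exact_mod_cast Nat.factorial_pos R
  have key : ∀ ε : ℝ, 0 < ε → (D : ℝ) ≤ d + ε * (R.factorial : ℝ) := by
    intro ε hε
    have h1 : Tendsto (fun t : ℕ => (D : ℝ) * (((t - D : ℕ) : ℝ) / t) ^ R) atTop (𝓝 ((D : ℝ) * 1)) :=
      (tendsto_ratio D R).const_mul _
    rw [mul_one] at h1
    refine le_of_tendsto h1 ?_
    filter_upwards [h ε hε, eventually_ge_atTop (D + 1)] with t ht1 ht2
    have ht0 : (0 : ℝ) < t := by exact_mod_cast (by omega : 0 < t)
    have h2 : (D : ℝ) * ((t + 1 - D + R).choose R : ℕ) ≤ f t := by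
      exact_mod_cast hf t (by omega)
    have h3 : (((t - D : ℕ) : ℝ)) ^ R / (R.factorial : ℝ) ≤ ((t + 1 - D + R).choose R : ℕ) := by
      refine le_trans ?_ (Nat.pow_le_choose (α := ℝ) R (t + 1 - D + R))
      have h8 : t - D ≤ t + 1 - D + R + 1 - R := by omega
      have h9 : ((t - D : ℕ) : ℝ) ≤ ((t + 1 - D + R + 1 - R : ℕ) : ℝ) := by exact_mod_cast h8
      exact div_le_div_of_nonneg_right (pow_le_pow_left₀ (Nat.cast_nonneg _) h9 R) hRf.le
    have h4 : (D : ℝ) * ((((t - D : ℕ) : ℝ)) ^ R / (R.factorial : ℝ)) ≤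
        (d / (R.factorial : ℝ) + ε) * (t : ℝ) ^ R :=
      (mul_le_mul_of_nonneg_left h3 (Nat.cast_nonneg D)).trans (h2.trans ht1)
    rw [div_pow, ← mul_div_assoc, div_le_iff₀ (pow_pos ht0 R)]
    have h5 : (D : ℝ) * ((t - D : ℕ) : ℝ) ^ R =
        (D : ℝ) * ((((t - D : ℕ) : ℝ)) ^ R / (R.factorial : ℝ)) * (R.factorial : ℝ) := by
      field_simp
    rw [h5]
    calc _ ≤ (d / (R.factorial : ℝ) + ε) * (t : ℝ) ^ R * (R.factorial : ℝ) :=
          mul_le_mul_of_nonneg_right h4 hRf.le
      _ = _ := by field_simp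
  by_contra hcon
  push Not at hcon
  have h6 := key (((D : ℝ) - d) / (2 * (R.factorial : ℝ))) (by apply div_pos <;> linarith)
  have h7 : ((D : ℝ) - d) / (2 * (R.factorial : ℝ)) * (R.factorial : ℝ) = ((D : ℝ) - d) / 2 := by
    field_simp
  rw [h7] at h6
  linarith

/-- With growth of order `R` there are at most `R` algebraically independent linear forms. -/
theorem dep_of_growth {k : Type u} [Field k] {L : Type v} [Field L] [Algebra k L] {N R : ℕ}
    {b : Fin N → L} {d : ℝ} (h : Growth k b R d) (w : Fin (R + 1) → L)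
    (hwb : ∀ i, w i ∈ Submodule.span k (Set.range b)) : ¬ AlgebraicIndependent k w := by
  intro hw
  have h1 : ∀ t, hf k w t = (mons (R + 1) t).ncard := by
    intro t
    rw [← finrank_restrict (k := k), hf]
    have hinj : Function.Injective
        (aeval w : MvPolynomial (Fin (R + 1)) k →ₐ[k] L).toLinearMap := hw
    exact (LinearEquiv.finrank_eq (Submodule.equivMapOfInjective _ hinj
      (restrictTotalDegree (Fin (R + 1)) k t))).symm
  have h2 : ∀ D : ℕ, (D : ℝ) ≤ d := by
    intro D
    refine le_of_growth D R (hf k b) h fun t ht => ?_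
    refine le_trans ?_ (hf_le_of_span b w hwb t)
    rw [h1]
    rcases mons_sub_ge R t D (by omega) with h3 | h3
    · omega
    · omega
  obtain ⟨D, hD⟩ := exists_nat_gt d
  exact absurd (h2 D) (not_le.mpr hD)

section

variable {K : Type u} [Field K] [Infinite K] {S : Type u} [CommRing S] [IsDomain S]
  [Algebra K S] {r : ℕ}
  [Algebra (MvPolynomial (Fin (r + 1)) K) S] [IsScalarTower K (MvPolynomial (Fin (r + 1)) K) S]
  [FaithfulSMul (MvPolynomial (Fin (r + 1)) K) S] [Module.Finite (MvPolynomial (Fin (r + 1)) K) S]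

local notation3 "BB" => MvPolynomial (Fin (r + 1)) K
local notation3 "FF" => FractionRing BB
local notation3 "LL" => FractionRing S

omit [Infinite K] [Module.Finite (MvPolynomial (Fin (r + 1)) K) S] in
/-- The affine Hilbert function is bounded by the graded one. -/
theorem hf_le {n : ℕ} (T : Fin (n + 1) → S) (hYV : algebraMap BB S (X 0) ∈ Submodule.span K (Set.range T))
    (t : ℕ) : hf K (fun j => algebraMap S LL (T j) / Yc K S r 0) t ≤
      Module.finrank K ((homogeneousSubmodule (Fin (n + 1)) K t).map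
        (aeval T : MvPolynomial (Fin (n + 1)) K →ₐ[K] S).toLinearMap) := by
  classical
  set Y : S := algebraMap BB S (X 0) with hY
  have hY0 : Yc K S r 0 ≠ 0 := Yc_ne_zero 0
  have hYc : Yc K S r 0 = algebraMap S LL Y := rfl
  let St := (homogeneousSubmodule (Fin (n + 1)) K t).map
    (aeval T : MvPolynomial (Fin (n + 1)) K →ₐ[K] S).toLinearMap
  let Φ : S →ₗ[K] LL := (IsScalarTower.toAlgHom K S LL).toLinearMap
  let b : Fin (n + 1) → LL := fun j => algebraMap S LL (T j) / Yc K S r 0
  have hfinSt : Module.Finite K (homogeneousSubmodule (Fin (n + 1)) K t) := by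
    have hle : homogeneousSubmodule (Fin (n + 1)) K t ≤ restrictTotalDegree (Fin (n + 1)) K t := by
      intro p hp
      rw [mem_restrictTotalDegree]
      exact IsHomogeneous.totalDegree_le hp
    exact Module.Finite.of_injective (Submodule.inclusion hle) (Submodule.inclusion_injective hle)
  let W := (restrictTotalDegree (Fin (n + 1)) K t).map (aeval b : MvPolynomial (Fin (n + 1)) K →ₐ[K] LL).toLinearMap
  let μ : LL →ₗ[K] LL := LinearMap.mulLeft K (Yc K S r 0 ^ t)
  have hμ : Function.Injective μ := fun x y hxy =>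
    mul_left_cancel₀ (pow_ne_zero t hY0) hxy
  have hmon : ∀ α : Fin (n + 1) →₀ ℕ, α.degree ≤ t → ∀ c : K,
      Yc K S r 0 ^ t * aeval b (monomial α c) ∈ St.map Φ := by
    intro α hα c
    -- `Y ^ (t - |α|) * T ^ α`
    obtain ⟨cY, hcY⟩ := (Submodule.mem_span_range_iff_exists_fun K).1 hYV
    let u : MvPolynomial (Fin (n + 1)) K := ∑ j, C (cY j) * X j
    have hu : u.IsHomogeneous 1 := by
      refine IsHomogeneous.sum _ _ _ fun j _ => ?_
      exact (isHomogeneous_C_mul_X _ _)
    have huY : aeval T u = Y := by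
      rw [← hcY, map_sum]
      refine Finset.sum_congr rfl fun j _ => ?_
      rw [map_mul, aeval_X, aeval_C, Algebra.smul_def]
    refine ⟨aeval T (u ^ (t - α.degree) * monomial α c), ⟨_, ?_, rfl⟩, ?_⟩
    · rw [SetLike.mem_coe, mem_homogeneousSubmodule]
      have h1 : (u ^ (t - α.degree)).IsHomogeneous (1 * (t - α.degree)) := hu.pow _
      have h2 : (monomial α c).IsHomogeneous α.degree := isHomogeneous_monomial _ rfl
      have h3 := h1.mul h2
      convert h3 using 1
      omega
    · have h4 : aeval b (monomial α c) * Yc K S r 0 ^ α.degree =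
          algebraMap S LL (aeval T (monomial α c)) := by
        have h6 : α.degree = ∑ i ∈ α.support, α i := rfl
        rw [aeval_monomial, aeval_monomial, map_mul, Finsupp.prod, Finsupp.prod, map_prod,
          mul_assoc, h6, ← Finset.prod_pow_eq_pow_sum, ← Finset.prod_mul_distrib,
          ← IsScalarTower.algebraMap_apply K S LL]
        congr 1
        refine Finset.prod_congr rfl fun i _ => ?_
        rw [← mul_pow, map_pow]
        congr 1
        exact div_mul_cancel₀ _ hY0
      change algebraMap S LL (aeval T (u ^ (t - α.degree) * monomial α c)) = _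
      rw [map_mul, map_mul, ← h4, map_pow, map_pow, huY, ← hYc]
      have h5 : Yc K S r 0 ^ t = Yc K S r 0 ^ (t - α.degree) * Yc K S r 0 ^ α.degree := by
        rw [← pow_add]; congr 1; omega
      rw [h5]
      ring
  have hle : W.map μ ≤ St.map Φ := by
    rintro _ ⟨_, ⟨p, hp, rfl⟩, rfl⟩
    change Yc K S r 0 ^ t * aeval b p ∈ St.map Φ
    rw [SetLike.mem_coe, mem_restrictTotalDegree] at hp
    rw [p.as_sum, map_sum, Finset.mul_sum]
    refine Submodule.sum_mem _ fun α hα => ?_
    exact hmon α ((le_totalDegree hα).trans hp) _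
  have h1 : Module.finrank K W = Module.finrank K (W.map μ) :=
    LinearEquiv.finrank_eq (Submodule.equivMapOfInjective μ hμ W)
  have h2 : Module.finrank K (St.map Φ) ≤ Module.finrank K St := Submodule.finrank_map_le Φ St
  have h3 := Submodule.finrank_mono hle
  change Module.finrank K W ≤ _
  rw [h1]
  exact h3.trans h2

theorem finrank_le_of_growth [Algebra.IsSeparable FF LL] {n : ℕ} (T : Fin (n + 1) → S)
    (hYV : ∀ i, algebraMap BB S (X i) ∈ Submodule.span K (Set.range T))
    (hVgen : IntermediateField.adjoin FF (algebraMap S LL '' (Submodule.span K (Set.range T) : Set S)) = ⊤)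
    (d : ℕ)
    (hgr : ∀ ε : ℝ, 0 < ε → ∀ᶠ t : ℕ in atTop,
      (Module.finrank K ((homogeneousSubmodule (Fin (n + 1)) K t).map
        (aeval T : MvPolynomial (Fin (n + 1)) K →ₐ[K] S).toLinearMap) : ℝ) ≤
        ((d : ℝ) / (r.factorial : ℝ) + ε) * (t : ℝ) ^ r) :
    Module.finrank FF LL ≤ d := by
  classical
  have hfd : FiniteDimensional FF LL := fd (B := BB) (S := S)
  have hY0 : Yc K S r 0 ≠ 0 := Yc_ne_zero 0
  let b : Fin (n + 1) → LL := fun j => algebraMap S LL (T j) / Yc K S r 0
  have hG : Growth K b r d := by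
    intro ε hε
    filter_upwards [hgr ε hε] with t ht
    refine le_trans ?_ ht
    exact_mod_cast hf_le T (hYV 0) t
  have hDB : DB K b r d := DB_of_growth hG d (by linarith) (fun w hw => dep_of_growth hG w hw)
  -- a primitive linear form
  set V : Submodule K S := Submodule.span K (Set.range T) with hVdef
  let VL : Submodule K LL := V.map (IsScalarTower.toAlgHom K S LL).toLinearMap
  have hKF : ∀ c : K, algebraMap K LL c ∈ (algebraMap FF LL).range := by
    intro c
    refine ⟨algebraMap BB FF (algebraMap K BB c), ?_⟩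
    rw [← IsScalarTower.algebraMap_apply BB FF LL, IsScalarTower.algebraMap_apply BB S LL,
      ← IsScalarTower.algebraMap_apply K BB S, ← IsScalarTower.algebraMap_apply K S LL]
  obtain ⟨_, ⟨z, hzV, rfl⟩, hz⟩ := exists_primitive (K := K) (F := FF) hKF VL hVgen
  change IntermediateField.adjoin FF {algebraMap S LL z} = ⊤ at hz
  have hVb : ∀ x ∈ V, algebraMap S LL x / Yc K S r 0 ∈ Submodule.span K (Set.range b) := by
    intro x hx
    obtain ⟨c, rfl⟩ := (Submodule.mem_span_range_iff_exists_fun K).1 hx
    rw [map_sum, Finset.sum_div]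
    refine Submodule.sum_mem _ fun j _ => ?_
    have h1 : algebraMap S LL (c j • T j) / Yc K S r 0 = c j • b j := by
      rw [Algebra.smul_def, map_mul, ← IsScalarTower.algebraMap_apply K S LL, Algebra.smul_def,
        mul_div_assoc]
    rw [h1]
    exact Submodule.smul_mem _ _ (Submodule.subset_span ⟨j, rfl⟩)
  let z₀ : LL := algebraMap S LL z / Yc K S r 0
  let w : Fin (r + 1) → LL := Fin.cases z₀ (fun i => yc K S r i.succ)
  have hw : ∀ i, w i ∈ Submodule.span K (Set.range b) := by
    intro i
    refine Fin.cases ?_ (fun i => ?_) i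
    · exact hVb z hzV
    · exact hVb _ (hYV i.succ)
  have hycind := algebraicIndependent_yc (K := K) (S := S) (r := r)
  have hycind' : AlgebraicIndependent K (fun i : Fin r => yc K S r i.succ) :=
    hycind.comp Fin.succ (Fin.succ_injective r)
  obtain ⟨F, hF0, hFd, hFw⟩ := hDB w hw hycind'
  -- the map to `F`
  let yF : Fin r → FF := fun i => algebraMap BB FF (X i.succ) / algebraMap BB FF (X 0)
  have hyF : ∀ i, algebraMap FF LL (yF i) = yc K S r i.succ := by
    intro i
    simp only [yF, map_div₀, ← IsScalarTower.algebraMap_apply BB FF LL, yc, Fin.cases_succ, Yc,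
      IsScalarTower.algebraMap_apply BB S LL]
  let a : MvPolynomial (Fin r) K →+* FF := eval₂Hom ((algebraMap BB FF).comp C) yF
  have ha : (algebraMap FF LL).comp a =
      (aeval (fun i => yc K S r i.succ) : MvPolynomial (Fin r) K →ₐ[K] LL).toRingHom := by
    apply MvPolynomial.ringHom_ext
    · intro c
      simp only [a, RingHom.comp_apply, coe_eval₂Hom, eval₂_C, AlgHom.toRingHom_eq_coe,
        RingHom.coe_coe, ← IsScalarTower.algebraMap_apply BB FF LL]
      rw [← MvPolynomial.algebraMap_eq, ← MvPolynomial.algebraMap_eq, AlgHom.commutes,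
        IsScalarTower.algebraMap_apply BB S LL, ← IsScalarTower.algebraMap_apply K BB S,
        ← IsScalarTower.algebraMap_apply K S LL]
    · intro i
      simp [a, hyF]
  have hainj : Function.Injective a := by
    intro p q hpq
    apply hycind'
    have h1 := congrArg (algebraMap FF LL) hpq
    have h2 := fun p => RingHom.congr_fun ha p
    exact (h2 p).symm.trans (h1.trans (h2 q))
  have hz₀ : IntermediateField.adjoin FF {z₀} = ⊤ := by
    rw [← top_le_iff, ← hz, IntermediateField.adjoin_simple_le_iff]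
    have h1 : algebraMap S LL z = algebraMap FF LL (algebraMap BB FF (X 0)) * z₀ := by
      have h2 : algebraMap FF LL (algebraMap BB FF (X 0)) = Yc K S r 0 := by
        rw [← IsScalarTower.algebraMap_apply BB FF LL, IsScalarTower.algebraMap_apply BB S LL]
        rfl
      rw [h2]
      simp only [z₀]
      rw [mul_div_cancel₀ _ hY0]
    rw [h1]
    exact mul_mem (algebraMap_mem _ _) (IntermediateField.mem_adjoin_simple_self FF z₀)
  have hz₀deg : (minpoly FF z₀).natDegree = Module.finrank FF LL := by
    rw [← IntermediateField.adjoin.finrank (IsIntegral.of_finite FF z₀), hz₀,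
      IntermediateField.finrank_top']
  let g := finSuccEquiv K r F
  have hg0 : g ≠ 0 := by
    rw [ne_eq, map_eq_zero_iff _ (finSuccEquiv K r).injective]
    exact hF0
  have hgz : Polynomial.aeval z₀ (g.map a) = 0 := by
    rw [Polynomial.aeval_def, Polynomial.eval₂_map, ha]
    have h1 := aeval_eq_eval₂ w F
    rw [hFw] at h1
    exact h1.symm
  have hga : g.map a ≠ 0 := by
    rw [ne_eq, Polynomial.map_eq_zero_iff hainj]
    exact hg0
  have h5 := Polynomial.natDegree_le_natDegree (minpoly.degree_le_of_ne_zero FF z₀ hga hgz)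
  rw [hz₀deg, Polynomial.natDegree_map_eq_of_injective hainj] at h5
  refine h5.trans (le_trans ?_ hFd)
  rw [natDegree_finSuccEquiv]
  exact degreeOf_le_totalDegree F 0

end

end K669.Cone
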