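import Groth.Agent.Zeta.K669.ConeModel
import Mathlib.LinearAlgebra.TensorProduct.Basis
import Mathlib.LinearAlgebra.TensorProduct.RightExactness

/-!
# Descent of irreducible generically reduced sections
-/

set_option autoImplicit false
universe u v

open TensorProduct

namespace K669.ConeDesc

variable {k : Type u} [Field k] {K : Type u} [Field K] [Algebra k K] {B : Type u} [CommRing B]
  [Algebra k B]

/-- The coordinates of an element of `K ⊗ B`. -/
noncomputable def crd (x : K ⊗[k] B) : Module.Free.ChooseBasisIndex k K →₀ B :=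
  haveI := Classical.decEq (Module.Free.ChooseBasisIndex k K)
  TensorProduct.equivFinsuppOfBasisLeft (Module.Free.chooseBasis k K) x

theorem crd_add (x y : K ⊗[k] B) : crd (x + y) = crd x + crd y := map_add _ _ _

theorem crd_zero : crd (0 : K ⊗[k] B) = 0 := map_zero _

theorem crd_tmul (a : K) (b : B) (i) :
    crd (a ⊗ₜ[k] b) i = (Module.Free.chooseBasis k K).repr a i • b := by
  classical
  exact TensorProduct.equivFinsuppOfBasisLeft_apply_tmul_apply _ _ _ _

theorem crd_mul (x : K ⊗[k] B) (y : B) (i) : crd (x * (1 ⊗ₜ[k] y)) i = crd x i * y := by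
  induction x using TensorProduct.induction_on with
  | zero => rw [zero_mul, crd_zero, Finsupp.zero_apply, zero_mul]
  | add a b ha hb => rw [add_mul, crd_add, crd_add, Finsupp.add_apply, Finsupp.add_apply, ha, hb, add_mul]
  | tmul a b =>
    rw [Algebra.TensorProduct.tmul_mul_tmul, mul_one, crd_tmul, crd_tmul, smul_mul_assoc]

theorem eq_sum (x : K ⊗[k] B) :
    x = (crd x).sum fun i b => (Module.Free.chooseBasis k K) i ⊗ₜ[k] b := by
  classical
  have h := (TensorProduct.equivFinsuppOfBasisLeft (N := B) (Module.Free.chooseBasis k K)).symm_apply_apply x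
  rw [TensorProduct.equivFinsuppOfBasisLeft_symm_apply] at h
  exact h.symm

theorem coord_mem {I : Ideal B} {β : B} (hI : I = Ideal.span {β}) {x : K ⊗[k] B}
    (hx : x ∈ Ideal.span {(1 : K) ⊗ₜ[k] β}) (i) : crd x i ∈ I := by
  obtain ⟨y, rfl⟩ := Ideal.mem_span_singleton.mp hx
  rw [mul_comm, crd_mul, hI]
  exact Ideal.mem_span_singleton.mpr (dvd_mul_left _ _)

theorem one_tmul_mem_radical {β y : B} (hy : y ∈ (Ideal.span {β}).radical) :
    (1 : K) ⊗ₜ[k] y ∈ (Ideal.span {(1 : K) ⊗ₜ[k] β}).radical := by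
  obtain ⟨m, hm⟩ := hy
  obtain ⟨c, hc⟩ := Ideal.mem_span_singleton.mp hm
  refine ⟨m, ?_⟩
  rw [Algebra.TensorProduct.tmul_pow, one_pow, hc]
  have h1 : (1 : K) ⊗ₜ[k] (β * c) = ((1 : K) ⊗ₜ[k] β) * (1 ⊗ₜ[k] c) := by
    rw [Algebra.TensorProduct.tmul_mul_tmul, mul_one]
  rw [h1]
  exact Ideal.mem_span_singleton.mpr (dvd_mul_right _ _)

/-- Generic reducedness descends. -/
theorem exists_desc {β : B} (s : K ⊗[k] B) (hs : s ∉ (Ideal.span {(1 : K) ⊗ₜ[k] β}).radical)
    (hs' : ∀ y ∈ (Ideal.span {(1 : K) ⊗ₜ[k] β}).radical, s * y ∈ Ideal.span {(1 : K) ⊗ₜ[k] β}) :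
    ∃ c : B, c ∉ (Ideal.span {β}).radical ∧ ∀ y ∈ (Ideal.span {β}).radical, c * y ∈ Ideal.span {β} := by
  obtain ⟨i, hi⟩ : ∃ i, crd s i ∉ (Ideal.span {β}).radical := by
    by_contra hcon
    push Not at hcon
    apply hs
    rw [eq_sum s, Finsupp.sum]
    refine Ideal.sum_mem _ fun i _ => ?_
    have h1 : (Module.Free.chooseBasis k K) i ⊗ₜ[k] (crd s i) =
        ((Module.Free.chooseBasis k K) i ⊗ₜ[k] (1 : B)) * (1 ⊗ₜ[k] (crd s i)) := by
      rw [Algebra.TensorProduct.tmul_mul_tmul, mul_one, one_mul]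
    rw [h1]
    exact Ideal.mul_mem_left _ _ (one_tmul_mem_radical (hcon i))
  refine ⟨crd s i, hi, fun y hy => ?_⟩
  rw [← crd_mul]
  exact coord_mem rfl (hs' _ (one_tmul_mem_radical hy)) i

theorem span_eq_top {β : B} (h : Ideal.span {(1 : K) ⊗ₜ[k] β} = ⊤) : Ideal.span {β} = ⊤ := by
  have h1 : (1 : K) ⊗ₜ[k] (1 : B) ∈ Ideal.span {(1 : K) ⊗ₜ[k] β} := by rw [h]; trivial
  obtain ⟨i, hi⟩ : ∃ i, (Module.Free.chooseBasis k K).repr 1 i ≠ 0 := by
    by_contra hcon
    push Not at hcon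
    have h2 : (Module.Free.chooseBasis k K).repr 1 = 0 := Finsupp.ext hcon
    rw [LinearEquiv.map_eq_zero_iff] at h2
    exact one_ne_zero h2
  have h2 := coord_mem (I := Ideal.span {β}) rfl h1 i
  rw [crd_tmul, Algebra.smul_def, mul_one] at h2
  exact Ideal.eq_top_of_isUnit_mem _ h2 ((isUnit_iff_ne_zero.mpr hi).map _)

theorem irreducibleSpace_desc {β : B}
    (h : ((Ideal.span {(1 : K) ⊗ₜ[k] β}).radical).IsPrime) :
    IrreducibleSpace (PrimeSpectrum (K ⊗[k] (B ⧸ Ideal.span {β}))) := by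
  rw [PrimeSpectrum.irreducibleSpace_iff_isPrime_nilradical]
  let g : B →ₐ[k] B ⧸ Ideal.span {β} := Ideal.Quotient.mkₐ k _
  have hg : Function.Surjective g := Ideal.Quotient.mkₐ_surjective _ _
  let π : K ⊗[k] B →ₐ[k] K ⊗[k] (B ⧸ Ideal.span {β}) := Algebra.TensorProduct.map (AlgHom.id k K) g
  have hπ : Function.Surjective π := TensorProduct.map_surjective Function.surjective_id hg
  have hker : RingHom.ker π = Ideal.span {(1 : K) ⊗ₜ[k] β} := by
    rw [Algebra.TensorProduct.lTensor_ker g hg]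
    have h1 : RingHom.ker g = Ideal.span {β} := Ideal.Quotient.mkₐ_ker k _
    rw [h1, Ideal.map_span, Set.image_singleton]
    rfl
  have h2 : (nilradical (K ⊗[k] (B ⧸ Ideal.span {β}))).comap π = (Ideal.span {(1 : K) ⊗ₜ[k] β}).radical := by
    rw [← hker, nilradical, Ideal.comap_radical]
    rfl
  have h3 := Ideal.map_comap_of_surjective (π : K ⊗[k] B →+* _) hπ (nilradical (K ⊗[k] (B ⧸ Ideal.span {β})))
  have h4 : (nilradical (K ⊗[k] (B ⧸ Ideal.span {β}))).comap (π : K ⊗[k] B →+* K ⊗[k] (B ⧸ Ideal.span {β})) =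
    (Ideal.span {(1 : K) ⊗ₜ[k] β}).radical := h2
  rw [h4] at h3
  rw [← h3]
  exact Ideal.map_isPrime_of_surjective (f := (π : K ⊗[k] B →+* K ⊗[k] (B ⧸ Ideal.span {β}))) hπ (by
    have h5 : RingHom.ker (π : K ⊗[k] B →+* K ⊗[k] (B ⧸ Ideal.span {β})) = Ideal.span {(1 : K) ⊗ₜ[k] β} := hker
    rw [h5]
    exact Ideal.le_radical)

end K669.ConeDesc
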