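import Groth.Agent.Zeta.K669.Cone
import Mathlib.GroupTheory.CosetCover

/-!
# Existence of an irreducible norm form
-/

set_option autoImplicit false
universe u v

open MvPolynomial
open K669.NormPrime

attribute [local instance] FractionRing.liftAlgebra

namespace K669.Cone

theorem pair_iff {K L : Type*} [Field K] [Field L] [Algebra K L] (x z : L) (hx : Transcendental K x) :
    AlgebraicIndependent K ![x, z] ↔ Transcendental (IntermediateField.adjoin K {x}) z := by
  rw [IntermediateField.transcendental_adjoin_iff,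
    AlgebraicIndependent.iff_transcendental_adjoin_image 1]
  have h1 : (![x, z] '' {1}ᶜ) = {x} := by
    ext y
    constructor
    · rintro ⟨i, hi, rfl⟩
      fin_cases i
      · rfl
      · exact absurd rfl hi
    · rintro rfl
      exact ⟨0, by simp, rfl⟩
  rw [h1]
  constructor
  · rintro ⟨-, h⟩
    exact h
  · intro h
    refine ⟨?_, h⟩
    have hu : Unique {j : Fin 2 // j ≠ 1} := ⟨⟨⟨0, by decide⟩⟩, fun ⟨j, hj⟩ => by
      apply Subtype.ext
      fin_cases j
      · rfl
      · exact absurd rfl hj⟩
    rw [algebraicIndependent_unique_type_iff]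
    have h2 : (default : {j : Fin 2 // j ≠ 1}) = ⟨0, by decide⟩ := Subsingleton.elim _ _
    rw [h2]
    exact hx

/-- One of `z`, `z + t` is independent of `x`. -/
theorem pair_or {K L : Type*} [Field K] [Field L] [Algebra K L] (x t z : L)
    (hxt : AlgebraicIndependent K ![x, t]) :
    ∃ ε : K, AlgebraicIndependent K ![x, z + algebraMap K L ε * t] := by
  have hx : Transcendental K x := hxt.transcendental 0
  by_cases h : AlgebraicIndependent K ![x, z]
  · refine ⟨0, ?_⟩
    rw [map_zero, zero_mul, add_zero]
    exact h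
  · refine ⟨1, ?_⟩
    rw [map_one, one_mul, pair_iff x _ hx]
    rw [pair_iff x _ hx] at h hxt
    rw [Transcendental, not_not] at h
    intro h'
    apply hxt
    have : t = (z + t) - z := by ring
    rw [this]
    exact h'.sub h

/-- A linear combination with coefficients in the infinite subfield `K` is primitive. -/
theorem exists_primitive {K F L : Type*} [Field K] [Infinite K] [Field F] [Field L] [Algebra K L]
    [Algebra F L] [FiniteDimensional F L] [Algebra.IsSeparable F L]
    (hKF : ∀ c : K, algebraMap K L c ∈ (algebraMap F L).range) (V : Submodule K L)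
    (hV : IntermediateField.adjoin F (V : Set L) = ⊤) :
    ∃ z ∈ V, IntermediateField.adjoin F {z} = ⊤ := by
  classical
  have hfin : Finite (IntermediateField F L) := by
    rw [← Field.exists_primitive_element_iff_finite_intermediateField]
    exact ⟨inferInstance, Field.exists_primitive_element F L⟩
  cases nonempty_fintype (IntermediateField F L)
  let sub : IntermediateField F L → Submodule K V := fun E =>
    { carrier := {v | (v : L) ∈ E}
      add_mem' := fun {a b} ha hb => by
        change ((a + b : V) : L) ∈ E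
        rw [Submodule.coe_add]
        exact E.add_mem ha hb
      zero_mem' := E.zero_mem
      smul_mem' := fun c v hv => by
        change ((c • v : V) : L) ∈ E
        rw [Submodule.coe_smul, Algebra.smul_def]
        refine E.mul_mem ?_ hv
        obtain ⟨a, ha⟩ := hKF c
        rw [← ha]
        exact E.algebraMap_mem a }
  let s : Finset (Submodule K V) := (Finset.univ.filter (fun E => E ≠ ⊤)).image sub
  have hs : (⊤ : Submodule K V) ∉ s := by
    intro h
    obtain ⟨E, hE, hE'⟩ := Finset.mem_image.mp h
    have hEt := (Finset.mem_filter.mp hE).2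
    apply hEt
    rw [← top_le_iff, ← hV, IntermediateField.adjoin_le_iff]
    intro v hv
    have : (⟨v, hv⟩ : V) ∈ sub E := by rw [hE']; trivial
    exact this
  have h1 := Subspace.biUnion_ne_univ_of_top_notMem hs
  rw [Set.ne_univ_iff_exists_notMem] at h1
  obtain ⟨⟨z, hz⟩, hz'⟩ := h1
  refine ⟨z, hz, ?_⟩
  by_contra hne
  apply hz'
  simp only [Set.mem_iUnion]
  refine ⟨sub (IntermediateField.adjoin F {z}), ?_, ?_⟩
  · exact Finset.mem_image.mpr ⟨_, Finset.mem_filter.mpr ⟨Finset.mem_univ _, hne⟩, rfl⟩
  · exact IntermediateField.mem_adjoin_simple_self F z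

/-- Translation of the minimal polynomial over an integrally closed domain. -/
theorem minpoly_sub_algebraMap {B S : Type*} [CommRing B] [IsDomain B] [IsIntegrallyClosed B]
    [CommRing S] [IsDomain S] [Algebra B S] [FaithfulSMul B S] (x : S) (hx : IsIntegral B x)
    (a : B) : minpoly B (x - algebraMap B S a) = (minpoly B x).comp (Polynomial.X + Polynomial.C a) := by
  have hmon := minpoly.monic hx
  refine (IsIntegrallyClosed.minpoly.unique (hmon.comp_X_add_C _) ?_ fun q qmo hq => ?_).symm
  · simp [Polynomial.aeval_comp]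
  · have h1 : (Polynomial.aeval x) (q.comp (Polynomial.X - Polynomial.C a)) = 0 := by
      simpa [Polynomial.aeval_comp] using hq
    have H := minpoly.min B x (qmo.comp_X_sub_C _) h1
    rw [Polynomial.degree_eq_natDegree qmo.ne_zero,
      Polynomial.degree_eq_natDegree (hmon.comp_X_add_C _).ne_zero, Polynomial.natDegree_comp,
      Polynomial.natDegree_X_add_C, mul_one]
    rwa [Polynomial.degree_eq_natDegree hmon.ne_zero,
      Polynomial.degree_eq_natDegree (qmo.comp_X_sub_C _).ne_zero, Polynomial.natDegree_comp,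
      Polynomial.natDegree_X_sub_C, mul_one] at H

/-- Dehomogenization with respect to `X 0`. -/
noncomputable def dh (K : Type*) [Field K] (r : ℕ) :
    MvPolynomial (Fin (r + 1)) K →ₐ[K] MvPolynomial (Fin r) K :=
  aeval (Fin.cases (1 : MvPolynomial (Fin r) K) X)

theorem totalDegree_dh_le {K : Type*} [Field K] {r : ℕ} (p : MvPolynomial (Fin (r + 1)) K) :
    (dh K r p).totalDegree ≤ p.totalDegree := by
  refine K467.LinNoether.totalDegree_aeval_le _ (fun i => ?_) p
  refine Fin.cases ?_ (fun i => ?_) i
  · simp
  · simp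

theorem red_dh {K : Type*} [Field K] {r δ : ℕ} {p : MvPolynomial (Fin (r + 1)) K}
    (h : RedPoly.Red δ p) : RedPoly.Red δ (dh K r p) := by
  obtain ⟨G, H, hG, hH, rfl⟩ := h
  exact ⟨dh K r G, dh K r H, (totalDegree_dh_le G).trans_lt hG, (totalDegree_dh_le H).trans_lt hH,
    map_mul _ _ _⟩

theorem red_C_mul {K : Type*} [Field K] {σ : Type*} {δ : ℕ} {p : MvPolynomial σ K} (a : K)
    (h : RedPoly.Red δ p) : RedPoly.Red δ (C a * p) := by
  obtain ⟨G, H, hG, hH, rfl⟩ := h
  refine ⟨C a * G, H, ?_, hH, by ring⟩
  refine ((totalDegree_mul _ _).trans ?_).trans_lt hG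
  rw [totalDegree_C, zero_add]

theorem homog_aeval {K L : Type*} [Field K] [CommRing L] [Algebra K L] {σ : Type*} {m : ℕ}
    {p : MvPolynomial σ K} (hp : p.IsHomogeneous m) (c : L) (v : σ → L) :
    aeval (fun i => c * v i) p = c ^ m * aeval v p := by
  rw [aeval_def, aeval_def, eval₂_eq, eval₂_eq, Finset.mul_sum]
  refine Finset.sum_congr rfl fun α hα => ?_
  have h1 : ∑ i ∈ α.support, α i = m := by
    have := hp (mem_support_iff.mp hα)
    rw [← this]
    simp [Finsupp.weight_apply, Finsupp.sum]
  have h2 : ∏ i ∈ α.support, (c * v i) ^ α i = c ^ m * ∏ i ∈ α.support, v i ^ α i := by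
    rw [← h1, ← Finset.prod_pow_eq_pow_sum, ← Finset.prod_mul_distrib]
    exact Finset.prod_congr rfl fun i _ => mul_pow _ _ _
  rw [h2]
  ring

theorem essFiniteType_L {K S : Type*} [Field K] [CommRing S] [Algebra K S] (B : Type*)
    [CommRing B] [Algebra K B] [Algebra B S] [IsScalarTower K B S] [Algebra.FiniteType K B]
    [Module.Finite B S] : Algebra.EssFiniteType K (FractionRing S) := by
  have h0 : Algebra.FiniteType B S := inferInstance
  have h1 : Algebra.FiniteType K S := Algebra.FiniteType.trans (S := B) inferInstance h0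
  have h2 : Algebra.EssFiniteType S (FractionRing S) := .of_isLocalization _ (nonZeroDivisors S)
  exact .comp K S (FractionRing S)

section Ex

variable {K : Type u} [Field K] [IsAlgClosed K] {S : Type u} [CommRing S] [IsDomain S]
  [Algebra K S] {r : ℕ}
  [Algebra (MvPolynomial (Fin (r + 1)) K) S] [IsScalarTower K (MvPolynomial (Fin (r + 1)) K) S]
  [FaithfulSMul (MvPolynomial (Fin (r + 1)) K) S] [Module.Finite (MvPolynomial (Fin (r + 1)) K) S]

local notation3 "BB" => MvPolynomial (Fin (r + 1)) K
local notation3 "FF" => FractionRing BB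
local notation3 "LL" => FractionRing S

/-- The coordinates in the fraction field. -/
noncomputable def Yc (K : Type u) [Field K] (S : Type u) [CommRing S] (r : ℕ)
    [Algebra (MvPolynomial (Fin (r + 1)) K) S] : Fin (r + 1) → FractionRing S :=
  fun i => algebraMap S (FractionRing S) (algebraMap (MvPolynomial (Fin (r + 1)) K) S (X i))

omit [IsAlgClosed K] [FaithfulSMul (MvPolynomial (Fin (r + 1)) K) S]
  [Module.Finite (MvPolynomial (Fin (r + 1)) K) S] [IsDomain S] in
theorem aeval_Yc (b : MvPolynomial (Fin (r + 1)) K) :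
    aeval (Yc K S r) b = algebraMap S (FractionRing S) (algebraMap (MvPolynomial (Fin (r + 1)) K) S b) := by
  have h : (aeval (Yc K S r) : BB →ₐ[K] LL).toRingHom =
      (algebraMap S LL).comp (algebraMap BB S) := by
    apply MvPolynomial.ringHom_ext
    · intro a
      simp only [AlgHom.toRingHom_eq_coe, RingHom.coe_coe, RingHom.comp_apply,
        ← MvPolynomial.algebraMap_eq, AlgHom.commutes, ← IsScalarTower.algebraMap_apply]
    · intro i
      simp [Yc]
  exact RingHom.congr_fun h b

omit [IsAlgClosed K] [Module.Finite (MvPolynomial (Fin (r + 1)) K) S] in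
theorem algebraicIndependent_Yc : AlgebraicIndependent K (Yc K S r) := by
  rw [AlgebraicIndependent]
  intro a b hab
  rw [aeval_Yc, aeval_Yc] at hab
  exact FaithfulSMul.algebraMap_injective BB S (IsFractionRing.injective S LL hab)

/-- The affine coordinates. -/
noncomputable def yc (K : Type u) [Field K] (S : Type u) [CommRing S] [IsDomain S] (r : ℕ)
    [Algebra (MvPolynomial (Fin (r + 1)) K) S] : Fin (r + 1) → FractionRing S :=
  Fin.cases (Yc K S r 0) (fun i => Yc K S r i.succ / Yc K S r 0)

omit [IsAlgClosed K] [Module.Finite (MvPolynomial (Fin (r + 1)) K) S] in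
theorem Yc_ne_zero (i : Fin (r + 1)) : Yc K S r i ≠ 0 :=
  (algebraicIndependent_Yc (K := K) (S := S) (r := r)).ne_zero i

omit [IsAlgClosed K] [Module.Finite (MvPolynomial (Fin (r + 1)) K) S] in
theorem Yc_mem (i : Fin (r + 1)) :
    Yc K S r i ∈ IntermediateField.adjoin K (Set.range (yc K S r)) := by
  have h0 : Yc K S r 0 ∈ IntermediateField.adjoin K (Set.range (yc K S r)) :=
    IntermediateField.subset_adjoin K _ ⟨0, rfl⟩
  refine Fin.cases h0 (fun i => ?_) i
  have h1 : Yc K S r i.succ = yc K S r i.succ * Yc K S r 0 := by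
    simp only [yc, Fin.cases_succ]
    rw [div_mul_cancel₀ _ (Yc_ne_zero 0)]
  rw [h1]
  exact mul_mem (IntermediateField.subset_adjoin K _ ⟨i.succ, rfl⟩) h0

omit [IsAlgClosed K] [Module.Finite (MvPolynomial (Fin (r + 1)) K) S] in
theorem algebraMap_F_mem (a : FF) :
    algebraMap FF LL a ∈ IntermediateField.adjoin K (Set.range (yc K S r)) := by
  have h1 : ∀ b : BB, algebraMap FF LL (algebraMap BB FF b) ∈
      IntermediateField.adjoin K (Set.range (yc K S r)) := by
    intro b
    rw [← IsScalarTower.algebraMap_apply BB FF LL, IsScalarTower.algebraMap_apply BB S LL, ← aeval_Yc]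
    have h2 : aeval (Yc K S r) b ∈ Algebra.adjoin K (Set.range (Yc K S r)) := by
      rw [Algebra.adjoin_range_eq_range_aeval]
      exact ⟨b, rfl⟩
    have h3 : Algebra.adjoin K (Set.range (Yc K S r)) ≤
        (IntermediateField.adjoin K (Set.range (yc K S r))).toSubalgebra := by
      rw [Algebra.adjoin_le_iff]
      rintro _ ⟨i, rfl⟩
      exact Yc_mem i
    exact h3 h2
  obtain ⟨b, c, hc, rfl⟩ := IsFractionRing.div_surjective (A := BB) a
  rw [map_div₀]
  exact div_mem (h1 b) (h1 c)

omit [IsAlgClosed K] [Module.Finite (MvPolynomial (Fin (r + 1)) K) S] in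
theorem isSeparable_yc [Algebra.IsSeparable FF LL] :
    Algebra.IsSeparable (IntermediateField.adjoin K (Set.range (yc K S r))) LL := by
  let N := IntermediateField.adjoin K (Set.range (yc K S r))
  let ρ : FF →+* N := (algebraMap FF LL).codRestrict N.toSubfield (fun a => algebraMap_F_mem a)
  let _ : Algebra FF N := ρ.toAlgebra
  have : IsScalarTower FF N LL := IsScalarTower.of_algebraMap_eq fun _ => rfl
  exact Algebra.isSeparable_tower_top_of_isSeparable FF N LL

omit [IsAlgClosed K] [Module.Finite (MvPolynomial (Fin (r + 1)) K) S] in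
theorem algebraicIndependent_yc [Algebra.IsSeparable FF LL] : AlgebraicIndependent K (yc K S r) := by
  have h0 := isSeparable_yc (K := K) (S := S) (r := r)
  have halg : Algebra.IsAlgebraic (Algebra.adjoin K (Set.range (yc K S r))) LL :=
    IntermediateField.isAlgebraic_adjoin_iff_top.mp inferInstance
  have hle := (algebraicIndependent_Yc (K := K) (S := S) (r := r)).lift_cardinalMk_le_trdeg
  exact (Algebra.IsAlgebraic.isTranscendenceBasis_of_lift_le_trdeg_of_finite K _ hle).1

omit [IsAlgClosed K] [Module.Finite BB S] in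
/-- The dehomogenized equation of `z / Y₀`. -/
theorem eval_dh (z : S) (f : Polynomial BB)
    (hhom : ∀ i ≤ f.natDegree, (f.coeff i).IsHomogeneous (f.natDegree - i))
    (hz : Polynomial.aeval z f = 0) :
    Polynomial.eval₂ (aeval (fun i => yc K S r i.succ) : MvPolynomial (Fin r) K →ₐ[K] LL).toRingHom
      (algebraMap S LL z / Yc K S r 0) (f.map (dh K r).toRingHom) = 0 := by
  have hY0 : Yc K S r 0 ≠ 0 := Yc_ne_zero 0
  have hdhY : ∀ p : BB, ∀ m, p.IsHomogeneous m →
      algebraMap S LL (algebraMap BB S p) =
        Yc K S r 0 ^ m * aeval (fun i => yc K S r i.succ) (dh K r p) := by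
    intro p m hp
    rw [← aeval_Yc]
    have h1 : (Yc K S r) = fun i => Yc K S r 0 *
        (Fin.cases (1 : LL) (fun i => yc K S r i.succ) i : LL) := by
      funext i
      refine Fin.cases ?_ (fun i => ?_) i
      · simp
      · simp only [Fin.cases_succ, yc]
        rw [mul_div_cancel₀ _ hY0]
    have h2 : (aeval (fun i => yc K S r i.succ) : MvPolynomial (Fin r) K →ₐ[K] LL).comp (dh K r) =
        aeval (fun i => (Fin.cases (1 : LL) (fun i => yc K S r i.succ) i : LL)) := by
      apply MvPolynomial.algHom_ext
      intro i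
      refine Fin.cases ?_ (fun i => ?_) i
      · simp [dh]
      · simp [dh]
    conv_lhs => rw [h1]
    rw [homog_aeval hp, ← h2]
    rfl
  have h1 : Yc K S r 0 ^ f.natDegree * Polynomial.eval₂ (aeval (fun i => yc K S r i.succ) :
      MvPolynomial (Fin r) K →ₐ[K] LL).toRingHom (algebraMap S LL z / Yc K S r 0)
      (f.map (dh K r).toRingHom) = algebraMap S LL (Polynomial.aeval z f) := by
    rw [Polynomial.eval₂_map, Polynomial.eval₂_eq_sum_range, Finset.mul_sum,
      Polynomial.aeval_eq_sum_range, map_sum]
    refine Finset.sum_congr rfl fun i hi => ?_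
    have hi' : i ≤ f.natDegree := by
      have := Finset.mem_range.mp hi
      omega
    rw [Algebra.smul_def, map_mul, hdhY _ _ (hhom i hi'), map_pow, div_pow]
    have h3 : Yc K S r 0 ^ f.natDegree = Yc K S r 0 ^ (f.natDegree - i) * Yc K S r 0 ^ i := by
      rw [← pow_add]
      congr 1
      omega
    rw [h3]
    have h4 : Yc K S r 0 ^ i ≠ 0 := pow_ne_zero _ hY0
    have h5 : ((aeval (fun i => yc K S r i.succ) : MvPolynomial (Fin r) K →ₐ[K] LL).toRingHom.comp
        (dh K r).toRingHom) (f.coeff i) = aeval (fun i => yc K S r i.succ) (dh K r (f.coeff i)) := rfl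
    rw [h5]
    field_simp
  rw [hz, map_zero] at h1
  exact (mul_eq_zero.mp h1).resolve_left (pow_ne_zero _ hY0)

/-- **Existence of a linear form with irreducible norm form.** -/
theorem exists_not_red_nrm [Algebra.IsSeparable FF LL] (hr : 2 ≤ r) (γ : S →ₐ[K] Polynomial S)
    (V : Submodule K S) (hVγ : ∀ x ∈ V, γ x = Polynomial.C x * Polynomial.X)
    (hYV : ∀ i, algebraMap BB S (X i) ∈ V)
    (hVgen : IntermediateField.adjoin FF (algebraMap S LL '' (V : Set S)) = ⊤) :
    ∃ x ∈ V, ¬ RedPoly.Red (Module.finrank FF LL) (nrm BB x) := by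
  classical
  have hinfK : Infinite K := IsAlgClosed.instInfinite
  have hfd : FiniteDimensional FF LL := fd (B := BB) (S := S)
  have hess : Algebra.EssFiniteType K LL := essFiniteType_L (K := K) (S := S) BB
  have hγ : ∀ i, γ (algebraMap BB S (X i)) = Polynomial.C (algebraMap BB S (X i)) * Polynomial.X :=
    fun i => hVγ _ (hYV i)
  set δ := Module.finrank FF LL with hδ
  have hY0 : Yc K S r 0 ≠ 0 := Yc_ne_zero 0
  -- a primitive linear form
  let VL : Submodule K LL := V.map (IsScalarTower.toAlgHom K S LL).toLinearMap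
  have hKF : ∀ c : K, algebraMap K LL c ∈ (algebraMap FF LL).range := by
    intro c
    refine ⟨algebraMap BB FF (algebraMap K BB c), ?_⟩
    rw [← IsScalarTower.algebraMap_apply BB FF LL, IsScalarTower.algebraMap_apply BB S LL,
      ← IsScalarTower.algebraMap_apply K BB S, ← IsScalarTower.algebraMap_apply K S LL]
  obtain ⟨_, ⟨z, hzV, rfl⟩, hz⟩ := exists_primitive (K := K) (F := FF) hKF VL hVgen
  change IntermediateField.adjoin FF {algebraMap S LL z} = ⊤ at hz
  have hzint : IsIntegral BB z := Algebra.IsIntegral.isIntegral z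
  set f := minpoly BB z with hf
  have hfmon : f.Monic := minpoly.monic hzint
  have hfdeg : f.natDegree = δ := by
    have h1 := natDegree_minpoly_mul (B := BB) z
    rw [hz, IntermediateField.finrank_top, mul_one] at h1
    exact h1
  have hhom : ∀ i ≤ f.natDegree, (f.coeff i).IsHomogeneous (f.natDegree - i) :=
    fun i hi => minpoly_homog γ hγ z (hVγ z hzV) i hi
  let f₁ : Polynomial (MvPolynomial (Fin r) K) := f.map (dh K r).toRingHom
  have hf₁mon : f₁.Monic := hfmon.map _
  have hf₁deg : f₁.natDegree = δ := by rw [hfmon.natDegree_map]; exact hfdeg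
  let z₀ : LL := algebraMap S LL z / Yc K S r 0
  have hroot := eval_dh z f hhom (minpoly.aeval BB z)
  have hδpos : 0 < δ := Module.finrank_pos
  have hdeg : ∀ i ≤ f₁.natDegree, (f₁.coeff i).totalDegree + i ≤ f₁.natDegree := by
    intro i hi
    rw [hf₁deg] at hi ⊢
    rw [Polynomial.coeff_map]
    have h1 : (dh K r (f.coeff i)).totalDegree ≤ δ - i :=
      (totalDegree_dh_le _).trans (by
        rw [← hfdeg]
        exact (hhom i (by rw [hfdeg]; exact hi)).totalDegree_le)
    have h2 : (dh K r).toRingHom (f.coeff i) = dh K r (f.coeff i) := rfl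
    rw [h2]
    omega
  -- the map to `F`
  let yF : Fin r → FF := fun i => algebraMap BB FF (X i.succ) / algebraMap BB FF (X 0)
  have hyF : ∀ i, algebraMap FF LL (yF i) = yc K S r i.succ := by
    intro i
    simp only [yF, map_div₀, ← IsScalarTower.algebraMap_apply BB FF LL, yc, Fin.cases_succ, Yc,
      IsScalarTower.algebraMap_apply BB S LL]
  have hycind := algebraicIndependent_yc (K := K) (S := S) (r := r)
  have hycind' : AlgebraicIndependent K (fun i : Fin r => yc K S r i.succ) :=
    hycind.comp Fin.succ (Fin.succ_injective r)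
  let a : MvPolynomial (Fin r) K →+* FF := eval₂Hom ((algebraMap BB FF).comp C) yF
  have ha : (algebraMap FF LL).comp a =
      (aeval (fun i => yc K S r i.succ) : MvPolynomial (Fin r) K →ₐ[K] LL).toRingHom := by
    apply MvPolynomial.ringHom_ext
    · intro c
      simp only [a, RingHom.comp_apply, coe_eval₂Hom, eval₂_C, AlgHom.toRingHom_eq_coe,
        RingHom.coe_coe, ← IsScalarTower.algebraMap_apply BB FF LL]
      rw [← MvPolynomial.algebraMap_eq, ← MvPolynomial.algebraMap_eq, AlgHom.commutes,
        IsScalarTower.algebraMap_apply BB S LL, ← IsScalarTower.algebraMap_apply K BB S,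
        ← IsScalarTower.algebraMap_apply K S LL]
    · intro i
      simp [a, hyF]
  have hainj : Function.Injective a := by
    intro p q hpq
    apply hycind'
    have h1 := congrArg (algebraMap FF LL) hpq
    have h2 := fun p => RingHom.congr_fun ha p
    exact (h2 p).symm.trans (h1.trans (h2 q))
  have hz₀ : IntermediateField.adjoin FF {z₀} = ⊤ := by
    rw [← top_le_iff, ← hz, IntermediateField.adjoin_simple_le_iff]
    have h1 : algebraMap S LL z = algebraMap FF LL (algebraMap BB FF (X 0)) * z₀ := by
      have h2 : algebraMap FF LL (algebraMap BB FF (X 0)) = Yc K S r 0 := by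
        rw [← IsScalarTower.algebraMap_apply BB FF LL, IsScalarTower.algebraMap_apply BB S LL]
        rfl
      rw [h2]
      simp only [z₀]
      rw [mul_div_cancel₀ _ hY0]
    rw [h1]
    exact mul_mem (algebraMap_mem _ _) (IntermediateField.mem_adjoin_simple_self FF z₀)
  have hz₀deg : (minpoly FF z₀).natDegree = δ := by
    rw [← IntermediateField.adjoin.finrank (IsIntegral.of_finite FF z₀), hz₀,
      IntermediateField.finrank_top']
  have hker : ∀ g : Polynomial (MvPolynomial (Fin r) K),
      Polynomial.eval₂ (aeval (fun i : Fin r => yc K S r i.succ) :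
        MvPolynomial (Fin r) K →ₐ[K] LL).toRingHom z₀ g = 0 ↔ f₁ ∣ g := by
    intro g
    constructor
    · intro hg
      rw [← Polynomial.modByMonic_eq_zero_iff_dvd hf₁mon]
      have h1 : Polynomial.eval₂ (aeval (fun i : Fin r => yc K S r i.succ) :
        MvPolynomial (Fin r) K →ₐ[K] LL).toRingHom z₀ (g %ₘ f₁) = 0 := by
        have h2 := Polynomial.modByMonic_add_div g f₁
        rw [← h2, Polynomial.eval₂_add, Polynomial.eval₂_mul, hroot, zero_mul, add_zero] at hg
        exact hg
      rw [← ha, ← Polynomial.eval₂_map] at h1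
      have h3 : Polynomial.aeval z₀ ((g %ₘ f₁).map a) = 0 := h1
      by_contra hne
      have h4 : (g %ₘ f₁).map a ≠ 0 := by
        rw [ne_eq, Polynomial.map_eq_zero_iff hainj]
        exact hne
      have h5 := Polynomial.natDegree_le_natDegree (minpoly.degree_le_of_ne_zero FF z₀ h4 h3)
      rw [hz₀deg, Polynomial.natDegree_map_eq_of_injective hainj] at h5
      have h6 : (g %ₘ f₁).natDegree < f₁.natDegree :=
        Polynomial.natDegree_modByMonic_lt g hf₁mon (by
          intro h7
          rw [h7, Polynomial.natDegree_one] at hf₁deg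
          omega)
      omega
    · rintro ⟨q, rfl⟩
      rw [Polynomial.eval₂_mul, hroot, zero_mul]
  -- the pencil
  let i0 : Fin r := ⟨0, by omega⟩
  let i1 : Fin r := ⟨1, by omega⟩
  have h01 : i1 ≠ i0 := by
    intro h
    have := congrArg Fin.val h
    simp [i0, i1] at this
  have hpair : AlgebraicIndependent K ![yc K S r i0.succ, yc K S r i1.succ] := by
    have h1 := hycind'.comp ![i0, i1] (by
      intro a b hab
      fin_cases a <;> fin_cases b
      · rfl
      · exact absurd hab.symm h01
      · exact absurd hab h01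
      · rfl)
    convert h1 using 1
    funext i
    fin_cases i <;> rfl
  obtain ⟨ε, hε⟩ := pair_or (yc K S r i0.succ) (yc K S r i1.succ) z₀ hpair
  have hsep' := isSeparable_yc (K := K) (S := S) (r := r)
  obtain ⟨b, c, hbc⟩ := Pencil.exists_section (yc K S r) hycind Fin.succ (Fin.succ_injective r)
    i0 i1 h01 ε z₀ hε f₁ hf₁mon hker (by omega) hdeg
  rw [hf₁deg] at hbc
  let u : BB := C b * X 0 + C c * X i0.succ - C ε * X i1.succ
  have hu : dh K r u = Pencil.lin i0 i1 c ε b := by
    have hC : ∀ e : K, dh K r (C e) = C e := fun e => (dh K r).commutes e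
    simp only [u, map_sub, map_add, map_mul, hC, Pencil.lin]
    simp [dh]
  have huV : algebraMap BB S u ∈ V := by
    have h1 : ∀ e : K, ∀ i, algebraMap BB S (C e * X i) ∈ V := by
      intro e i
      rw [map_mul, ← MvPolynomial.algebraMap_eq, ← IsScalarTower.algebraMap_apply,
        ← Algebra.smul_def]
      exact V.smul_mem _ (hYV i)
    rw [map_sub, map_add]
    exact V.sub_mem (V.add_mem (h1 _ _) (h1 _ _)) (h1 _ _)
  refine ⟨z - algebraMap BB S u, V.sub_mem hzV huV, ?_⟩
  have hmin := minpoly_sub_algebraMap z hzint u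
  have hprim : IntermediateField.adjoin FF {algebraMap S LL (z - algebraMap BB S u)} = ⊤ := by
    rw [← top_le_iff, ← hz, IntermediateField.adjoin_simple_le_iff]
    have h1 : algebraMap S LL z = algebraMap S LL (z - algebraMap BB S u) +
        algebraMap FF LL (algebraMap BB FF u) := by
      rw [map_sub, ← IsScalarTower.algebraMap_apply BB FF LL,
        ← IsScalarTower.algebraMap_apply BB S LL]
      ring
    rw [h1]
    exact add_mem (IntermediateField.mem_adjoin_simple_self FF _) (algebraMap_mem _ _)
  have hnrm : nrm BB (z - algebraMap BB S u) = C ((-1) ^ δ) * f.eval u := by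
    rw [nrm, hprim, IntermediateField.finrank_top, pow_one, hmin, Polynomial.natDegree_comp,
      Polynomial.natDegree_X_add_C, mul_one, hfdeg, Polynomial.coeff_zero_eq_eval_zero,
      Polynomial.eval_comp]
    simp [hf]
  intro hred
  rw [hnrm] at hred
  have h1 := red_C_mul ((-1) ^ δ) (red_dh hred)
  apply hbc
  have h2 : C ((-1 : K) ^ δ) * dh K r (C ((-1) ^ δ) * f.eval u) = f₁.eval (Pencil.lin i0 i1 c ε b) := by
    have h3 : dh K r (f.eval u) = f₁.eval (Pencil.lin i0 i1 c ε b) := by
      rw [← hu]
      change (dh K r).toRingHom (f.eval u) = (f.map (dh K r).toRingHom).eval ((dh K r).toRingHom u)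
      rw [Polynomial.eval_map, Polynomial.eval₂_hom]
    rw [map_mul, h3]
    have hC : dh K r (C ((-1) ^ δ)) = C ((-1) ^ δ) := (dh K r).commutes _
    rw [hC, ← mul_assoc, ← C_mul, ← pow_add, ← two_mul, pow_mul]
    simp
  rw [← h2]
  exact h1

end Ex

end K669.Cone
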