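import Groth.Agent.Zeta.K669.ConeDesc

/-!
# The algebraic form of the theorem on hyperplane sections
-/

set_option autoImplicit false
universe u v

open TensorProduct Filter Topology

namespace K669.ConeFinal

open K669.ConeModel K669.ConeChart

section chart

variable (k : Type u) [Field k] (K : Type u) [Field K] [Algebra k K] {E : Type u} [Field E]
  [Algebra k E] {n : ℕ} (v : Fin (n + 1) → E)

/-- The coordinate ring of the cone. -/
abbrev SS : Type u := Algebra.adjoin K (Set.range (TT k K v))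

/-- The coordinates. -/
noncomputable def T (i : Fin (n + 1)) : SS k K v := ⟨TT k K v i, Algebra.subset_adjoin ⟨i, rfl⟩⟩

theorem adjoin_T : Algebra.adjoin K (Set.range (T k K v)) = ⊤ := by
  have h := Algebra.adjoin_adjoin_coe_preimage (R := K) (s := Set.range (TT k K v))
  convert h using 2
  ext x
  constructor
  · rintro ⟨i, rfl⟩
    exact ⟨i, rfl⟩
  · rintro ⟨i, hi⟩
    exact ⟨i, Subtype.ext hi⟩

variable {k K v} {i : Fin (n + 1)} (hi : v i ≠ 0) {B : Type u} [CommRing B] [Algebra k B]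
  (t : Fin (n + 1) → B) (ht : Algebra.adjoin k (Set.range t) = ⊤) (ρ : B →ₐ[k] E)
  (hρ : Function.Injective ρ) (hρt : ∀ l, ρ (t l) = v l / v i)

include hi ht hρ hρt in
/-- The map from the cone to a chart. -/
theorem exists_θ (γ : SS k K v →ₐ[K] Polynomial (SS k K v))
    (hγ : ∀ s, (γ s).map (Algebra.adjoin K (Set.range (TT k K v))).val.toRingHom = Γ (K := K) (s : Polynomial (K ⊗[k] E))) :
    ∃ θ : SS k K v →ₐ[K] K ⊗[k] B, Function.Surjective θ ∧ (∀ l, θ (T k K v l) = 1 ⊗ₜ t l) ∧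
      θ (T k K v i) = 1 ∧ ∀ d s, Hmg γ d s → θ s = 0 → s = 0 := by
  let m : K ⊗[k] B →ₐ[K] K ⊗[k] E := Algebra.TensorProduct.map (AlgHom.id K K) ρ
  have hm : Function.Injective m := Module.Flat.lTensor_preserves_injective_linearMap ρ.toLinearMap hρ
  have hmt : ∀ b : B, m (1 ⊗ₜ b) = 1 ⊗ₜ ρ b := fun b => by
    simp [m]
  let ev : Polynomial (K ⊗[k] E) →ₐ[K] K ⊗[k] E :=
    (Polynomial.aeval ((1 : K) ⊗ₜ[k] (v i)⁻¹ : K ⊗[k] E) : _ →ₐ[K ⊗[k] E] K ⊗[k] E).restrictScalars K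
  have hevT : ∀ l, ev (TT k K v l) = m (1 ⊗ₜ t l) := by
    intro l
    change Polynomial.aeval ((1 : K) ⊗ₜ[k] (v i)⁻¹ : K ⊗[k] E) (TT k K v l) = _
    rw [TT, map_mul, Polynomial.aeval_C, Polynomial.aeval_X, hmt, hρt]
    change (1 : K) ⊗ₜ[k] v l * (1 : K) ⊗ₜ[k] (v i)⁻¹ = _
    rw [Algebra.TensorProduct.tmul_mul_tmul, one_mul, div_eq_mul_inv]
  have hrange : ∀ s : SS k K v, ev s ∈ m.range := by
    intro s
    have h1 : Algebra.adjoin K (Set.range (TT k K v)) ≤ m.range.comap ev := by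
      rw [Algebra.adjoin_le_iff]
      rintro _ ⟨l, rfl⟩
      exact ⟨_, (hevT l).symm⟩
    exact h1 s.2
  let θ : SS k K v →ₐ[K] K ⊗[k] B := (AlgEquiv.ofInjective m hm).symm.toAlgHom.comp
    ((ev.comp (Algebra.adjoin K (Set.range (TT k K v))).val).codRestrict m.range hrange)
  have hθ : ∀ s : SS k K v, m (θ s) = ev s := by
    intro s
    have h1 : (AlgEquiv.ofInjective m hm) (θ s) =
        (ev.comp (Algebra.adjoin K (Set.range (TT k K v))).val).codRestrict m.range hrange s :=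
      (AlgEquiv.ofInjective m hm).apply_symm_apply _
    exact congrArg Subtype.val h1
  have hθT : ∀ l, θ (T k K v l) = 1 ⊗ₜ t l := by
    intro l
    apply hm
    rw [hθ]
    exact hevT l
  refine ⟨θ, ?_, hθT, ?_, ?_⟩
  · -- surjectivity
    have h1 : ∀ b : B, (1 : K) ⊗ₜ[k] b ∈ θ.range := by
      let R' : Subalgebra k B :=
        { carrier := {b | (1 : K) ⊗ₜ[k] b ∈ θ.range}
          mul_mem' := fun {a b} ha hb => by
            change (1 : K) ⊗ₜ[k] (a * b) ∈ θ.range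
            have h2 : (1 : K) ⊗ₜ[k] (a * b) = ((1 : K) ⊗ₜ[k] a) * ((1 : K) ⊗ₜ[k] b) := by
              rw [Algebra.TensorProduct.tmul_mul_tmul, mul_one]
            rw [h2]
            exact θ.range.mul_mem ha hb
          add_mem' := fun {a b} ha hb => by
            change (1 : K) ⊗ₜ[k] (a + b) ∈ θ.range
            rw [TensorProduct.tmul_add]
            exact θ.range.add_mem ha hb
          algebraMap_mem' := fun c => by
            change (1 : K) ⊗ₜ[k] (algebraMap k B c) ∈ θ.range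
            have h2 : (1 : K) ⊗ₜ[k] (algebraMap k B c) = algebraMap K (K ⊗[k] B) (algebraMap k K c) := by
              change _ = (algebraMap k K c) ⊗ₜ[k] (1 : B)
              rw [Algebra.algebraMap_eq_smul_one, Algebra.algebraMap_eq_smul_one, TensorProduct.smul_tmul]
            rw [h2]
            exact θ.range.algebraMap_mem _ }
      intro b
      have h2 : (⊤ : Subalgebra k B) ≤ R' := by
        rw [← ht, Algebra.adjoin_le_iff]
        rintro _ ⟨l, rfl⟩
        exact ⟨T k K v l, hθT l⟩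
      exact h2 (trivial : b ∈ (⊤ : Subalgebra k B))
    intro x
    change x ∈ θ.range
    induction x using TensorProduct.induction_on with
    | zero => exact θ.range.zero_mem
    | add x y hx hy => exact θ.range.add_mem hx hy
    | tmul a b =>
      have h3 : a ⊗ₜ[k] b = (algebraMap K (K ⊗[k] B) a) * ((1 : K) ⊗ₜ[k] b) := by
        change _ = (a ⊗ₜ[k] (1 : B)) * ((1 : K) ⊗ₜ[k] b)
        rw [Algebra.TensorProduct.tmul_mul_tmul, mul_one, one_mul]
      rw [h3]
      exact θ.range.mul_mem (θ.range.algebraMap_mem _) (h1 b)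
  · apply hm
    rw [hθT, hmt, hρt, div_self hi, map_one]
    rfl
  · intro d s hs h0
    have h1 : Γ (K := K) (s : Polynomial (K ⊗[k] E)) =
        Polynomial.C (s : Polynomial (K ⊗[k] E)) * Polynomial.X ^ d := by
      have h2 : γ s = Polynomial.C s * Polynomial.X ^ d := hs
      rw [← hγ, h2, Polynomial.map_mul, Polynomial.map_pow, Polynomial.map_C, Polynomial.map_X]
      rfl
    have h3 := eq_of_Γ h1
    have h4 : ev (s : Polynomial (K ⊗[k] E)) = 0 := by rw [← hθ, h0, map_zero]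
    rw [h3] at h4
    change Polynomial.aeval ((1 : K) ⊗ₜ[k] (v i)⁻¹ : K ⊗[k] E) _ = 0 at h4
    rw [map_mul, map_pow, Polynomial.aeval_C, Polynomial.aeval_X] at h4
    have hu : IsUnit (((1 : K) ⊗ₜ[k] (v i)⁻¹ : K ⊗[k] E) ^ d) := by
      refine IsUnit.pow _ ?_
      exact (isUnit_iff_ne_zero.mpr (inv_ne_zero hi)).map
        (Algebra.TensorProduct.includeRight : E →ₐ[k] K ⊗[k] E)
    have h5 : (s : Polynomial (K ⊗[k] E)).coeff d = 0 := hu.mul_left_eq_zero.mp h4
    apply Subtype.ext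
    rw [h3, h5, map_zero, zero_mul]
    rfl

end chart

/-- The section by `β` is good on the chart `i`, `I` is the set of charts meeting the section. -/
def ChartGood (k K : Type u) [Field k] [Field K] [Algebra k K] {n : ℕ} (I : Set (Fin (n + 1)))
    (i : Fin (n + 1)) {B : Type u} [CommRing B] [Algebra k B] (t : Fin (n + 1) → B) (β : B) : Prop :=
  (i ∉ I → Ideal.span {β} = ⊤) ∧
  (i ∈ I → IrreducibleSpace (PrimeSpectrum (K ⊗[k] (B ⧸ Ideal.span {β}))) ∧
    (∀ j ∈ I, t j ∉ (Ideal.span {β}).radical) ∧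
    ∃ c : B, c ∉ (Ideal.span {β}).radical ∧ ∀ y ∈ (Ideal.span {β}).radical, c * y ∈ Ideal.span {β})

section abstractS

variable {k K : Type u} [Field k] [Field K] [Algebra k K] {n : ℕ} {S : Type u} [CommRing S]
  [Algebra K S] {γ : S →ₐ[K] Polynomial S} {T : Fin (n + 1) → S}
  (hT : Algebra.adjoin K (Set.range T) = ⊤)
  (hγT : ∀ i, γ (T i) = Polynomial.C (T i) * Polynomial.X)
  {B : Type u} [CommRing B] [Algebra k B] {t : Fin (n + 1) → B}

theorem hmg_lin (hγT : ∀ i, γ (T i) = Polynomial.C (T i) * Polynomial.X) (h : Fin (n + 1) → K) :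
    Hmg γ 1 (∑ l, algebraMap K S (h l) * T l) := by
  refine Hmg.sum _ fun l _ => ?_
  have h1 : Hmg γ 0 (algebraMap K S (h l)) := by
    rw [Hmg, AlgHom.commutes, pow_zero, mul_one]
    rfl
  have h2 := h1.mul (hmg_T hγT l)
  rwa [zero_add] at h2

include hT hγT in
theorem chartGood_of (h : Fin (n + 1) → k) (θ : S →ₐ[K] K ⊗[k] B) (hθs : Function.Surjective θ)
    (hθT : ∀ l, θ (T l) = 1 ⊗ₜ t l) (i : Fin (n + 1)) (hθ1 : θ (T i) = 1)
    (hθinj : ∀ d s, Hmg γ d s → θ s = 0 → s = 0) {q : Ideal S} (hq : q.IsPrime)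
    (hrad : (Ideal.span {∑ l, algebraMap K S (algebraMap k K (h l)) * T l}).radical = q)
    (s : S) (hs : s ∉ q) (hsq : ∀ z ∈ q, s * z ∈ Ideal.span
      {∑ l, algebraMap K S (algebraMap k K (h l)) * T l}) :
    ChartGood k K {i | T i ∉ q} i t (∑ l, algebraMap k B (h l) * t l) := by
  set ℓ : S := ∑ l, algebraMap K S (algebraMap k K (h l)) * T l with hℓ
  have hℓγ : Hmg γ 1 ℓ := hmg_lin hγT _
  have hθℓ : θ ℓ = (1 : K) ⊗ₜ[k] (∑ l, algebraMap k B (h l) * t l) := by
    rw [hℓ, map_sum, TensorProduct.tmul_sum]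
    refine Finset.sum_congr rfl fun l _ => ?_
    rw [map_mul, AlgHom.commutes, hθT]
    have h1 : algebraMap K (K ⊗[k] B) (algebraMap k K (h l)) = (1 : K) ⊗ₜ[k] (algebraMap k B (h l)) := by
      change (algebraMap k K (h l)) ⊗ₜ[k] (1 : B) = _
      rw [Algebra.algebraMap_eq_smul_one, Algebra.algebraMap_eq_smul_one, TensorProduct.smul_tmul]
    rw [h1, Algebra.TensorProduct.tmul_mul_tmul, mul_one]
  let θ' : S →+* K ⊗[k] B := θ.toRingHom
  have hθs' : Function.Surjective θ' := hθs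
  have hθ' : ∀ x, θ' x = θ x := fun _ => rfl
  have hθ1' : θ' (T i) = 1 := hθ1
  have hθinj' : ∀ d s, Hmg γ d s → θ' s = 0 → s = 0 := hθinj
  constructor
  · intro hiq
    refine ConeDesc.span_eq_top (k := k) (K := K) ?_
    rw [← hθℓ]
    exact ConeChart.span_eq_top θ' i hθ1' hrad (not_not.mp hiq)
  · intro hiq
    have hpr := isPrime_radical hT hγT θ' hθs' i hθ1' hθinj' hℓγ hq hrad hiq
    have hmem : ∀ j, θ' (T j) ∈ (Ideal.span {θ' ℓ}).radical ↔ T j ∈ q := fun j =>
      mem_radical_iff hT hγT θ' hθs' i hθ1' hθinj' hℓγ hq hrad hiq (hmg_T hγT j)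
    obtain ⟨s', hs', hs''⟩ := exists_generic hT hγT θ' hθs' i hθ1' hθinj' hℓγ hq hrad hiq s hs hsq
    rw [hθ', hθℓ] at hpr hs' hs''
    refine ⟨ConeDesc.irreducibleSpace_desc hpr, fun j hj hjr => ?_, ConeDesc.exists_desc s' hs' hs''⟩
    have h1 := ConeDesc.one_tmul_mem_radical (k := k) (K := K) hjr
    have h2 := hmem j
    rw [hθ', hθ', hθℓ, hθT] at h2
    exact hj (h2.mp h1)

end abstractS

theorem main (k : Type u) [Field k] (K : Type u) [Field K] [IsAlgClosed K] [Algebra k K]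
    [Algebra.IsAlgebraic k K] {E : Type u} [Field E] [Algebra k E] [IsDomain (K ⊗[k] E)] {n r : ℕ}
    (hr : 2 ≤ r) (v : Fin (n + 1) → E) {j₀ : Fin (n + 1)} (hj₀ : v j₀ = 1)
    (hv : IntermediateField.adjoin k (Set.range v) = ⊤) (htr : Algebra.trdeg k E = (r : Cardinal.{u}))
    (d : ℕ) (hgr : ∀ ε : ℝ, 0 < ε → ∀ᶠ t : ℕ in atTop,
      (K467.HilbCone.H (k := k) v t : ℝ) ≤ ((d : ℝ) / (r.factorial : ℝ) + ε) * (t : ℝ) ^ r) :
    ∃ g : MvPolynomial (Fin (n + 1)) K, g ≠ 0 ∧ g.totalDegree ≤ Cone.Dmax.{u} r d ∧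
      ∀ h : Fin (n + 1) → k, MvPolynomial.eval (fun l => algebraMap k K (h l)) g ≠ 0 →
        ∃ I : Set (Fin (n + 1)), I.Nonempty ∧ (∀ i ∈ I, v i ≠ 0) ∧
          ∀ i, v i ≠ 0 → ∀ {B : Type u} [CommRing B] [Algebra k B] (t : Fin (n + 1) → B),
            Algebra.adjoin k (Set.range t) = ⊤ → ∀ ρ : B →ₐ[k] E, Function.Injective ρ →
              (∀ l, ρ (t l) = v l / v i) →
              ChartGood k K I i t (∑ l, algebraMap k B (h l) * t l) := by
  classical
  have hA : IsDomain (Polynomial (K ⊗[k] E)) := inferInstance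
  have hS : IsDomain (SS k K v) := inferInstance
  obtain ⟨γ, hγT, hγ⟩ := exists_γ (K := K) (TT k K v) (Γ (K := K)) (by
    intro i
    rw [TT, map_mul, Γ_C, Γ_X, Polynomial.C_mul]
    ring)
  have htrS : Algebra.trdeg K (FractionRing (SS k K v)) = ((r + 1 : ℕ) : Cardinal.{u}) := by
    rw [trdeg_cone k K v hj₀ hv, htr]
    push_cast; rfl
  obtain ⟨g, hg0, hgd, hg⟩ := Cone.exists_main (K := K) (S := SS k K v) hr γ (T k K v)
    (adjoin_T k K v) hγT d htrS (by
      intro ε hε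
      filter_upwards [hgr ε hε] with t ht
      refine le_trans ?_ ht
      exact_mod_cast finrank_le k K v t)
  refine ⟨g, hg0, hgd, fun h hh => ?_⟩
  obtain ⟨q, hq, hrad, ⟨i₁, hi₁⟩, s, hs, hsq⟩ := hg (fun l => algebraMap k K (h l)) hh
  have hT0 : ∀ i, v i = 0 → T k K v i = 0 := by
    intro i hi
    apply Subtype.ext
    change TT k K v i = 0
    rw [TT, hi, TensorProduct.tmul_zero, map_zero, zero_mul]
  refine ⟨{i | T k K v i ∉ q}, ⟨i₁, hi₁⟩, fun i hi h0 => hi (by rw [hT0 i h0]; exact q.zero_mem), ?_⟩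
  intro i hi B _ _ t ht ρ hρ hρt
  obtain ⟨θ, hθs, hθT, hθ1, hθinj⟩ := exists_θ (K := K) hi t ht ρ hρ hρt γ hγ
  exact chartGood_of (adjoin_T k K v) hγT h θ hθs hθT i hθ1 hθinj hq hrad s hs hsq

end K669.ConeFinal
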