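import Groth.Agent.Zeta.K669.ConeDeg
import Groth.Agent.Zeta.K669.RedPoly

/-!
# Hyperplane sections of cones: the bad linear forms lie on a hypersurface of bounded degree
-/

set_option autoImplicit false
universe u v

open MvPolynomial Filter Topology
open K669.NormPrime

attribute [local instance] FractionRing.liftAlgebra

namespace K669.Cone

/-- The section by `ℓ` is irreducible, generically reduced, and not contained in the vertex. -/
def Good {S ι : Type*} [CommRing S] (T : ι → S) (ℓ : S) : Prop :=
  ∃ q : Ideal S, q.IsPrime ∧ (Ideal.span {ℓ}).radical = q ∧ (∃ i, T i ∉ q) ∧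
    ∃ s, s ∉ q ∧ ∀ z ∈ q, s * z ∈ Ideal.span {ℓ}

/-- The constant of `RedPoly.exists_bound`. -/
noncomputable def Dd (r δ : ℕ) : ℕ := (RedPoly.exists_bound.{0, u, 0} (Fin (r + 1)) δ).choose

section

variable {K : Type u} [Field K] [IsAlgClosed K] {S : Type u} [CommRing S] [IsDomain S]
  [Algebra K S] {r : ℕ}
  [Algebra (MvPolynomial (Fin (r + 1)) K) S] [IsScalarTower K (MvPolynomial (Fin (r + 1)) K) S]
  [FaithfulSMul (MvPolynomial (Fin (r + 1)) K) S] [Module.Finite (MvPolynomial (Fin (r + 1)) K) S]

local notation3 "BB" => MvPolynomial (Fin (r + 1)) K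
local notation3 "FF" => FractionRing BB
local notation3 "LL" => FractionRing S

omit [IsAlgClosed K] in
/-- A linear form with norm irreducible is good. -/
theorem good_of_irreducible (hr : 2 ≤ r) {n : ℕ} (T : Fin (n + 1) → S)
    (hYV : ∀ i, algebraMap BB S (X i) ∈ Submodule.span K (Set.range T)) (x : S)
    (hx : Irreducible (nrm BB x)) : Good T x := by
  classical
  obtain ⟨q, hq, hrad, hcomap, b, hbq, hb⟩ := exists_prime (B := BB) x hx.prime
  refine ⟨q, hq, hrad, ?_, algebraMap BB S b, hbq, hb⟩
  by_contra hcon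
  push Not at hcon
  have hV : ∀ v ∈ Submodule.span K (Set.range T), v ∈ q := by
    intro v hv
    refine Submodule.span_induction (p := fun v _ => v ∈ q) ?_ q.zero_mem
      (fun a b _ _ ha hb => q.add_mem ha hb) (fun c a _ ha => ?_) hv
    · rintro _ ⟨i, rfl⟩
      exact hcon i
    · rw [Algebra.smul_def]
      exact q.mul_mem_left _ ha
  have hX : ∀ i : Fin (r + 1), nrm BB x ∣ X i := by
    intro i
    rw [← Ideal.mem_span_singleton, ← hcomap]
    exact hV _ (hYV i)
  let i0 : Fin (r + 1) := ⟨0, by omega⟩
  let i1 : Fin (r + 1) := ⟨1, by omega⟩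
  have h01 : i1 ≠ i0 := by
    intro h
    have := congrArg Fin.val h
    simp [i0, i1] at this
  obtain ⟨a, ha⟩ := hX i0
  have hp0 : Prime (X i0 : BB) := X_prime
  have h1 : (X i0 : BB) ∣ nrm BB x := by
    rcases hp0.irreducible.isUnit_or_isUnit ha with h | h
    · exact absurd h hx.not_isUnit
    · obtain ⟨u, rfl⟩ := h
      exact ⟨↑(u⁻¹), by rw [ha, mul_assoc, Units.mul_inv, mul_one]⟩
  obtain ⟨c, hc⟩ := h1.trans (hX i1)
  have h2 := congrArg (eval (Function.update (fun _ => (1 : K)) i0 0)) hc
  rw [map_mul, eval_X, eval_X, Function.update_self, Function.update_of_ne h01, zero_mul] at h2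
  exact one_ne_zero h2

theorem exists_g_of_B [Algebra.IsSeparable FF LL] (hr : 2 ≤ r) (γ : S →ₐ[K] Polynomial S)
    {n : ℕ} (T : Fin (n + 1) → S) (hγT : ∀ i, γ (T i) = Polynomial.C (T i) * Polynomial.X)
    (hYV : ∀ i, algebraMap BB S (X i) ∈ Submodule.span K (Set.range T))
    (hVgen : IntermediateField.adjoin FF (algebraMap S LL '' (Submodule.span K (Set.range T) : Set S)) = ⊤) :
    ∃ g : MvPolynomial (Fin (n + 1)) K, g ≠ 0 ∧
      g.totalDegree ≤ Dd.{u} r (Module.finrank FF LL) * Module.finrank FF LL ∧
      ∀ h : Fin (n + 1) → K, eval h g ≠ 0 → Good T (∑ i, algebraMap K S (h i) * T i) := by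
  classical
  have hinfK : Infinite K := IsAlgClosed.instInfinite
  have hfd : FiniteDimensional FF LL := fd (B := BB) (S := S)
  set δ := Module.finrank FF LL with hδ
  have hδpos : 0 < δ := Module.finrank_pos
  have hVγ : ∀ x ∈ Submodule.span K (Set.range T), γ x = Polynomial.C x * Polynomial.X := by
    intro v hv
    refine Submodule.span_induction
      (p := fun v _ => γ v = Polynomial.C v * Polynomial.X) ?_ ?_ ?_ ?_ hv
    · rintro _ ⟨i, rfl⟩
      exact hγT i
    · rw [map_zero, map_zero, zero_mul]
    · intro a b _ _ ha hb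
      rw [map_add, map_add, ha, hb, add_mul]
    · intro c a _ ha
      rw [map_smul, ha, Algebra.smul_def, Algebra.smul_def, map_mul, mul_assoc]
      rfl
  have hγ : ∀ i, γ (algebraMap BB S (X i)) = Polynomial.C (algebraMap BB S (X i)) * Polynomial.X :=
    fun i => hVγ _ (hYV i)
  obtain ⟨x₀, hx₀, hred⟩ := exists_not_red_nrm (K := K) (S := S) hr γ _ hVγ hYV hVgen
  obtain ⟨h₀, hh₀⟩ := (Submodule.mem_span_range_iff_exists_fun K).1 hx₀
  have hlin : ∀ h : Fin (n + 1) → K, (∑ i, algebraMap K S (h i) * T i) ∈
      Submodule.span K (Set.range T) := by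
    intro h
    refine Submodule.sum_mem _ fun i _ => ?_
    rw [← Algebra.smul_def]
    exact Submodule.smul_mem _ _ (Submodule.subset_span ⟨i, rfl⟩)
  choose p hp1 hp2 using fun α => exists_coeff_poly (K := K) (s := r + 1) T α
  let s : Finset (Fin (r + 1) →₀ ℕ) := (K467.HilbDeg.mons_finite (r + 1) δ).toFinset
  have hs : ∀ α : Fin (r + 1) →₀ ℕ, α ∈ s ↔ (α.sum fun _ e => e) ≤ δ := by
    intro α
    exact Set.Finite.mem_toFinset _
  let N : MvPolynomial (Fin (r + 1)) (MvPolynomial (Fin (n + 1)) K) := ∑ α ∈ s, monomial α (p α)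
  have hNc : ∀ α, coeff α N = if α ∈ s then p α else 0 := by
    intro α
    rw [coeff_sum]
    simp only [coeff_monomial]
    rw [Finset.sum_ite_eq']
  have hN1 : ∀ α, (coeff α N).totalDegree ≤ δ := by
    intro α
    rw [hNc]
    split_ifs
    · exact hp1 α
    · rw [totalDegree_zero]; exact Nat.zero_le _
  have hN2 : N.totalDegree ≤ δ := by
    refine totalDegree_finsetSum_le fun α hα => ?_
    exact (totalDegree_monomial_le _ _).trans ((hs α).mp hα)
  have hN3 : ∀ h : Fin (n + 1) → K, map (eval h) N = nrm BB (∑ i, algebraMap K S (h i) * T i) := by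
    intro h
    ext α
    rw [coeff_map, hNc]
    split_ifs with hα
    · exact (hp2 α h).symm
    · rw [map_zero]
      by_contra hne
      apply hα
      rw [hs]
      have h1 := totalDegree_nrm_le γ hγ _ (hVγ _ (hlin h))
      exact (le_totalDegree (mem_support_iff.mpr (Ne.symm hne))).trans h1
  obtain ⟨g, hg0, hgd, hg⟩ := (RedPoly.exists_bound.{0, u, 0} (Fin (r + 1)) δ).choose_spec δ N hN1 hN2 h₀ (by
    rw [hN3]
    have : ∑ i, algebraMap K S (h₀ i) * T i = x₀ := by
      rw [← hh₀]
      exact Finset.sum_congr rfl fun i _ => (Algebra.smul_def _ _).symm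
    rw [this]
    exact hred)
  refine ⟨g, hg0, hgd, fun h hh => ?_⟩
  have h1 := hg h hh
  rw [hN3, RedPoly.not_red_iff hδpos (totalDegree_nrm_le γ hγ _ (hVγ _ (hlin h)))] at h1
  exact good_of_irreducible hr T hYV _ h1.1

end

section main

variable {K : Type u} [Field K] {S : Type u} [CommRing S] [IsDomain S] [Algebra K S]

/-- The structure coming from a Noether normalization. -/
theorem exists_g_of_noether [IsAlgClosed K] {r : ℕ} (hr : 2 ≤ r) (γ : S →ₐ[K] Polynomial S)
    {n : ℕ} (T : Fin (n + 1) → S) (hT : Algebra.adjoin K (Set.range T) = ⊤)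
    (hγT : ∀ i, γ (T i) = Polynomial.C (T i) * Polynomial.X) (d : ℕ)
    (hgr : ∀ ε : ℝ, 0 < ε → ∀ᶠ t : ℕ in atTop,
      (Module.finrank K ((homogeneousSubmodule (Fin (n + 1)) K t).map
        (aeval T : MvPolynomial (Fin (n + 1)) K →ₐ[K] S).toLinearMap) : ℝ) ≤
        ((d : ℝ) / (r.factorial : ℝ) + ε) * (t : ℝ) ^ r)
    (Y : Fin (r + 1) → S) (hY : ∀ i, Y i ∈ Submodule.span K (Set.range T))
    (hYind : AlgebraicIndependent K Y)
    (hint : ∀ i, IsIntegral (Algebra.adjoin K (Set.range Y)) (T i))
    (hsep : ∀ i, IsSeparable (IntermediateField.adjoin K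
      (Set.range fun i => algebraMap S (FractionRing S) (Y i))) (algebraMap S (FractionRing S) (T i))) :
    ∃ δ ≤ d, ∃ g : MvPolynomial (Fin (n + 1)) K, g ≠ 0 ∧
      g.totalDegree ≤ Dd.{u} r δ * δ ∧
      ∀ h : Fin (n + 1) → K, eval h g ≠ 0 → Good T (∑ i, algebraMap K S (h i) * T i) := by
  classical
  let BB := MvPolynomial (Fin (r + 1)) K
  let φ : BB →ₐ[K] S := aeval Y
  let : Algebra BB S := φ.toRingHom.toAlgebra
  have hφ : ∀ b : BB, algebraMap BB S b = aeval Y b := fun _ => rfl
  have hφX : ∀ i, algebraMap BB S (X i) = Y i := fun i => by rw [hφ, aeval_X]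
  have hst : IsScalarTower K BB S := IsScalarTower.of_algebraMap_eq fun c => by
    rw [hφ, AlgHom.commutes]
  have hfaith : FaithfulSMul BB S := (faithfulSMul_iff_algebraMap_injective BB S).mpr hYind
  have hrange : (aeval Y : BB →ₐ[K] S).range = Algebra.adjoin K (Set.range Y) :=
    (Algebra.adjoin_range_eq_range_aeval K Y).symm
  have hintB : ∀ i, IsIntegral BB (T i) := by
    intro i
    obtain ⟨p, hp, hp2⟩ := hint i
    let e : BB ≃ₐ[K] Algebra.adjoin K (Set.range Y) := hYind.aevalEquiv
    refine ⟨p.map (e.symm : Algebra.adjoin K (Set.range Y) →+* BB), hp.map _, ?_⟩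
    rw [Polynomial.eval₂_map]
    have h1 : (algebraMap BB S).comp (e.symm : Algebra.adjoin K (Set.range Y) →+* BB) =
        algebraMap (Algebra.adjoin K (Set.range Y)) S := by
      ext x
      change aeval Y (e.symm x) = (x : S)
      rw [← hYind.algebraMap_aevalEquiv]
      change ((e (e.symm x) : Algebra.adjoin K (Set.range Y)) : S) = x
      rw [AlgEquiv.apply_symm_apply]
    rw [h1]
    exact hp2
  have hadj : Algebra.adjoin BB (Set.range T) = ⊤ := by
    rw [← top_le_iff]
    intro x _
    have h1 : x ∈ Algebra.adjoin K (Set.range T) := by rw [hT]; trivial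
    have h2 : Algebra.adjoin K (Set.range T) ≤ (Algebra.adjoin BB (Set.range T)).restrictScalars K := by
      rw [Algebra.adjoin_le_iff]
      exact Algebra.subset_adjoin
    exact h2 h1
  have hfin : Module.Finite BB S := by
    have h1 : (Algebra.adjoin BB (Set.range T)).toSubmodule.FG :=
      fg_adjoin_of_finite (Set.finite_range T) (by rintro _ ⟨i, rfl⟩; exact hintB i)
    rw [hadj] at h1
    exact ⟨by simpa using h1⟩
  let FF := FractionRing BB
  let LL := FractionRing S
  have hYF : ∀ i, algebraMap FF LL (algebraMap BB FF (X i)) = algebraMap S LL (Y i) := by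
    intro i
    rw [← IsScalarTower.algebraMap_apply BB FF LL, IsScalarTower.algebraMap_apply BB S LL, hφX]
  have hgenK : ∀ E : Subfield LL, (∀ c : K, algebraMap K LL c ∈ E) → (∀ i, algebraMap S LL (T i) ∈ E) →
      ∀ x : LL, x ∈ E := by
    intro E hEK hET x
    have h1 : ∀ s : S, algebraMap S LL s ∈ E := by
      intro s
      have hs : s ∈ Algebra.adjoin K (Set.range T) := by rw [hT]; trivial
      refine Algebra.adjoin_induction (p := fun s _ => algebraMap S LL s ∈ E) ?_ ?_ ?_ ?_ hs
      · rintro _ ⟨i, rfl⟩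
        exact hET i
      · intro c
        rw [← IsScalarTower.algebraMap_apply K S LL]
        exact hEK c
      · intro a b _ _ ha hb
        rw [map_add]
        exact E.add_mem ha hb
      · intro a b _ _ ha hb
        rw [map_mul]
        exact E.mul_mem ha hb
    obtain ⟨a, b, _, rfl⟩ := IsFractionRing.div_surjective (A := S) x
    exact E.div_mem (h1 a) (h1 b)
  have hKF : ∀ c : K, algebraMap FF LL (algebraMap BB FF (algebraMap K BB c)) = algebraMap K LL c := by
    intro c
    rw [← IsScalarTower.algebraMap_apply BB FF LL, IsScalarTower.algebraMap_apply BB S LL,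
      ← IsScalarTower.algebraMap_apply K BB S, ← IsScalarTower.algebraMap_apply K S LL]
  have hsepF : Algebra.IsSeparable FF LL := by
    -- `FF → K(Y)` is bijective
    let M := IntermediateField.adjoin K (Set.range fun i => algebraMap S LL (Y i))
    have hMrange : ∀ x ∈ M, x ∈ (algebraMap FF LL).fieldRange := by
      let E : IntermediateField K LL :=
        { (algebraMap FF LL).fieldRange with
          algebraMap_mem' := fun c => ⟨algebraMap BB FF (algebraMap K BB c), hKF c⟩ }
      have hle : M ≤ E := by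
        rw [IntermediateField.adjoin_le_iff]
        rintro _ ⟨i, rfl⟩
        exact ⟨algebraMap BB FF (X i), hYF i⟩
      exact fun x hx => hle hx
    have hFM : ∀ a : FF, algebraMap FF LL a ∈ M := by
      have h1 : ∀ b : BB, algebraMap FF LL (algebraMap BB FF b) ∈ M := by
        intro b
        rw [← IsScalarTower.algebraMap_apply BB FF LL, IsScalarTower.algebraMap_apply BB S LL, hφ]
        have h2 : aeval Y b ∈ Algebra.adjoin K (Set.range Y) := by
          rw [← hrange]; exact ⟨b, rfl⟩
        refine Algebra.adjoin_induction (p := fun s _ => algebraMap S LL s ∈ M) ?_ ?_ ?_ ?_ h2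
        · rintro _ ⟨i, rfl⟩
          exact IntermediateField.subset_adjoin K _ ⟨i, rfl⟩
        · intro c
          rw [← IsScalarTower.algebraMap_apply K S LL]
          exact M.algebraMap_mem c
        · intro a b _ _ ha hb
          rw [map_add]
          exact M.add_mem ha hb
        · intro a b _ _ ha hb
          rw [map_mul]
          exact M.mul_mem ha hb
      intro a
      obtain ⟨b, c, _, rfl⟩ := IsFractionRing.div_surjective (A := BB) a
      rw [map_div₀]
      exact M.div_mem (h1 b) (h1 c)
    let ρ : FF →+* M := (algebraMap FF LL).codRestrict M.toSubfield hFM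
    let : Algebra FF M := ρ.toAlgebra
    have : IsScalarTower FF M LL := IsScalarTower.of_algebraMap_eq fun _ => rfl
    have hρs : Function.Surjective (algebraMap FF M) := by
      intro x
      obtain ⟨a, ha⟩ := hMrange x x.2
      exact ⟨a, Subtype.ext ha⟩
    have : Algebra.IsSeparable FF M := by
      refine ⟨fun x => ?_⟩
      obtain ⟨a, rfl⟩ := hρs x
      exact isSeparable_algebraMap a
    have : Algebra.IsSeparable M LL := by
      have htop : IntermediateField.adjoin M (Set.range fun i => algebraMap S LL (T i)) = ⊤ := by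
        rw [← top_le_iff]
        intro x _
        refine hgenK (IntermediateField.adjoin M (Set.range fun i => algebraMap S LL (T i))).toSubfield
          (fun c => ?_) (fun i => ?_) x
        · exact (IntermediateField.adjoin M _).algebraMap_mem (⟨algebraMap K LL c, M.algebraMap_mem c⟩ : M)
        · exact IntermediateField.subset_adjoin M _ ⟨i, rfl⟩
      have h1 : Algebra.IsSeparable M
          (IntermediateField.adjoin M (Set.range fun i => algebraMap S LL (T i))) := by
        rw [IntermediateField.isSeparable_adjoin_iff_isSeparable]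
        rintro _ ⟨i, rfl⟩
        exact hsep i
      rw [htop] at h1
      exact Algebra.IsSeparable.of_algHom M (⊤ : IntermediateField M LL)
        (IntermediateField.topEquiv.symm : LL ≃ₐ[M] (⊤ : IntermediateField M LL)).toAlgHom
    exact Algebra.IsSeparable.trans FF M LL
  have hYV : ∀ i, algebraMap BB S (X i) ∈ Submodule.span K (Set.range T) := by
    intro i
    rw [hφX]
    exact hY i
  have hVgen : IntermediateField.adjoin FF
      (algebraMap S LL '' (Submodule.span K (Set.range T) : Set S)) = ⊤ := by
    rw [← top_le_iff]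
    intro x _
    refine hgenK (IntermediateField.adjoin FF
      (algebraMap S LL '' (Submodule.span K (Set.range T) : Set S))).toSubfield (fun c => ?_) (fun i => ?_) x
    · rw [← hKF]
      exact (IntermediateField.adjoin FF _).algebraMap_mem _
    · exact IntermediateField.subset_adjoin FF _ ⟨T i, Submodule.subset_span ⟨i, rfl⟩, rfl⟩
  have hinfK : Infinite K := IsAlgClosed.instInfinite
  refine ⟨Module.finrank FF LL, finrank_le_of_growth T hYV hVgen d hgr, ?_⟩
  exact exists_g_of_B hr γ T hγT hYV hVgen

/-- The degree bound. -/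
noncomputable def Dmax (r d : ℕ) : ℕ := (Finset.range (d + 1)).sup fun δ => Dd.{u} r δ * δ

/-- **The bad linear forms on a cone lie on a hypersurface of bounded degree.** -/
theorem exists_main [IsAlgClosed K] {r : ℕ} (hr : 2 ≤ r) (γ : S →ₐ[K] Polynomial S)
    {n : ℕ} (T : Fin (n + 1) → S) (hT : Algebra.adjoin K (Set.range T) = ⊤)
    (hγT : ∀ i, γ (T i) = Polynomial.C (T i) * Polynomial.X) (d : ℕ)
    (htr : Algebra.trdeg K (FractionRing S) = ((r + 1 : ℕ) : Cardinal))
    (hgr : ∀ ε : ℝ, 0 < ε → ∀ᶠ t : ℕ in atTop,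
      (Module.finrank K ((homogeneousSubmodule (Fin (n + 1)) K t).map
        (aeval T : MvPolynomial (Fin (n + 1)) K →ₐ[K] S).toLinearMap) : ℝ) ≤
        ((d : ℝ) / (r.factorial : ℝ) + ε) * (t : ℝ) ^ r) :
    ∃ g : MvPolynomial (Fin (n + 1)) K, g ≠ 0 ∧ g.totalDegree ≤ Dmax.{u} r d ∧
      ∀ h : Fin (n + 1) → K, eval h g ≠ 0 → Good T (∑ i, algebraMap K S (h i) * T i) := by
  classical
  have hinfK : Infinite K := IsAlgClosed.instInfinite
  let LL := FractionRing S
  let y : Fin (n + 1) → LL := fun i => algebraMap S LL (T i)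
  have hinjS : Function.Injective (algebraMap S LL) := IsFractionRing.injective S LL
  obtain ⟨s, Z, hZspan, hZind, hZint, hZsep⟩ := Noether.exists_noether (k := K) (n + 1) y
  -- pull back
  have hpull : ∀ i, ∃ Y ∈ Submodule.span K (Set.range T), algebraMap S LL Y = Z i := by
    intro i
    obtain ⟨c, hc⟩ := (Submodule.mem_span_range_iff_exists_fun K).1 (hZspan i)
    refine ⟨∑ j, c j • T j, Submodule.sum_mem _ fun j _ =>
      Submodule.smul_mem _ _ (Submodule.subset_span ⟨j, rfl⟩), ?_⟩
    rw [← hc, map_sum]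
    refine Finset.sum_congr rfl fun j _ => ?_
    rw [Algebra.smul_def, map_mul, ← IsScalarTower.algebraMap_apply K S LL, Algebra.smul_def]
  choose Y hYspan hYZ using hpull
  have hYind : AlgebraicIndependent K Y := by
    have h1 : AlgebraicIndependent K ((IsScalarTower.toAlgHom K S LL) ∘ Y) := by
      have : (IsScalarTower.toAlgHom K S LL) ∘ Y = Z := by
        funext i; exact hYZ i
      rw [this]
      exact hZind
    exact h1.of_comp _
  have hadj : (Algebra.adjoin K (Set.range Z)) =
      (Algebra.adjoin K (Set.range Y)).map (IsScalarTower.toAlgHom K S LL) := by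
    rw [AlgHom.map_adjoin, ← Set.range_comp]
    congr 2
    funext i; exact (hYZ i).symm
  have hYint : ∀ i, IsIntegral (Algebra.adjoin K (Set.range Y)) (T i) := by
    intro i
    obtain ⟨p, hp, hp2⟩ := hZint i
    -- the isomorphism of the two adjoins
    let Φ : S →ₐ[K] LL := IsScalarTower.toAlgHom K S LL
    have hΦ : Function.Injective Φ := hinjS
    let e1 : Algebra.adjoin K (Set.range Y) ≃ₐ[K] (Algebra.adjoin K (Set.range Y)).map Φ :=
      Subalgebra.equivMapOfInjective _ Φ hΦ
    let e2 : Algebra.adjoin K (Set.range Z) ≃ₐ[K] (Algebra.adjoin K (Set.range Y)).map Φ :=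
      Subalgebra.equivOfEq _ _ hadj
    let e : Algebra.adjoin K (Set.range Z) ≃ₐ[K] Algebra.adjoin K (Set.range Y) := e2.trans e1.symm
    refine ⟨p.map (e : Algebra.adjoin K (Set.range Z) →+* Algebra.adjoin K (Set.range Y)),
      hp.map _, ?_⟩
    apply hΦ
    change Φ (Polynomial.eval₂ (algebraMap (Algebra.adjoin K (Set.range Y)) S) (T i) _) = _
    rw [map_zero, Polynomial.eval₂_map]
    change (Φ : S →+* LL) _ = 0
    rw [Polynomial.hom_eval₂]
    have h1 : (Φ : S →+* LL).comp ((algebraMap (Algebra.adjoin K (Set.range Y)) S).comp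
        (e : Algebra.adjoin K (Set.range Z) →+* Algebra.adjoin K (Set.range Y))) =
        algebraMap (Algebra.adjoin K (Set.range Z)) LL := by
      ext x
      change Φ ((e x : Algebra.adjoin K (Set.range Y)) : S) = (x : LL)
      have h2 : (e1 (e x) : LL) = Φ ((e x : Algebra.adjoin K (Set.range Y)) : S) := rfl
      rw [← h2]
      change ((e1 (e1.symm (e2 x)) : (Algebra.adjoin K (Set.range Y)).map Φ) : LL) = x
      rw [AlgEquiv.apply_symm_apply]
      rfl
    rw [h1]
    exact hp2
  -- the number of variables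
  have hs : s = r + 1 := by
    have h1 : ∀ x : LL, IsAlgebraic (Algebra.adjoin K (Set.range Z)) x := by
      let A := Algebra.adjoin K (Set.range Z)
      intro x
      have h2 : ∀ a : S, IsIntegral A (algebraMap S LL a) := by
        intro a
        have ha : a ∈ Algebra.adjoin K (Set.range T) := by rw [hT]; trivial
        refine Algebra.adjoin_induction (p := fun a _ => IsIntegral A (algebraMap S LL a)) ?_ ?_ ?_ ?_ ha
        · rintro _ ⟨i, rfl⟩
          exact hZint i
        · intro c
          rw [← IsScalarTower.algebraMap_apply K S LL, IsScalarTower.algebraMap_apply K A LL]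
          exact isIntegral_algebraMap
        · intro a b _ _ ha hb
          rw [map_add]
          exact ha.add hb
        · intro a b _ _ ha hb
          rw [map_mul]
          exact ha.mul hb
      obtain ⟨a, b, _, rfl⟩ := IsFractionRing.div_surjective (A := S) x
      rw [div_eq_mul_inv]
      exact (h2 a).isAlgebraic.mul (h2 b).isAlgebraic.inv
    have h2 : IsTranscendenceBasis K Z := by
      rw [isTranscendenceBasis_iff_algebraicIndependent_isAlgebraic]
      exact ⟨hZind, ⟨h1⟩⟩
    have h3 := h2.lift_cardinalMk_eq_trdeg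
    rw [htr] at h3
    simp only [Cardinal.mk_fin, Cardinal.lift_natCast, Nat.cast_inj] at h3
    exact h3
  subst hs
  have hYsep : ∀ i, IsSeparable (IntermediateField.adjoin K
      (Set.range fun i => algebraMap S LL (Y i))) (algebraMap S LL (T i)) := by
    have h1 : (fun i => algebraMap S LL (Y i)) = Z := funext hYZ
    rw [h1]
    exact hZsep
  obtain ⟨δ, hδ, g, hg0, hgd, hg⟩ := exists_g_of_noether hr γ T hT hγT d hgr Y hYspan hYind hYint hYsep
  refine ⟨g, hg0, hgd.trans ?_, hg⟩
  exact Finset.le_sup (f := fun δ => Dd.{u} r δ * δ) (Finset.mem_range.mpr (by omega))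

end main

end K669.Cone
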