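import Groth.Agent.Zeta.K669.ConeChart
import Groth.Agent.Zeta.K467.HilbCone

/-!
# The cone over a geometrically integral variety, over the algebraic closure
-/

set_option autoImplicit false
universe u v

open Polynomial TensorProduct

namespace K669.ConeModel

/-- Restriction of a grading to the subalgebra generated by elements of degree one. -/
theorem exists_γ {K A ι : Type*} [Field K] [CommRing A] [Algebra K A] (T : ι → A)
    (Γ : A →ₐ[K] A[X]) (hΓ : ∀ i, Γ (T i) = C (T i) * X) :
    ∃ γ : Algebra.adjoin K (Set.range T) →ₐ[K] (Algebra.adjoin K (Set.range T))[X],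
      (∀ i, γ ⟨T i, Algebra.subset_adjoin ⟨i, rfl⟩⟩ = C ⟨T i, Algebra.subset_adjoin ⟨i, rfl⟩⟩ * X) ∧
      ∀ s, (γ s).map (Algebra.adjoin K (Set.range T)).val.toRingHom = Γ s := by
  let S := Algebra.adjoin K (Set.range T)
  let m : S[X] →ₐ[K] A[X] := Polynomial.mapAlgHom S.val
  have hm : Function.Injective m := Polynomial.map_injective S.val.toRingHom Subtype.val_injective
  have hm' : ∀ p : S[X], m p = p.map S.val.toRingHom := fun p => rfl
  have hrange : ∀ s : S, Γ s ∈ m.range := by
    intro s
    have h1 : S ≤ m.range.comap Γ := by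
      rw [Algebra.adjoin_le_iff]
      rintro _ ⟨i, rfl⟩
      refine ⟨C ⟨T i, Algebra.subset_adjoin ⟨i, rfl⟩⟩ * X, ?_⟩
      change Polynomial.map S.val.toRingHom _ = Γ (T i)
      rw [hΓ, Polynomial.map_mul, Polynomial.map_C, Polynomial.map_X]
      rfl
    exact h1 s.2
  let γ : S →ₐ[K] S[X] := (AlgEquiv.ofInjective m hm).symm.toAlgHom.comp
    ((Γ.comp S.val).codRestrict m.range hrange)
  have hγ : ∀ s : S, m (γ s) = Γ s := by
    intro s
    have h1 : (AlgEquiv.ofInjective m hm) (γ s) = (Γ.comp S.val).codRestrict m.range hrange s :=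
      (AlgEquiv.ofInjective m hm).apply_symm_apply _
    exact congrArg Subtype.val h1
  refine ⟨γ, fun i => ?_, hγ⟩
  apply hm
  rw [hγ, hm', Polynomial.map_mul, Polynomial.map_C, Polynomial.map_X]
  exact hΓ i

section sub

variable {K R : Type*} [Field K] [CommRing R] [Algebra K R]

/-- The substitution `X ↦ X Y`. -/
noncomputable def Γ : R[X] →ₐ[K] R[X][X] :=
  ((Polynomial.aeval (C X * X : R[X][X]) : R[X] →ₐ[R] R[X][X]).restrictScalars K)

theorem Γ_C (a : R) : Γ (K := K) (C a) = C (C a) := by
  change (Polynomial.aeval (C X * X : R[X][X])) (C a) = _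
  rw [Polynomial.aeval_C]
  rfl

theorem Γ_X : Γ (K := K) (R := R) X = C X * X := by
  change (Polynomial.aeval (C X * X : R[X][X])) X = _
  rw [Polynomial.aeval_X]

theorem Γ_coeff (s : R[X]) (e : ℕ) : (Γ (K := K) s).coeff e = C (s.coeff e) * X ^ e := by
  induction s using Polynomial.induction_on' with
  | add p q hp hq => rw [map_add, coeff_add, hp, hq, coeff_add, C_add, add_mul]
  | monomial j a =>
    rw [← C_mul_X_pow_eq_monomial, map_mul, map_pow, Γ_C, Γ_X, mul_pow, ← C_pow, ← mul_assoc,
      ← C_mul, coeff_C_mul_X_pow, coeff_C_mul_X_pow]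
    split_ifs with h
    · subst h; rfl
    · rw [C_0, zero_mul]

/-- Homogeneous elements are monomials. -/
theorem eq_of_Γ {s : R[X]} {d : ℕ} (h : Γ (K := K) s = C s * X ^ d) : s = C (s.coeff d) * X ^ d := by
  have h1 := Γ_coeff (K := K) s d
  rw [h, coeff_C_mul_X_pow, if_pos rfl] at h1
  exact h1

end sub

/-- The transcendence degree of a domain in terms of a subalgebra with the same fraction field. -/
theorem trdeg_frac_eq {K A : Type u} [Field K] [CommRing A] [IsDomain A] [Algebra K A]
    (S : Subalgebra K A)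
    (h : ∀ E : Subfield (FractionRing A), (∀ c : K, algebraMap K (FractionRing A) c ∈ E) →
      (∀ s ∈ S, algebraMap A (FractionRing A) s ∈ E) → E = ⊤) :
    Algebra.trdeg K (FractionRing S) = Algebra.trdeg K A := by
  let M := FractionRing A
  let j : S →ₐ[K] M := (IsScalarTower.toAlgHom K A M).comp S.val
  have hj : Function.Injective j := (IsFractionRing.injective A M).comp Subtype.val_injective
  let φ : FractionRing S →ₐ[K] M := IsFractionRing.liftAlgHom (K := FractionRing S) hj
  have hφ : ∀ s : S, φ (algebraMap S (FractionRing S) s) = j s := fun s =>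
    IsFractionRing.lift_algebraMap hj s
  have hsurj : Function.Surjective φ := by
    have h1 := h φ.toRingHom.fieldRange (fun c => ⟨algebraMap K (FractionRing S) c, φ.commutes c⟩)
      (fun s hs => ⟨algebraMap S (FractionRing S) ⟨s, hs⟩, hφ ⟨s, hs⟩⟩)
    intro x
    have h2 : x ∈ φ.toRingHom.fieldRange := by rw [h1]; trivial
    exact h2
  let e : FractionRing S ≃ₐ[K] M := AlgEquiv.ofBijective φ ⟨φ.toRingHom.injective, hsurj⟩
  rw [e.trdeg_eq]
  exact (K468.Cnt.trdeg_of_frac (R := K) (A := A) (L := M)).symm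

section model

variable (k : Type u) [Field k] (K : Type u) [Field K] [Algebra k K] {E : Type u} [Field E]
  [Algebra k E] {n : ℕ} (v : Fin (n + 1) → E)

/-- The coordinates. -/
noncomputable def TT (i : Fin (n + 1)) : (K ⊗[k] E)[X] := C (1 ⊗ₜ v i) * X

attribute [local instance] Algebra.TensorProduct.rightAlgebra in
theorem trdeg_tensor [Algebra.IsAlgebraic k K] [IsDomain (K ⊗[k] E)] :
    Algebra.trdeg K (K ⊗[k] E) = Algebra.trdeg k E := by
  have hE : FaithfulSMul E (K ⊗[k] E) := by
    rw [faithfulSMul_iff_algebraMap_injective]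
    exact (Algebra.TensorProduct.includeRight : E →ₐ[k] K ⊗[k] E).toRingHom.injective
  have hK : FaithfulSMul K (K ⊗[k] E) := by
    rw [faithfulSMul_iff_algebraMap_injective]
    exact (algebraMap K (K ⊗[k] E)).injective
  have halg : Algebra.IsAlgebraic E (K ⊗[k] E) := by
    have h1 : Algebra.IsIntegral k K := inferInstance
    have h2 : Algebra.IsIntegral E (K ⊗[k] E) := by
      refine ⟨fun x => ?_⟩
      induction x using TensorProduct.induction_on with
      | zero => exact isIntegral_zero
      | add x y hx hy => exact hx.add hy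
      | tmul a b =>
        have h3 : a ⊗ₜ[k] b = (a ⊗ₜ[k] (1 : E)) * algebraMap E (K ⊗[k] E) b := by
          change a ⊗ₜ[k] b = (a ⊗ₜ[k] (1 : E)) * ((1 : K) ⊗ₜ[k] b)
          rw [Algebra.TensorProduct.tmul_mul_tmul, mul_one, one_mul]
        rw [h3]
        refine IsIntegral.mul ?_ isIntegral_algebraMap
        have h4 : IsIntegral k (a ⊗ₜ[k] (1 : E)) :=
          (h1.isIntegral a).map (Algebra.TensorProduct.includeLeft : K →ₐ[k] K ⊗[k] E)
        exact h4.tower_top
    infer_instance
  have h1 := _root_.trdeg_add_eq k E (A := K ⊗[k] E)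
  rw [_root_.trdeg_eq_zero (R := E) (A := K ⊗[k] E), add_zero] at h1
  have h2 := _root_.trdeg_add_eq k K (A := K ⊗[k] E)
  rw [_root_.trdeg_eq_zero (R := k) (A := K), zero_add] at h2
  rw [h2, h1]

/-- The transcendence degree of the cone. -/
theorem trdeg_cone [Algebra.IsAlgebraic k K] [IsDomain (K ⊗[k] E)] {j : Fin (n + 1)} (hj : v j = 1)
    (hv : IntermediateField.adjoin k (Set.range v) = ⊤) :
    Algebra.trdeg K (FractionRing (Algebra.adjoin K (Set.range (TT k K v)))) =
      Algebra.trdeg k E + 1 := by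
  have hA : IsDomain (K ⊗[k] E)[X] := inferInstance
  have h1 : Algebra.trdeg K (K ⊗[k] E)[X] = Algebra.trdeg k E + 1 := by
    have h2 := _root_.trdeg_add_eq K (K ⊗[k] E) (A := (K ⊗[k] E)[X])
    rw [Polynomial.trdeg_of_isDomain, trdeg_tensor] at h2
    exact h2.symm
  rw [trdeg_frac_eq, h1]
  intro F hFK hFS
  let M := FractionRing (K ⊗[k] E)[X]
  let c : (K ⊗[k] E)[X] →+* M := algebraMap _ _
  have hT : ∀ i, c (TT k K v i) ∈ F := fun i => hFS _ (Algebra.subset_adjoin ⟨i, rfl⟩)
  have hX : c X ∈ F := by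
    have h2 := hT j
    rw [TT, hj, ← Algebra.TensorProduct.one_def, C_1, one_mul] at h2
    exact h2
  have hX0 : c X ≠ 0 := by
    rw [ne_eq, map_eq_zero_iff _ (IsFractionRing.injective _ _)]
    exact Polynomial.X_ne_zero
  have hKF : ∀ a : K, c (C (a ⊗ₜ[k] (1 : E))) ∈ F := fun a => hFK a
  let ψ : E →+* M := c.comp (C.comp (Algebra.TensorProduct.includeRight : E →ₐ[k] K ⊗[k] E).toRingHom)
  have hψ : ∀ e : E, ψ e = c (C (1 ⊗ₜ e)) := fun _ => rfl
  have hEF : ∀ e : E, ψ e ∈ F := by
    let F' : IntermediateField k E :=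
      { F.comap ψ with
        algebraMap_mem' := fun a => by
          change ψ (algebraMap k E a) ∈ F
          rw [hψ]
          have h3 : (1 : K) ⊗ₜ[k] (algebraMap k E a) = (algebraMap k K a) ⊗ₜ[k] (1 : E) := by
            rw [Algebra.algebraMap_eq_smul_one, Algebra.algebraMap_eq_smul_one, TensorProduct.smul_tmul]
          rw [h3]
          exact hKF _ }
    have h3 : (⊤ : IntermediateField k E) ≤ F' := by
      rw [← hv, IntermediateField.adjoin_le_iff]
      rintro _ ⟨i, rfl⟩
      change ψ (v i) ∈ F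
      have h4 : ψ (v i) = c (TT k K v i) / c X := by
        rw [TT, map_mul, mul_div_cancel_right₀ _ hX0]
        rfl
      rw [h4]
      exact F.div_mem (hT i) hX
    exact fun e => h3 (IntermediateField.mem_top (x := e))
  have hC : ∀ x : K ⊗[k] E, c (C x) ∈ F := by
    intro x
    induction x using TensorProduct.induction_on with
    | zero => rw [C_0, map_zero]; exact F.zero_mem
    | add x y hx hy => rw [C_add, map_add]; exact F.add_mem hx hy
    | tmul a b =>
      have h3 : a ⊗ₜ[k] b = (a ⊗ₜ[k] (1 : E)) * ((1 : K) ⊗ₜ[k] b) := by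
        rw [Algebra.TensorProduct.tmul_mul_tmul, mul_one, one_mul]
      rw [h3, C_mul, map_mul]
      exact F.mul_mem (hKF a) (hEF b)
  have hP : ∀ p : (K ⊗[k] E)[X], c p ∈ F := by
    intro p
    induction p using Polynomial.induction_on' with
    | add p q hp hq => rw [map_add]; exact F.add_mem hp hq
    | monomial m a =>
      rw [← Polynomial.C_mul_X_pow_eq_monomial, map_mul, map_pow]
      exact F.mul_mem (hC a) (pow_mem hX m)
  rw [eq_top_iff]
  intro x _
  obtain ⟨p, q, -, rfl⟩ := IsFractionRing.div_surjective (A := (K ⊗[k] E)[X]) x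
  exact F.div_mem (hP p) (hP q)

/-- The Hilbert function of the cone is bounded by the one over `k`. -/
theorem finrank_le (t : ℕ) :
    Module.finrank K ((MvPolynomial.homogeneousSubmodule (Fin (n + 1)) K t).map
      (MvPolynomial.aeval (fun i => (⟨TT k K v i, Algebra.subset_adjoin ⟨i, rfl⟩⟩ :
        Algebra.adjoin K (Set.range (TT k K v)))) :
        MvPolynomial (Fin (n + 1)) K →ₐ[K] Algebra.adjoin K (Set.range (TT k K v))).toLinearMap) ≤
      K467.HilbCone.H (k := k) v t := by
  classical
  let S := Algebra.adjoin K (Set.range (TT k K v))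
  let T : Fin (n + 1) → S := fun i => ⟨TT k K v i, Algebra.subset_adjoin ⟨i, rfl⟩⟩
  let V := (MvPolynomial.homogeneousSubmodule (Fin (n + 1)) k t).map
    (MvPolynomial.aeval v : MvPolynomial (Fin (n + 1)) k →ₐ[k] E).toLinearMap
  have hfinV : Module.Finite k V := inferInstance
  let b := Module.finBasis k V
  -- the map to `(K ⊗ E)[X]`
  let W := (MvPolynomial.homogeneousSubmodule (Fin (n + 1)) K t).map
    (MvPolynomial.aeval T : MvPolynomial (Fin (n + 1)) K →ₐ[K] S).toLinearMap
  let ι : S →ₗ[K] (K ⊗[k] E)[X] := S.val.toLinearMap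
  have hι : Function.Injective ι := Subtype.val_injective
  have h1 : Module.finrank K W = Module.finrank K (W.map ι) :=
    LinearEquiv.finrank_eq (Submodule.equivMapOfInjective ι hι W)
  let g : Fin (Module.finrank k V) → (K ⊗[k] E)[X] := fun i => C (1 ⊗ₜ (b i : E)) * X ^ t
  have hVg : ∀ e ∈ V, C ((1 : K) ⊗ₜ[k] e) * X ^ t ∈ Submodule.span K (Set.range g) := by
    intro e he
    have h2 := b.sum_repr ⟨e, he⟩
    have h3 : e = ∑ i, (b.repr ⟨e, he⟩ i) • (b i : E) := by
      have h4 := congrArg (Subtype.val) h2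
      rw [AddSubmonoidClass.coe_finsetSum] at h4
      exact h4.symm
    rw [h3, TensorProduct.tmul_sum, map_sum, Finset.sum_mul]
    refine Submodule.sum_mem _ fun i _ => ?_
    have h4 : C ((1 : K) ⊗ₜ[k] (b.repr ⟨e, he⟩ i • (b i : E))) * X ^ t =
        (algebraMap k K (b.repr ⟨e, he⟩ i)) • g i := by
      rw [← TensorProduct.smul_tmul, ← Algebra.algebraMap_eq_smul_one, Algebra.smul_def,
        Polynomial.algebraMap_apply, ← mul_assoc, ← C_mul]
      congr 2
      change _ = (algebraMap k K (b.repr ⟨e, he⟩ i) ⊗ₜ[k] (1 : E)) * (1 ⊗ₜ[k] (b i : E))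
      rw [Algebra.TensorProduct.tmul_mul_tmul, mul_one, one_mul]
    rw [h4]
    exact Submodule.smul_mem _ _ (Submodule.subset_span ⟨i, rfl⟩)
  have hle : W.map ι ≤ Submodule.span K (Set.range g) := by
    rintro _ ⟨_, ⟨F, hF, rfl⟩, rfl⟩
    change ((MvPolynomial.aeval T F : S) : (K ⊗[k] E)[X]) ∈ _
    rw [F.as_sum, map_sum, AddSubmonoidClass.coe_finsetSum]
    refine Submodule.sum_mem _ fun α hα => ?_
    have hα' : α.degree = t := by
      have := hF (MvPolynomial.mem_support_iff.mp hα)
      rw [← this]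
      simp [Finsupp.weight_apply, Finsupp.degree, Finsupp.sum]
    have h2 : ((MvPolynomial.aeval T (MvPolynomial.monomial α (MvPolynomial.coeff α F)) : S) :
        (K ⊗[k] E)[X]) = (MvPolynomial.coeff α F) •
        (C ((1 : K) ⊗ₜ[k] (∏ i ∈ α.support, v i ^ α i)) * X ^ t) := by
      rw [MvPolynomial.aeval_monomial, Algebra.smul_def]
      have h3 : ((algebraMap K S (MvPolynomial.coeff α F) * (α.prod fun i e => T i ^ e) : S) :
          (K ⊗[k] E)[X]) = algebraMap K (K ⊗[k] E)[X] (MvPolynomial.coeff α F) *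
          ∏ i ∈ α.support, TT k K v i ^ α i := by
        rw [Finsupp.prod]
        push_cast
        rfl
      rw [h3]
      congr 1
      have h4 : ∀ i, TT k K v i ^ α i = C ((1 : K) ⊗ₜ[k] (v i ^ α i)) * X ^ α i := by
        intro i
        rw [TT, mul_pow, ← C_pow, Algebra.TensorProduct.tmul_pow, one_pow]
      rw [Finset.prod_congr rfl fun i _ => h4 i, Finset.prod_mul_distrib, Finset.prod_pow_eq_pow_sum]
      have h5 : ∑ i ∈ α.support, α i = t := hα'
      rw [h5]
      congr 1
      have h6 := map_prod ((C : K ⊗[k] E →+* (K ⊗[k] E)[X]).comp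
        (Algebra.TensorProduct.includeRight : E →ₐ[k] K ⊗[k] E).toRingHom) (fun i => v i ^ α i) α.support
      exact h6.symm
    rw [h2]
    refine Submodule.smul_mem _ _ (hVg _ ?_)
    refine ⟨MvPolynomial.monomial α 1, MvPolynomial.isHomogeneous_monomial _ hα', ?_⟩
    change MvPolynomial.aeval v (MvPolynomial.monomial α 1) = _
    rw [MvPolynomial.aeval_monomial, map_one, one_mul, Finsupp.prod]
  change Module.finrank K W ≤ _
  rw [h1]
  have hfin : Module.Finite K (Submodule.span K (Set.range g)) :=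
    Module.Finite.span_of_finite K (Set.finite_range g)
  refine (Submodule.finrank_mono hle).trans ?_
  have h5 := finrank_range_le_card (R := K) g
  rw [Set.finrank, Fintype.card_fin] at h5
  exact h5

end model

end K669.ConeModel
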