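import Mathlib.RingTheory.DedekindDomain.Instances
import Mathlib.LinearAlgebra.FreeModule.Norm
import Mathlib.LinearAlgebra.FreeModule.IdealQuotient
import Mathlib.RingTheory.Localization.NormTrace
import Mathlib.RingTheory.IntegralClosure.GoingDown
import Mathlib.RingTheory.Ideal.KrullsHeightTheorem
import Mathlib.RingTheory.DiscreteValuationRing.TFAE
import Mathlib.RingTheory.Norm.Basic
import Mathlib.FieldTheory.Minpoly.IsIntegrallyClosed
import Mathlib.RingTheory.SimpleModule.Basic

/-!
# Elements of prime norm in finite extensions of normal domains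
-/

set_option autoImplicit false

open nonZeroDivisors IsLocalization Algebra Module IsFractionRing IsScalarTower

attribute [local instance] FractionRing.liftAlgebra Localization.AtPrime.liftAlgebra

namespace K669.NormPrime

/-- Over a principal ideal domain, an element of prime norm generates a maximal ideal. -/
theorem isMaximal_of_norm_prime {O S : Type*} [CommRing O] [IsDomain O] [IsPrincipalIdealRing O]
    [CommRing S] [IsDomain S] [Algebra O S] [Module.Free O S] [Module.Finite O S] (x : S)
    (hN : Prime (Algebra.norm O x)) : (Ideal.span {x}).IsMaximal := by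
  classical
  have hx : x ≠ 0 := by
    rintro rfl
    rw [Algebra.norm_zero] at hN
    exact hN.ne_zero rfl
  let b := Module.Free.chooseBasis O S
  let hI : Ideal.span {x} ≠ ⊥ := Ideal.span_singleton_eq_bot.not.2 hx
  let a := Ideal.smithCoeffs b _ hI
  have hprod : Prime (∏ i, a i) := (associated_norm_prod_smith b hx).prime hN
  obtain ⟨i, -, hi⟩ : ∃ i ∈ Finset.univ, (∏ i, a i) ∣ a i := by
    exact (hprod.dvd_finsetProd_iff _).mp dvd_rfl
  have hunit : ∀ j, j ≠ i → IsUnit (a j) := by
    intro j hj
    have h1 : a i * ∏ j ∈ Finset.univ.erase i, a j = ∏ i, a i :=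
      Finset.mul_prod_erase _ _ (Finset.mem_univ i)
    have hai : a i ≠ 0 := fun h0 => hprod.ne_zero (by rw [← h1, h0, zero_mul])
    obtain ⟨c, hc⟩ := hi
    have h2 : a i * 1 = a i * ((∏ j ∈ Finset.univ.erase i, a j) * c) := by
      rw [mul_one, ← mul_assoc, h1]
      exact hc
    have h3 := mul_left_cancel₀ hai h2
    have h4 : IsUnit (∏ j ∈ Finset.univ.erase i, a j) := IsUnit.of_mul_eq_one _ h3.symm
    exact (IsUnit.prod_iff (M := O)).mp h4 j (Finset.mem_erase.mpr ⟨hj, Finset.mem_univ j⟩)
  have hiprime : Prime (a i) := by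
    refine (Associated.prime_iff ?_).mp hprod
    exact associated_of_dvd_dvd hi (Finset.dvd_prod_of_mem a (Finset.mem_univ i))
  have hmax : (Ideal.span {a i}).IsMaximal :=
    PrincipalIdealRing.isMaximal_of_irreducible hiprime.irreducible
  let e := Ideal.quotientEquivPiSpan (Ideal.span {x}) b hI
  -- the projection to the `i`-th factor is an isomorphism
  let π : (∀ j, O ⧸ Ideal.span {a j}) →ₗ[O] O ⧸ Ideal.span {a i} := LinearMap.proj i
  have hπ : Function.Injective π := by
    rw [← LinearMap.ker_eq_bot, LinearMap.ker_eq_bot']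
    intro f hf
    funext j
    by_cases hj : j = i
    · subst hj
      exact hf
    · have : Subsingleton (O ⧸ Ideal.span {a j}) := by
        rw [Ideal.Quotient.subsingleton_iff, Ideal.span_singleton_eq_top]
        exact hunit j hj
      exact Subsingleton.elim _ _
  have hπs : Function.Surjective π := LinearMap.proj_surjective i
  let e' : (S ⧸ Ideal.span {x}) ≃ₗ[O] O ⧸ Ideal.span {a i} :=
    e.trans (LinearEquiv.ofBijective π ⟨hπ, hπs⟩)
  have hs1 : IsSimpleModule O (O ⧸ Ideal.span {a i}) :=
    isSimpleModule_iff_isCoatom.mpr hmax.out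
  have hs2 : IsSimpleModule O (S ⧸ Ideal.span {x}) := IsSimpleModule.congr e'
  have hs3 : IsSimpleModule O (S ⧸ (Ideal.span {x} : Submodule S S).restrictScalars O) :=
    IsSimpleModule.congr (Submodule.Quotient.restrictScalarsEquiv O (Ideal.span {x}))
  rw [isSimpleModule_iff_isCoatom] at hs3
  rw [Ideal.isMaximal_def]
  refine ⟨fun h => hs3.1 (by rw [h]; rfl), fun J hJ => ?_⟩
  have h1 : (Ideal.span {x} : Submodule S S).restrictScalars O < J.restrictScalars O := by
    refine lt_of_le_of_ne (fun z hz => hJ.le hz) fun h => hJ.ne ?_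
    exact Submodule.restrictScalars_injective O S S h
  have h2 := hs3.2 _ h1
  rw [_root_.eq_top_iff]
  intro z _
  have : z ∈ J.restrictScalars O := by rw [h2]; trivial
  exact this

section

variable {B S : Type*} [CommRing B] [IsDomain B] [IsIntegrallyClosed B]
  [CommRing S] [IsDomain S] [Algebra B S] [FaithfulSMul B S] [Module.Finite B S]

local notation3 "K" => FractionRing B
local notation3 "L" => FractionRing S

/-- The norm of an integral element, as an element of the normal base ring. -/
noncomputable def nrm (B : Type*) {S : Type*} [CommRing B] [IsDomain B] [CommRing S]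
    [IsDomain S] [Algebra B S] [FaithfulSMul B S] (x : S) : B :=
  ((-1) ^ (minpoly B x).natDegree * (minpoly B x).coeff 0) ^
    Module.finrank (IntermediateField.adjoin (FractionRing B) {algebraMap S (FractionRing S) x})
      (FractionRing S)

theorem minpoly_algebraMap (x : S) :
    minpoly K (algebraMap S L x) = (minpoly B x).map (algebraMap B K) :=
  minpoly.isIntegrallyClosed_eq_field_fractions K L (Algebra.IsIntegral.isIntegral x)

omit [IsIntegrallyClosed B] in
theorem fd : FiniteDimensional K L := by
  exact Module.Finite.of_isLocalization B S B⁰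

theorem natDegree_minpoly_mul (x : S) : (minpoly B x).natDegree *
    Module.finrank (IntermediateField.adjoin K {algebraMap S L x}) L = Module.finrank K L := by
  have := fd (B := B) (S := S)
  have h1 := IntermediateField.adjoin.finrank
    (IsIntegral.of_finite K (algebraMap S L x))
  have h2 : (minpoly K (algebraMap S L x)).natDegree = (minpoly B x).natDegree := by
    rw [minpoly_algebraMap]
    exact (minpoly.monic (Algebra.IsIntegral.isIntegral x)).natDegree_map _
  rw [← h2, ← h1]
  exact Module.finrank_mul_finrank _ _ _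

theorem norm_eq (x : S) : Algebra.norm K (algebraMap S L x) = algebraMap B K (nrm B x) := by
  have := fd (B := B) (S := S)
  rw [Algebra.norm_eq_norm_adjoin, nrm, map_pow]
  congr 1
  have hint : IsIntegral K (algebraMap S L x) := IsIntegral.of_finite K _
  have h1 := (IntermediateField.adjoin.powerBasis hint).norm_gen_eq_coeff_zero_minpoly
  rw [IntermediateField.adjoin.powerBasis_gen] at h1
  rw [h1, IntermediateField.minpoly_gen, minpoly_algebraMap, map_mul, map_pow, map_neg, map_one,
    Polynomial.coeff_map]
  congr 2
  rw [IntermediateField.adjoin.powerBasis_dim, minpoly_algebraMap]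
  exact (minpoly.monic (Algebra.IsIntegral.isIntegral (R := B) x)).natDegree_map (algebraMap B K)

omit [IsIntegrallyClosed B] in
theorem finrank_pos' (x : S) :
    0 < Module.finrank (IntermediateField.adjoin K {algebraMap S L x}) L := by
  have := fd (B := B) (S := S)
  exact Module.finrank_pos

omit [IsIntegrallyClosed B] in
/-- The norm of `x` is divisible by `x`. -/
theorem dvd_nrm (x : S) : x ∣ algebraMap B S (nrm B x) := by
  have h1 : x ∣ algebraMap B S ((minpoly B x).coeff 0) := by
    have h2 := minpoly.aeval B x
    rw [Polynomial.aeval_eq_sum_range, Finset.sum_range_succ'] at h2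
    have h3 : x ∣ ∑ k ∈ Finset.range (minpoly B x).natDegree,
        (minpoly B x).coeff (k + 1) • x ^ (k + 1) := by
      refine Finset.dvd_sum fun i _ => ?_
      rw [Algebra.smul_def]
      exact Dvd.dvd.mul_left (dvd_pow_self x (Nat.succ_ne_zero i)) _
    have h4 : (minpoly B x).coeff 0 • x ^ 0 = -∑ k ∈ Finset.range (minpoly B x).natDegree,
        (minpoly B x).coeff (k + 1) • x ^ (k + 1) := by
      rw [eq_neg_iff_add_eq_zero, add_comm]
      exact h2
    rw [pow_zero, Algebra.smul_def, mul_one] at h4
    rw [h4]
    exact (dvd_neg).mpr h3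
  rw [nrm, map_pow, map_mul]
  exact dvd_pow (Dvd.dvd.mul_left h1 _) (finrank_pos' x).ne'

end

/-- **An element of prime norm has a prime radical** and generates this prime generically. -/
theorem exists_prime {B S : Type*} [CommRing B] [IsDomain B] [IsIntegrallyClosed B]
    [IsNoetherianRing B] [CommRing S] [IsDomain S] [Algebra B S] [FaithfulSMul B S]
    [Module.Finite B S] (x : S)
    (hp : Prime (nrm B x)) :
    ∃ q : Ideal S, q.IsPrime ∧ (Ideal.span {x}).radical = q ∧
      q.comap (algebraMap B S) = Ideal.span {nrm B x} ∧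
      ∃ b : B, algebraMap B S b ∉ q ∧ ∀ z ∈ q, algebraMap B S b * z ∈ Ideal.span {x} := by
  classical
  let p := nrm B x
  let P : Ideal B := Ideal.span {p}
  have hP : P.IsPrime := (Ideal.span_singleton_prime hp.ne_zero).mpr hp
  let O := Localization.AtPrime P
  let SP := Localization (Algebra.algebraMapSubmonoid S P.primeCompl)
  have hSdom : IsDomain SP := IsLocalization.isDomain_localization
    (algebraMapSubmonoid_le_nonZeroDivisors_of_faithfulSMul _ P.primeCompl_le_nonZeroDivisors)
  have hOdom : IsDomain O := IsLocalization.isDomain_localization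
    P.primeCompl_le_nonZeroDivisors
  have hON : IsNoetherianRing O := IsLocalization.isNoetherianRing P.primeCompl O inferInstance
  have hmaxP : IsLocalRing.maximalIdeal O = Ideal.span {algebraMap B O p} := by
    rw [← IsLocalization.AtPrime.map_eq_maximalIdeal P O, Ideal.map_span, Set.image_singleton]
  have hpr : (IsLocalRing.maximalIdeal O).IsPrincipal := ⟨_, hmaxP⟩
  have hpid : IsPrincipalIdealRing O :=
    ((tfae_of_isNoetherianRing_of_isLocalRing_of_isDomain O).out 0 4).mpr hpr
  have hfin : Module.Finite O SP := Module.Finite.of_isLocalization B S P.primeCompl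
  have htf : Module.IsTorsionFree O SP := inferInstance
  have hfree : Module.Free O SP := inferInstance
  -- the norm over `O`
  have hN : Algebra.norm O (algebraMap S SP x) = algebraMap B O p := by
    have h1 : Algebra.norm (FractionRing B) (algebraMap SP (FractionRing S) (algebraMap S SP x)) =
        algebraMap O (FractionRing B) (Algebra.norm O (algebraMap S SP x)) :=
      Algebra.norm_localization O O⁰ _
    have h2 : algebraMap SP (FractionRing S) (algebraMap S SP x) = algebraMap S (FractionRing S) x :=
      (IsScalarTower.algebraMap_apply S SP (FractionRing S) x).symm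
    rw [h2, norm_eq, IsScalarTower.algebraMap_apply B O (FractionRing B)] at h1
    exact (IsFractionRing.injective O (FractionRing B) h1).symm
  have hp0 : algebraMap B O p ≠ 0 := fun h0 => hp.ne_zero
    ((FaithfulSMul.algebraMap_injective B O) (by rw [h0, map_zero]))
  have hpO : Prime (algebraMap B O p) := by
    rw [← Ideal.span_singleton_prime hp0, ← hmaxP]
    exact (IsLocalRing.maximalIdeal.isMaximal O).isPrime
  have hmax : (Ideal.span {algebraMap S SP x}).IsMaximal :=
    isMaximal_of_norm_prime (O := O) _ (by rw [hN]; exact hpO)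
  have hmp := hmax.isPrime
  let q : Ideal S := (Ideal.span {algebraMap S SP x}).comap (algebraMap S SP)
  have hq : q.IsPrime := Ideal.comap_isPrime _ _
  have hxq : x ∈ q := Ideal.mem_span_singleton_self _
  have hxp : algebraMap B S p ∈ Ideal.span {x} := Ideal.mem_span_singleton.mpr (dvd_nrm x)
  have hle : Ideal.span {x} ≤ q := (Ideal.span_singleton_le_iff_mem _).mpr hxq
  have hcomap : q.comap (algebraMap B S) = P := by
    apply le_antisymm
    · intro b hb
      by_contra hbP
      have h1 : IsUnit (algebraMap S SP (algebraMap B S b)) :=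
        IsLocalization.map_units SP (⟨algebraMap B S b, ⟨b, hbP, rfl⟩⟩ :
          Algebra.algebraMapSubmonoid S P.primeCompl)
      exact hmax.ne_top (Ideal.eq_top_of_isUnit_mem _ hb h1)
    · rw [Ideal.span_singleton_le_iff_mem]
      exact hle hxp
  have hex : ∀ z ∈ q, ∃ b : B, b ∉ P ∧ algebraMap B S b * z ∈ Ideal.span {x} := by
    intro z hz
    have h1 : algebraMap S SP z ∈ (Ideal.span {x}).map (algebraMap S SP) := by
      rw [Ideal.map_span, Set.image_singleton]
      exact hz
    rw [IsLocalization.mem_map_algebraMap_iff (Algebra.algebraMapSubmonoid S P.primeCompl)] at h1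
    obtain ⟨⟨⟨y, hy⟩, ⟨_, ⟨b, hb, rfl⟩⟩⟩, h2⟩ := h1
    refine ⟨b, hb, ?_⟩
    rw [← map_mul] at h2
    have h3 : z * algebraMap B S b = y := IsLocalization.injective SP
      (algebraMapSubmonoid_le_nonZeroDivisors_of_faithfulSMul _ P.primeCompl_le_nonZeroDivisors) h2
    rw [mul_comm, h3]
    exact hy
  have hSN : IsNoetherianRing S := IsNoetherianRing.of_finite B S
  obtain ⟨b, hbP, hb⟩ : ∃ b : B, b ∉ P ∧ ∀ z ∈ q, algebraMap B S b * z ∈ Ideal.span {x} := by
    obtain ⟨G, hG⟩ := (IsNoetherian.noetherian q : q.FG)
    have hGq : ∀ g ∈ G, g ∈ q := fun g hg => by rw [← hG]; exact Ideal.subset_span hg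
    choose! c hc1 hc2 using hex
    refine ⟨∏ g ∈ G, c g, ?_, ?_⟩
    · intro h
      obtain ⟨g, hg, h2⟩ := (hP.prod_mem_iff).mp h
      exact hc1 g (hGq g hg) h2
    · intro z hz
      rw [← hG] at hz
      refine Submodule.span_induction (p := fun z _ => algebraMap B S (∏ g ∈ G, c g) * z ∈
        Ideal.span {x}) ?_ ?_ ?_ ?_ hz
      · intro g hg
        rw [← Finset.mul_prod_erase G c hg, map_mul, mul_assoc, mul_left_comm]
        exact Ideal.mul_mem_left _ _ (hc2 g (hGq g hg))
      · rw [mul_zero]; exact Ideal.zero_mem _
      · intro u v _ _ hu hv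
        rw [mul_add]; exact Ideal.add_mem _ hu hv
      · intro r u _ hu
        rw [smul_eq_mul, mul_left_comm]
        exact Ideal.mul_mem_left _ _ hu
  have hbq : algebraMap B S b ∉ q := by
    intro h
    exact hbP (by rw [← hcomap]; exact h)
  refine ⟨q, hq, ?_, hcomap, b, hbq, hb⟩
  apply le_antisymm
  · exact (hq.radical_le_iff).mpr hle
  · rw [← Ideal.sInf_minimalPrimes, le_sInf_iff]
    intro Q hQ
    have hQp : Q.IsPrime := hQ.1.1
    have hQx : Ideal.span {x} ≤ Q := hQ.1.2
    let P' := Q.comap (algebraMap B S)
    have hP' : P'.IsPrime := Ideal.comap_isPrime _ _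
    have hlo : Q.LiesOver P' := ⟨rfl⟩
    have hh1 : Q.height ≤ 1 := Ideal.height_le_one_of_isPrincipal_of_mem_minimalPrimes _ Q hQ
    have hh2 := Ideal.height_eq_height_add_of_liesOver_of_hasGoingDown P' Q
    have hh3 : P'.height ≤ 1 := by
      rw [hh2] at hh1
      exact le_trans le_self_add hh1
    have hPP' : P ≤ P' := by
      rw [Ideal.span_singleton_le_iff_mem]
      exact hQx hxp
    have heq : P = P' := by
      by_contra hne
      have hlt : P < P' := lt_of_le_of_ne hPP' hne
      have hPbot : (⊥ : Ideal B) < P := by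
        rw [bot_lt_iff_ne_bot]
        intro h
        exact hp.ne_zero (Ideal.span_singleton_eq_bot.mp h)
      have hbp : (⊥ : Ideal B).IsPrime := Ideal.isPrime_bot
      have g1 := Ideal.height_add_one_le_of_lt_of_isPrime hlt
      have g2 := Ideal.height_add_one_le_of_lt_of_isPrime hPbot
      have g3 : (2 : ℕ∞) ≤ P'.height := by
        calc (2 : ℕ∞) = 0 + 1 + 1 := by norm_num
          _ ≤ (⊥ : Ideal B).height + 1 + 1 := by gcongr; exact zero_le
          _ ≤ P.height + 1 := by gcongr
          _ ≤ P'.height := g1
      have g4 := g3.trans hh3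
      exact absurd g4 (by decide)
    intro z hz
    have h1 := hQx (hb z hz)
    rcases hQp.mem_or_mem h1 with h2 | h2
    · exact absurd (show b ∈ P' from h2) (by rw [← heq]; exact hbP)
    · exact h2

end K669.NormPrime
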