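import Groth.Agent.Flat2E.FinSepClosure
import Mathlib.RingTheory.Polynomial.IsIntegral
import Mathlib.FieldTheory.PrimitiveElement
import Mathlib.FieldTheory.SeparableClosure
import Mathlib.FieldTheory.IsAlgClosed.Basic

/-!
# Pencils: `K(y - c x)` is separably closed for some `c` (Zariski, Matsusaka)
-/

set_option autoImplicit false
universe u v

open IntermediateField Polynomial

attribute [local instance] Polynomial.algebra

namespace K669.Pencil

theorem mem_range_of_isIntegral {K E : Type*} [Field K] [IsAlgClosed K] [Field E] [Algebra K E]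
    (e : E) (he : IsIntegral K e) : e ∈ (algebraMap K E).range := by
  have h1 := IsAlgClosed.degree_eq_one_of_irreducible K (minpoly.irreducible he)
  exact minpoly.mem_range_of_degree_eq_one K e h1

/-- `K` algebraically closed, `t` transcendental over `E ⊇ K`: an element of `E(t)` algebraic over
`K(t)` lies in `K(t)`. -/
theorem mem_adjoin_of_isAlgebraic {K L : Type*} [Field K] [IsAlgClosed K] [Field L] [Algebra K L]
    (E : IntermediateField K L) (t : L) (ht : Transcendental E t) (a : L)
    (ha : a ∈ adjoin E {t}) (halg : IsAlgebraic (adjoin K {t}) a) : a ∈ adjoin K {t} := by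
  obtain ⟨r, s, hrs⟩ := (mem_adjoin_simple_iff E a).mp ha
  -- `a` is algebraic over `K[t]`
  have htK : Transcendental K t := fun h => ht (h.tower_top E)
  have halg' : IsAlgebraic (Algebra.adjoin K {t}) a := (isAlgebraic_adjoin_iff).mp halg
  obtain ⟨d, hd0, hint⟩ := halg'.exists_integral_multiple
  let A := Algebra.adjoin K {t}
  have htA : t ∈ A := Algebra.self_mem_adjoin_singleton K t
  let f : K[X] →+* A := (aeval (⟨t, htA⟩ : A) : K[X] →ₐ[K] A).toRingHom
  have hf : Function.Surjective f := by
    rintro ⟨z, hz⟩
    have hz' : z ∈ (aeval t : K[X] →ₐ[K] L).range := by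
      rw [← Algebra.adjoin_singleton_eq_range_aeval]
      exact hz
    obtain ⟨p, hp⟩ := hz'
    refine ⟨p, Subtype.ext ?_⟩
    change ((aeval (⟨t, htA⟩ : A) p : A) : L) = z
    rw [← hp]
    exact (aeval_algHom_apply A.val (⟨t, htA⟩ : A) p).symm
  let _ : Algebra K[X] L := (aeval t : K[X] →ₐ[K] L).toRingHom.toAlgebra
  let _ : Algebra K[X] A := f.toAlgebra
  have tw : IsScalarTower K[X] A L := IsScalarTower.of_algebraMap_eq fun p => by
    change aeval t p = ((aeval (⟨t, htA⟩ : A) p : A) : L)
    exact (aeval_algHom_apply A.val (⟨t, htA⟩ : A) p)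
  have hAint : Algebra.IsIntegral K[X] A := Algebra.isIntegral_of_surjective hf
  have hint2 : IsIntegral K[X] (d • a) := isIntegral_trans (d • a) hint
  obtain ⟨d', hd'⟩ := hf d
  have hda : d • a = aeval t d' * a := by
    rw [← hd', Algebra.smul_def]
    congr 1
    exact (IsScalarTower.algebraMap_apply K[X] A L d').symm
  have hd'0 : aeval t d' ≠ 0 := by
    intro h0
    apply hd0
    rw [← hd']
    apply Subtype.ext
    exact (IsScalarTower.algebraMap_apply K[X] A L d').symm.trans h0
  rw [hda] at hint2
  let _ : Algebra E[X] L := (aeval t : E[X] →ₐ[E] L).toRingHom.toAlgebra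
  have hinjE : Function.Injective (algebraMap E[X] L) := transcendental_iff_injective.mp ht
  have tw2 : IsScalarTower K[X] E[X] L := IsScalarTower.of_algebraMap_eq fun p => by
    change aeval t p = aeval t (p.map (algebraMap K E))
    exact (aeval_map_algebraMap E t p).symm
  let F := FractionRing E[X]
  let ψ : F →+* L := IsFractionRing.lift hinjE
  let _ : Algebra F L := ψ.toAlgebra
  have tw3 : IsScalarTower E[X] F L := IsScalarTower.of_algebraMap_eq fun p =>
    (IsFractionRing.lift_algebraMap hinjE p).symm
  have tw4 : IsScalarTower K[X] F L := IsScalarTower.of_algebraMap_eq fun p => by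
    rw [IsScalarTower.algebraMap_apply K[X] E[X] F, ← IsScalarTower.algebraMap_apply E[X] F L,
      ← IsScalarTower.algebraMap_apply K[X] E[X] L]
  let α : F := algebraMap E[X] F (d'.map (algebraMap K E) * r) / algebraMap E[X] F s
  have hα : algebraMap F L α = aeval t d' * a := by
    rw [map_div₀, ← IsScalarTower.algebraMap_apply, ← IsScalarTower.algebraMap_apply, map_mul, hrs,
      mul_div_assoc]
    congr 1
    exact aeval_map_algebraMap E t d'
  have hαint : IsIntegral K[X] α := by
    rw [← isIntegral_algHom_iff (IsScalarTower.toAlgHom K[X] F L) (algebraMap F L).injective]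
    change IsIntegral K[X] (algebraMap F L α)
    rw [hα]
    exact hint2
  obtain ⟨p, hp⟩ := IsIntegrallyClosed.isIntegral_iff.mp (hαint.tower_top (A := E[X]))
  have hpint : IsIntegral K[X] p := by
    rw [← isIntegral_algHom_iff (IsScalarTower.toAlgHom K[X] E[X] F)
      (IsFractionRing.injective E[X] F)]
    change IsIntegral K[X] (algebraMap E[X] F p)
    rw [hp]
    exact hαint
  have hcoef := Polynomial.isIntegral_iff_isIntegral_coeff.mp hpint
  have hlift : p ∈ Polynomial.lifts (algebraMap K E) := by
    rw [Polynomial.lifts_iff_coeff_lifts]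
    intro n
    exact mem_range_of_isIntegral _ (hcoef n)
  obtain ⟨p', hp'⟩ := (Polynomial.mem_lifts _).mp hlift
  have h5 : aeval t p' = aeval t d' * a := by
    rw [← hα, ← hp, ← IsScalarTower.algebraMap_apply E[X] F L, ← hp']
    exact (aeval_map_algebraMap E t p').symm
  have h6 : a = aeval t p' / aeval t d' := by
    rw [h5, mul_div_cancel_left₀ _ hd'0]
  rw [h6]
  have hmem : ∀ q : K[X], aeval t q ∈ adjoin K {t} := fun q =>
    algebra_adjoin_le_adjoin K {t} (Polynomial.aeval_mem_adjoin_singleton K t)
  exact div_mem (hmem p') (hmem d')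

theorem algebraicIndependent_pencil {K L : Type*} [Field K] [Field L] [Algebra K L] (x y : L)
    (hxy : AlgebraicIndependent K ![x, y]) {c c' : K} (hc : c ≠ c') : AlgebraicIndependent K
      ![y - algebraMap K L c * x, y - algebraMap K L c' * x] := by
  have hd : c' - c ≠ 0 := sub_ne_zero.mpr hc.symm
  let σ : MvPolynomial (Fin 2) K →ₐ[K] MvPolynomial (Fin 2) K := MvPolynomial.aeval
    ![MvPolynomial.X 1 - MvPolynomial.C c * MvPolynomial.X 0,
      MvPolynomial.X 1 - MvPolynomial.C c' * MvPolynomial.X 0]
  let u : MvPolynomial (Fin 2) K := MvPolynomial.C (c' - c)⁻¹ * (MvPolynomial.X 0 - MvPolynomial.X 1)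
  let τ : MvPolynomial (Fin 2) K →ₐ[K] MvPolynomial (Fin 2) K := MvPolynomial.aeval
    ![u, MvPolynomial.X 0 + MvPolynomial.C c * u]
  have hu : MvPolynomial.C (c' - c) * u = MvPolynomial.X 0 - MvPolynomial.X 1 := by
    simp only [u]
    rw [← mul_assoc, ← MvPolynomial.C_mul, mul_inv_cancel₀ hd, MvPolynomial.C_1, one_mul]
  have hτσ : τ.comp σ = AlgHom.id K _ := by
    apply MvPolynomial.algHom_ext
    intro i
    have hC : ∀ a : K, τ (MvPolynomial.C a) = MvPolynomial.C a := fun a => τ.commutes a
    have h0 : τ (MvPolynomial.X 0) = u := by simp [τ]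
    have h1 : τ (MvPolynomial.X 1) = MvPolynomial.X 0 + MvPolynomial.C c * u := by simp [τ]
    fin_cases i
    · have hs : σ (MvPolynomial.X 0) = MvPolynomial.X 1 - MvPolynomial.C c * MvPolynomial.X 0 := by
        simp [σ]
      change τ (σ (MvPolynomial.X 0)) = MvPolynomial.X 0
      rw [hs, map_sub, map_mul, hC, h0, h1]
      ring
    · have hs : σ (MvPolynomial.X 1) = MvPolynomial.X 1 - MvPolynomial.C c' * MvPolynomial.X 0 := by
        simp [σ]
      change τ (σ (MvPolynomial.X 1)) = MvPolynomial.X 1
      rw [hs, map_sub, map_mul, hC, h0, h1]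
      have : MvPolynomial.X 0 + MvPolynomial.C c * u - MvPolynomial.C c' * u =
          MvPolynomial.X 0 - MvPolynomial.C (c' - c) * u := by
        rw [MvPolynomial.C_sub]; ring
      rw [this, hu]
      ring
  have hinj : Function.Injective σ := by
    intro a b hab
    have h1 := congrArg τ hab
    rw [← AlgHom.comp_apply, ← AlgHom.comp_apply, hτσ] at h1
    exact h1
  have hcomp : (MvPolynomial.aeval ![y - algebraMap K L c * x, y - algebraMap K L c' * x] :
      MvPolynomial (Fin 2) K →ₐ[K] L) = (MvPolynomial.aeval ![x, y]).comp σ := by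
    apply MvPolynomial.algHom_ext
    intro i
    fin_cases i <;> simp [σ, ← MvPolynomial.algebraMap_eq]
  rw [AlgebraicIndependent, hcomp, AlgHom.coe_comp]
  exact Function.Injective.comp hxy hinj

/-- **Pigeonhole**: for some `c` in any infinite set, the field `K(y - c x)` is separably closed. -/
theorem exists_sepClosed {K L : Type*} [Field K] [IsAlgClosed K] [Field L] [Algebra K L]
    [Algebra.EssFiniteType K L] (x y : L) (hxy : AlgebraicIndependent K ![x, y]) (C : Set K)
    (hC : C.Infinite) : ∃ c ∈ C, ∀ a : L, IsSeparable (adjoin K {y - algebraMap K L c * x}) a →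
      a ∈ adjoin K {y - algebraMap K L c * x} := by
  classical
  let w : K → L := fun c => y - algebraMap K L c * x
  let k₂ : IntermediateField K L := adjoin K {x, y}
  have ess : Algebra.EssFiniteType k₂ L := .of_comp K k₂ L
  let E' : IntermediateField k₂ L := separableClosure k₂ L
  have fE' : FiniteDimensional k₂ E' :=
    Groth.Agent.Flat2E.FinSepClosure.finiteDimensional_separableClosure
  have hw2 : ∀ c, w c ∈ k₂ := fun c => sub_mem (subset_adjoin K _ (by simp))
    (mul_mem (k₂.algebraMap_mem c) (subset_adjoin K _ (by simp)))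
  have hwle : ∀ c, adjoin K {w c} ≤ k₂ := fun c => by
    rw [adjoin_simple_le_iff]; exact hw2 c
  let S : K → Set L := fun c => {a | IsSeparable (adjoin K {w c}) a}
  have hSsep : ∀ c, ∀ a ∈ S c, IsSeparable k₂ a := by
    intro c a ha
    let _ : Algebra (adjoin K {w c}) k₂ := (inclusion (hwle c)).toAlgebra
    have : IsScalarTower (adjoin K {w c}) k₂ L := IsScalarTower.of_algebraMap_eq fun _ => rfl
    exact IsSeparable.tower_top k₂ ha
  let F : K → IntermediateField k₂ L := fun c => adjoin k₂ (S c)
  have hFle : ∀ c, F c ≤ E' := fun c => by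
    rw [adjoin_le_iff]
    intro a ha
    exact mem_separableClosure_iff.mpr (hSsep c a ha)
  have hfin : Finite (IntermediateField k₂ E') := by
    have : Algebra.IsSeparable k₂ E' := inferInstance
    rw [← Field.exists_primitive_element_iff_finite_intermediateField]
    exact ⟨inferInstance, Field.exists_primitive_element k₂ E'⟩
  let G : K → IntermediateField k₂ E' := fun c => (F c).restrict (hFle c)
  obtain ⟨c, -, c', hc', hcc', hG⟩ := hC.exists_ne_map_eq_of_mapsTo (Set.mapsTo_univ G C)
    (Set.toFinite _)
  have hFF : F c = F c' := by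
    have h1 := congrArg IntermediateField.lift hG
    rwa [lift_restrict, lift_restrict] at h1
  refine ⟨c', hc', ?_⟩
  intro a ha
  have ha' : a ∈ F c := by
    rw [hFF]
    exact subset_adjoin _ _ ha
  let E₀ : IntermediateField (adjoin K {w c}) L := separableClosure (adjoin K {w c}) L
  let E : IntermediateField K L := E₀.restrictScalars K
  have hind := algebraicIndependent_pencil x y hxy hcc'
  have htr0 : Transcendental (adjoin K {w c}) (w c') := by
    have h1 := hind.transcendental_adjoin (s := {0}) (i := 1) (by simp)
    rw [Set.image_singleton] at h1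
    exact transcendental_adjoin_iff.mpr h1
  have htr : Transcendental E (w c') := by
    intro h3
    have h4 : IsAlgebraic E₀ (w c') := h3
    exact htr0 (h4.restrictScalars (adjoin K {w c}))
  have hd : algebraMap K L c' - algebraMap K L c ≠ 0 := by
    rw [← map_sub]
    exact (_root_.map_ne_zero _).mpr (sub_ne_zero.mpr hcc'.symm)
  refine mem_adjoin_of_isAlgebraic E (w c') htr a ?_ ?_
  · have h1 : (F c).restrictScalars K ≤ (adjoin E {w c'}).restrictScalars K := by
      have h2 : (F c).restrictScalars K = adjoin K ({x, y} ∪ S c) := adjoin_adjoin_left K _ _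
      rw [h2, adjoin_le_iff]
      have hSE : ∀ b ∈ S c, b ∈ adjoin E {w c'} := by
        intro b hb
        have : b ∈ E := mem_separableClosure_iff.mpr hb
        exact (adjoin E {w c'}).algebraMap_mem ⟨b, this⟩
      have hwc : w c ∈ adjoin E {w c'} := by
        have : w c ∈ E := E₀.algebraMap_mem ⟨w c, subset_adjoin K _ rfl⟩
        exact (adjoin E {w c'}).algebraMap_mem ⟨w c, this⟩
      have hwc' : w c' ∈ adjoin E {w c'} := mem_adjoin_simple_self E (w c')
      have hKm : ∀ e : K, algebraMap K L e ∈ adjoin E {w c'} := fun e =>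
        (adjoin E {w c'}).algebraMap_mem (algebraMap K E e)
      have hx : x = (w c - w c') / (algebraMap K L c' - algebraMap K L c) := by
        rw [eq_div_iff hd]
        simp only [w]
        ring
      have hxm : x ∈ adjoin E {w c'} := by
        rw [hx]
        exact div_mem (sub_mem hwc hwc') (sub_mem (hKm _) (hKm _))
      have hy : y = w c + algebraMap K L c * x := by simp only [w]; ring
      have hym : y ∈ adjoin E {w c'} := by
        rw [hy]
        exact add_mem hwc (mul_mem (hKm _) hxm)
      rintro b (hb | hb)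
      · rcases hb with rfl | rfl
        · exact hxm
        · exact hym
      · exact hSE b hb
    exact h1 ha'
  · exact ha.isIntegral.isAlgebraic

end K669.Pencil
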