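import Groth.Agent.Zeta.K669.Pencil
import Mathlib.RingTheory.Unramified.Field
import Mathlib.RingTheory.Derivation.Basic
import Mathlib.RingTheory.Kaehler.Basic

/-!
# Changing a separating transcendence basis inside a pencil
-/

set_option autoImplicit false
universe u v

open IntermediateField

namespace K669.Pencil

/-- A derivation killing a separating set of generators is zero. -/
theorem der_eq_zero {K L : Type u} [Field K] [Field L] [Algebra K L] (S : Set L)
    [Algebra.IsSeparable (adjoin K S) L] (D : Derivation K L L) (h : ∀ s ∈ S, D s = 0) : D = 0 := by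
  have h1 : ∀ x ∈ adjoin K S, D x = 0 := by
    intro x hx
    refine adjoin_induction K (p := fun x _ => D x = 0) ?_ ?_ ?_ ?_ ?_ hx
    · exact h
    · intro a; exact D.map_algebraMap a
    · intro a b _ _ ha hb; rw [map_add, ha, hb, add_zero]
    · intro a _ ha
      rw [Derivation.leibniz_inv, ha, smul_zero]
    · intro a b _ _ ha hb
      rw [Derivation.leibniz, ha, hb, smul_zero, smul_zero, add_zero]
  let D' : Derivation (adjoin K S) L L :=
    { toFun := D
      map_add' := map_add D
      map_smul' := fun a x => by
        have h3 : D (algebraMap (adjoin K S) L a) = 0 := h1 _ a.2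
        rw [Algebra.smul_def, Derivation.leibniz, RingHom.id_apply, h3, smul_zero, add_zero,
          smul_eq_mul, Algebra.smul_def]
      map_one_eq_zero' := D.map_one_eq_zero
      leibniz' := fun a b => D.leibniz a b }
  have hu : Algebra.FormallyUnramified (adjoin K S) L :=
    Algebra.FormallyUnramified.of_isSeparable _ _
  have hs : Subsingleton (Ω[L⁄adjoin K S]) := hu.subsingleton_kaehlerDifferential
  have h2 : D' = 0 := by
    rw [← D'.liftKaehlerDifferential_comp]
    ext x
    have : D'.liftKaehlerDifferential = 0 := by
      apply LinearMap.ext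
      intro y
      have hy : y = 0 := Subsingleton.elim _ _
      rw [hy, map_zero, map_zero]
    rw [this]
    rfl
  ext x
  exact congrArg (fun E : Derivation (adjoin K S) L L => E x) h2

/-- If all derivations killing `S` are zero then `L` is separable over `K(S)`. -/
theorem isSeparable_of_der {K L : Type u} [Field K] [Field L] [Algebra K L]
    [Algebra.EssFiniteType K L] (S : Set L)
    (h : ∀ D : Derivation K L L, (∀ s ∈ S, D s = 0) → D = 0) :
    Algebra.IsSeparable (adjoin K S) L := by
  have ess : Algebra.EssFiniteType (adjoin K S) L := .of_comp K (adjoin K S) L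
  rw [← Algebra.FormallyUnramified.iff_isSeparable]
  rw [Algebra.formallyUnramified_iff]
  by_contra hcon
  rw [not_subsingleton_iff_nontrivial] at hcon
  obtain ⟨x, hx⟩ := exists_ne (0 : Ω[L⁄adjoin K S])
  apply hx
  rw [← Module.forall_dual_apply_eq_zero_iff L x]
  intro f
  have h1 : (f.compDer (KaehlerDifferential.D (adjoin K S) L)).restrictScalars K = 0 := by
    apply h
    intro s hs
    have h2 : s = algebraMap (adjoin K S) L ⟨s, subset_adjoin K S hs⟩ := rfl
    change f (KaehlerDifferential.D (adjoin K S) L s) = 0
    rw [h2, Derivation.map_algebraMap, map_zero]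
  have h2 : f.compDer (KaehlerDifferential.D (adjoin K S) L) =
      (0 : Module.Dual L (Ω[L⁄adjoin K S])).compDer (KaehlerDifferential.D (adjoin K S) L) := by
    ext y
    have h3 := congrArg (fun E : Derivation K L L => E y) h1
    exact h3
  have h3 := Derivation.liftKaehlerDifferential_unique _ _ h2
  rw [h3]
  rfl

/-- Replacing a coordinate of a separating transcendence basis by a member of a pencil. -/
theorem exists_sub_separable {K L : Type u} [Field K] [Field L] [Algebra K L]
    [Algebra.EssFiniteType K L] {ι : Type*} [DecidableEq ι] (y : ι → L)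
    [Algebra.IsSeparable (adjoin K (Set.range y)) L] (i0 i1 : ι) (h01 : i1 ≠ i0) (ε : K) (z : L) :
    ∃ B : Set K, B.Subsingleton ∧ ∀ c ∉ B, Algebra.IsSeparable (adjoin K (Set.range
      (Function.update y i0 (z + algebraMap K L ε * y i1 - algebraMap K L c * y i0)))) L := by
  refine ⟨{c | ∃ D : Derivation K L L, (∀ j, j ≠ i0 → D (y j) = 0) ∧ D (y i0) = 1 ∧
    D z = algebraMap K L c}, ?_, ?_⟩
  · rintro c ⟨D, hD0, hD1, hDc⟩ c' ⟨D', hD'0, hD'1, hD'c⟩
    have h1 : D - D' = 0 := by
      apply der_eq_zero (Set.range y)
      rintro _ ⟨j, rfl⟩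
      rw [Derivation.sub_apply]
      by_cases hj : j = i0
      · rw [hj, hD1, hD'1, sub_self]
      · rw [hD0 j hj, hD'0 j hj, sub_self]
    have h2 : D z - D' z = 0 := by
      rw [← Derivation.sub_apply, h1]; rfl
    rw [hDc, hD'c, sub_eq_zero] at h2
    exact (algebraMap K L).injective h2
  · intro c hc
    apply isSeparable_of_der
    intro D hD
    have h1 : ∀ j, j ≠ i0 → D (y j) = 0 := by
      intro j hj
      apply hD
      exact ⟨j, by rw [Function.update_of_ne hj]⟩
    have h2 : D (z + algebraMap K L ε * y i1 - algebraMap K L c * y i0) = 0 :=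
      hD _ ⟨i0, by rw [Function.update_self]⟩
    rw [map_sub, map_add, Derivation.leibniz, Derivation.leibniz, h1 i1 h01,
      Derivation.map_algebraMap, Derivation.map_algebraMap, smul_zero, smul_zero, smul_zero,
      add_zero, add_zero, add_zero, sub_eq_zero, smul_eq_mul] at h2
    by_contra hne
    have h3 : D (y i0) ≠ 0 := by
      intro h0
      apply hne
      apply der_eq_zero (Set.range y)
      rintro _ ⟨j, rfl⟩
      by_cases hj : j = i0
      · rw [hj, h0]
      · exact h1 j hj
    refine hc ⟨(D (y i0))⁻¹ • D, ?_, ?_, ?_⟩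
    · intro j hj
      rw [Derivation.smul_apply, h1 j hj, smul_zero]
    · rw [Derivation.smul_apply, smul_eq_mul, inv_mul_cancel₀ h3]
    · rw [Derivation.smul_apply, h2, smul_eq_mul, mul_left_comm, inv_mul_cancel₀ h3, mul_one]

end K669.Pencil
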