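import Groth.Agent.Zeta.K669.ConeFinal
import Groth.Agent.Zeta.K467.Assem
import Groth.Agent.SmVar.K658.SecSmooth

/-!
# The charts of a projective variety in terms of its homogeneous coordinates
-/

set_option autoImplicit false
universe u

open CategoryTheory CategoryTheory.Limits AlgebraicGeometry TopologicalSpace Opposite HomogeneousLocalization
open Groth.Agent.Ega2.H298.ProjRatio Groth.Agent.Ega2.H298.ProjExt
open Groth.Agent.Ega2.H291.ProjClosed Groth.Agent.FormalB.TwistExt

namespace K669.ProjAlg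

open Groth.Agent K658.ProjSec K467.ProjPt K467.Cone

variable {k : Type u} [Field k] {n : ℕ} {X : Scheme.{u}}

section chart

variable (ι : X ⟶ Proj (CohB1.polyGrading n k)) (j : Fin (n + 1))

theorem θ_fr {d : ℕ} {F : MvPolynomial (Fin (n + 1)) k} (hF : F ∈ CohB1.polyGrading n k d) :
    θ ι j F = (ι.app (Proj.basicOpen (CohB1.polyGrading n k) (X1 k n j).1)).hom
      (fr (X1 k n j).1 (X1 k n j).2 hF) := by
  change resHom (CohB1.polyGrading n k) ι (X1 k n j) le_rfl (deh (CohB1.polyGrading n k) (X1 k n j) F) = _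
  have h1 : deh (CohB1.polyGrading n k) (X1 k n j) F =
      Away.mk (CohB1.polyGrading n k) (X1 k n j).2 d F (by simpa using hF) :=
    deh_coe (CohB1.polyGrading n k) (X1 k n j) (⟨F, hF⟩ : CohB1.polyGrading n k d)
  rw [h1]
  change (ι.appLE (Proj.basicOpen (CohB1.polyGrading n k) (X1 k n j).1) (W ι j) le_rfl).hom
    ((Proj.awayToSection (CohB1.polyGrading n k) (X1 k n j).1).hom _) = _
  rw [← awayToSection_mk (X1 k n j).1 (X1 k n j).2 hF d rfl, Scheme.Hom.app_eq_appLE]

theorem basicOpen_θ {d : ℕ} {F : MvPolynomial (Fin (n + 1)) k} (hF : F ∈ CohB1.polyGrading n k d) :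
    X.basicOpen (θ ι j F) =
      ι ⁻¹ᵁ (Proj.basicOpen (CohB1.polyGrading n k) (X1 k n j).1 ⊓ Proj.basicOpen (CohB1.polyGrading n k) F) := by
  rw [θ_fr ι j hF]
  refine (Scheme.preimage_basicOpen ι _).symm.trans ?_
  congr 1
  exact basicOpen_ofrac _ _ _

end chart

theorem eq_bot_iff_generic {X : Scheme.{u}} [IsIntegral X] (U : X.Opens) :
    U = ⊥ ↔ genericPoint X ∉ U := by
  constructor
  · rintro rfl h
    exact h
  · intro h
    by_contra hne
    exact h (((genericPoint_spec X).mem_open_set_iff U.isOpen).mpr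
      (by simpa using (Opens.ne_bot_iff_nonempty U).mp hne))

section integral

variable (ι : X ⟶ CohB1.ProjSpace n k) [IsClosedImmersion ι] [IsIntegral X] (j : Fin (n + 1))

/-- A homogeneous polynomial vanishes on a chart iff it is in the homogeneous ideal. -/
theorem θ_eq_zero_iff (hj : ι (genericPoint X) ∈
      Proj.basicOpen (CohB1.polyGrading n k) (MvPolynomial.X j : MvPolynomial (Fin (n + 1)) k))
    {d : ℕ} {F : MvPolynomial (Fin (n + 1)) k} (hF : F ∈ CohB1.polyGrading n k d) :
    θ (k := k) (n := n) ι j F = 0 ↔ F ∈ hI ι := by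
  rw [← basicOpen_eq_bot_iff, basicOpen_θ ι j hF, hI_eq_generic, eq_bot_iff_generic]
  constructor
  · intro h
    by_contra hne
    exact h ⟨hj, hne⟩
  · intro h h2
    exact h2.2 h

variable {E : Type u} [Field E] [Algebra k E] (v : Fin (n + 1) → E)
  (hv : ∀ (d : ℕ) (F : MvPolynomial (Fin (n + 1)) k), F ∈ CohB1.polyGrading n k d →
    (F ∈ hI ι ↔ MvPolynomial.aeval v F = 0))

include hv in
theorem v_ne_zero_iff : v j ≠ 0 ↔ ι (genericPoint X) ∈
      Proj.basicOpen (CohB1.polyGrading n k) (MvPolynomial.X j : MvPolynomial (Fin (n + 1)) k) := by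
  have h1 := hv 1 (MvPolynomial.X j) (MvPolynomial.isHomogeneous_X k j)
  rw [MvPolynomial.aeval_X, hI_eq_generic] at h1
  exact (not_congr h1).symm

/-- Homogenization with respect to `X j`. -/
theorem exists_hmg (F : MvPolynomial (Fin (n + 1)) k) : ∃ (d : ℕ) (G : MvPolynomial (Fin (n + 1)) k),
    G ∈ CohB1.polyGrading n k d ∧
      ∀ {C : Type u} [CommRing C] (φ : MvPolynomial (Fin (n + 1)) k →+* C),
        φ (MvPolynomial.X j) = 1 → φ G = φ F := by
  classical
  refine ⟨F.totalDegree, ∑ d ∈ Finset.range (F.totalDegree + 1),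
    MvPolynomial.homogeneousComponent d F * MvPolynomial.X j ^ (F.totalDegree - d), ?_, ?_⟩
  · refine Submodule.sum_mem _ fun d hd => ?_
    have h1 : (MvPolynomial.homogeneousComponent d F).IsHomogeneous d :=
      MvPolynomial.homogeneousComponent_isHomogeneous d F
    have h2 : (MvPolynomial.X j ^ (F.totalDegree - d) : MvPolynomial (Fin (n + 1)) k).IsHomogeneous
      (1 * (F.totalDegree - d)) := (MvPolynomial.isHomogeneous_X k j).pow _
    have h3 := h1.mul h2
    have h4 : d + 1 * (F.totalDegree - d) = F.totalDegree := by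
      have := Finset.mem_range.mp hd
      omega
    rw [h4] at h3
    exact h3
  · intro C _ φ hφ
    conv_rhs => rw [← MvPolynomial.sum_homogeneousComponent F, map_sum]
    rw [map_sum]
    refine Finset.sum_congr rfl fun d _ => ?_
    rw [map_mul, map_pow, hφ, one_pow, mul_one]

include hv in
theorem ker_eq (hj : v j ≠ 0) (F : MvPolynomial (Fin (n + 1)) k) :
    θ (k := k) (n := n) ι j F = 0 ↔ MvPolynomial.aeval (fun l => v l / v j) F = 0 := by
  obtain ⟨d, G, hG, hG'⟩ := exists_hmg j F
  have h1 := hG' (θ (k := k) (n := n) ι j) (θ_self ι j)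
  have h2 := hG' ((MvPolynomial.aeval (fun l => v l / v j) : MvPolynomial (Fin (n + 1)) k →ₐ[k] E) :
    MvPolynomial (Fin (n + 1)) k →+* E) (by
      rw [RingHom.coe_coe, MvPolynomial.aeval_X, div_self hj])
  rw [RingHom.coe_coe] at h2
  rw [← h1, ← h2, θ_eq_zero_iff ι j ((v_ne_zero_iff ι j v hv).mp hj) hG, hv d G hG]
  have h3 : v = fun l => (v l / v j) * v j := by
    funext l
    rw [div_mul_cancel₀ _ hj]
  conv_lhs => rw [h3]
  rw [K467.ConeAlg.aeval_mul_of_isHomogeneous hG (fun l => v l / v j) (v j), mul_eq_zero,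
    or_iff_left (pow_ne_zero d hj)]

include hv in
/-- The embedding of the ring of a chart into the function field. -/
theorem exists_ρ (hj : v j ≠ 0) : letI := alg (k := k) (n := n) ι j;
    Algebra.adjoin k (Set.range (fun l => θ (k := k) (n := n) ι j (MvPolynomial.X l))) = ⊤ ∧
    ∃ ρ : Γ(X, W (k := k) (n := n) ι j) →ₐ[k] E, Function.Injective ρ ∧
      ∀ l, ρ (θ (k := k) (n := n) ι j (MvPolynomial.X l)) = v l / v j := by
  let _ := alg (k := k) (n := n) ι j
  have hcl : @IsClosedImmersion X (Proj (CohB1.polyGrading n k)) ι := ‹IsClosedImmersion ι›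
  have hs : Function.Surjective (MvPolynomial.aeval (fun l => θ (k := k) (n := n) ι j (MvPolynomial.X l)) :
      MvPolynomial (Fin (n + 1)) k →ₐ[k] Γ(X, W (k := k) (n := n) ι j)) := fun y => by
    obtain ⟨P, hP⟩ := θ_surjective (k := k) (n := n) ι j y
    exact ⟨P, (aeval_eq (k := k) (n := n) ι j P).trans hP⟩
  refine ⟨?_, ?_⟩
  · rw [Algebra.adjoin_range_eq_range_aeval, AlgHom.range_eq_top]
    exact hs
  · let φ : MvPolynomial (Fin (n + 1)) k →ₐ[k] Γ(X, W (k := k) (n := n) ι j) :=
      MvPolynomial.aeval (fun l => θ (k := k) (n := n) ι j (MvPolynomial.X l))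
    have hφ : ∀ P, φ P = θ (k := k) (n := n) ι j P := aeval_eq (k := k) (n := n) ι j
    let ψ : MvPolynomial (Fin (n + 1)) k →ₐ[k] E := MvPolynomial.aeval (fun l => v l / v j)
    have hker : ∀ P, φ P = 0 ↔ ψ P = 0 := fun P => by
      rw [hφ]; exact ker_eq ι j v hv hj P
    let e := Ideal.quotientKerAlgEquivOfSurjective (f := φ) hs
    let g : (MvPolynomial (Fin (n + 1)) k ⧸ RingHom.ker φ) →ₐ[k] E :=
      Ideal.Quotient.liftₐ (RingHom.ker φ) ψ (fun P hP => (hker P).mp hP)
    have hg : ∀ P, g (Ideal.Quotient.mk _ P) = ψ P := fun P => rfl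
    have he : ∀ P, e.symm (φ P) = Ideal.Quotient.mk _ P := fun P => by
      rw [AlgEquiv.symm_apply_eq]
      rfl
    refine ⟨g.comp e.symm.toAlgHom, ?_, fun l => ?_⟩
    · rw [injective_iff_map_eq_zero]
      intro y hy
      obtain ⟨P, rfl⟩ := hs y
      change g (e.symm (φ P)) = 0 at hy
      rw [he, hg] at hy
      exact (hker P).mpr hy
    · change g (e.symm _) = _
      rw [← hφ, he, hg]
      exact MvPolynomial.aeval_X _ _

end integral

end K669.ProjAlg
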