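import Groth.Agent.Zeta.K669.ProjTrans

/-!
# Hyperplane sections of geometrically integral projective varieties
-/

set_option autoImplicit false
universe u

open CategoryTheory CategoryTheory.Limits AlgebraicGeometry TopologicalSpace TensorProduct Filter
open Groth.Agent

namespace K669.ProjMain

open K658.ProjSec K467.ProjPt K467.Cone K669.ProjAlg

variable {k : Type u} [Field k] {n : ℕ} {X : Scheme.{u}}

theorem secVal_secOf (ℓ : CohB1.polyGrading n k 1) :
    PicF2.secVal (Twist.twistProjSpace n k 1) (K658.SecSmooth.secOf ℓ) ⊤ =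
      Twist.globalOf (CohB1.polyGrading n k) ℓ := by
  have h := Groth.Agent.Fdesc.LocGen.sec_homOf (M := Twist.twist (CohB1.polyGrading n k) 1)
    (Groth.Agent.Ega2.H298.ProjRatio.glob (CohB1.polyGrading n k) ℓ) ⊤
  rw [Groth.Agent.Fdesc.LocGen.res_refl] at h
  exact h

/-- The section by the linear form `ℓ` is good. -/
def GoodSec (ι : X ⟶ CohB1.ProjSpace n k) (ℓ : CohB1.polyGrading n k 1) : Prop :=
  GeometricallyIrreducible
      (pullback.fst ι (PicF2.zeroScheme (Twist.twistProjSpace n k 1) (K658.SecSmooth.secOf ℓ)).subschemeι ≫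
        ι ≫ CohB1.ProjSpace.toSpec n k) ∧
    ∃ U : (pullback ι (PicF2.zeroScheme (Twist.twistProjSpace n k 1)
        (K658.SecSmooth.secOf ℓ)).subschemeι).Opens,
      Dense (U : Set ↥(pullback ι (PicF2.zeroScheme (Twist.twistProjSpace n k 1)
        (K658.SecSmooth.secOf ℓ)).subschemeι)) ∧ IsReduced (U : Scheme.{u})

theorem goodSec_of (K : Type u) [Field K] [IsAlgClosed K] [Algebra k K] [Algebra.IsAlgebraic k K]
    (ι : X ⟶ CohB1.ProjSpace n k) [IsClosedImmersion ι] (ℓ : CohB1.polyGrading n k 1)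
    (I : Set (Fin (n + 1))) (hI : I.Nonempty)
    (hI1 : ∀ i ∉ I, Ideal.span {θ (k := k) (n := n) ι i ℓ} = ⊤)
    (hI2 : ∀ i ∈ I, letI := alg (k := k) (n := n) ι i
      ProjTrans.Good k K (Ideal.span {θ (k := k) (n := n) ι i ℓ}))
    (hI3 : ∀ i ∈ I, ∀ j ∈ I, θ (k := k) (n := n) ι i (MvPolynomial.X j) ∉
      (Ideal.span {θ (k := k) (n := n) ι i ℓ}).radical) : GoodSec ι ℓ := by
  let ι' : X ⟶ Proj (CohB1.polyGrading n k) := ι
  have hι' : IsClosedImmersion ι' := ‹IsClosedImmersion ι›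
  let Z := PicF2.zeroScheme (Twist.twist (CohB1.polyGrading n k) 1) (K658.SecSmooth.secOf ℓ)
  let J := Z.comap ι'
  let Waff : ULift.{u} (Fin (n + 1)) → X.affineOpens := fun j => ⟨W ι' j.down, isAffineOpen_W ι' j.down⟩
  have hJ : ∀ j, J.ideal (Waff j) = Ideal.span {θ ι' j.down ℓ} := by
    intro j
    rw [Groth.Agent.Divis.IdealComap.ideal_comap Z ι' (K658.SecSmooth.Daff k n j.down) (Waff j) le_rfl,
      K658.SecSmooth.ideal_zeroScheme, θ_lin, Scheme.Hom.app_eq_appLE]
    refine (Ideal.map_span _ _).trans ?_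
    exact congrArg Ideal.span (Set.image_singleton)
  let _ : ∀ i, Algebra k Γ(X, (Waff i).1) := fun i => alg ι' i.down
  have hsupp : ∀ x : X, x ∈ (J.support : Set X) ↔
      (ℓ : MvPolynomial (Fin (n + 1)) k) ∈ (ι' x).asHomogeneousIdeal := by
    intro x
    rw [Scheme.IdealSheafData.support_comap]
    exact K658.SecSmooth.mem_support_iff ℓ (ι' x)
  have hmeet : ∀ i ∈ I, ∀ j ∈ I, ∃ y : J.subscheme, J.subschemeι y ∈ W ι' i ∧ J.subschemeι y ∈ W ι' j := by
    intro i hi j hj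
    have h1 := hI3 i hi j hj
    rw [Ideal.radical_eq_sInf, Submodule.mem_sInf] at h1
    push Not at h1
    obtain ⟨P, ⟨hPle, hP⟩, hPj⟩ := h1
    have hU := isAffineOpen_W ι' i
    let y : PrimeSpectrum Γ(X, W ι' i) := ⟨P, hP⟩
    have hyW : hU.fromSpec y ∈ W ι' i := by
      have : hU.fromSpec y ∈ hU.fromSpec.opensRange := ⟨y, rfl⟩
      rwa [hU.opensRange_fromSpec] at this
    have hbo : ∀ f : Γ(X, W ι' i), hU.fromSpec y ∈ X.basicOpen f ↔ f ∉ P := by
      intro f
      have h2 := hU.fromSpec_preimage_basicOpen f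
      have h3 : y ∈ hU.fromSpec ⁻¹ᵁ X.basicOpen f ↔ y ∈ PrimeSpectrum.basicOpen f := by
        rw [h2]; exact Iff.rfl
      exact h3
    have h4 : hU.fromSpec y ∈ (J.support : Set X) := by
      rw [hsupp]
      by_contra hne
      have h5 := (mem_basicOpen_θ ι' i (hU.fromSpec y) hyW ℓ).mpr hne
      rw [hbo] at h5
      exact h5 (hPle (Ideal.mem_span_singleton_self _))
    rw [← Scheme.IdealSheafData.range_subschemeι] at h4
    obtain ⟨z, hz⟩ := h4
    refine ⟨z, by rw [hz]; exact hyW, ?_⟩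
    rw [hz]
    have h6 := (hbo _).mpr hPj
    exact (mem_basicOpen_θ ι' i (hU.fromSpec y) hyW (X1 k n j)).mp h6
  have hmain := ProjTrans.main K (ι' ≫ CohB1.ProjSpace.toSpec n k) J Waff
    (fun x => by
      obtain ⟨i, hi⟩ := exists_mem_W ι' x
      exact ⟨⟨i⟩, hi⟩)
    (fun i => algebraMap_alg ι' i.down)
    (ULift.down ⁻¹' I) (by obtain ⟨i, hi⟩ := hI; exact ⟨⟨i⟩, hi⟩)
    (fun i hi => by rw [hJ]; exact hI1 i.down hi)
    (fun i hi => by rw [hJ]; exact hI2 i.down hi)
    (fun i hi j hj => hmeet i.down hi j.down hj)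
  obtain ⟨hGI, U, hUd, hUr⟩ := hmain
  constructor
  · have h1 : (Z.comapIso ι').inv ≫ J.subschemeι = pullback.fst ι' Z.subschemeι :=
      Z.comapIso_inv_subschemeι ι'
    have h2 : GeometricallyIrreducible ((Z.comapIso ι').inv ≫ J.subschemeι ≫ ι' ≫
        CohB1.ProjSpace.toSpec n k) := by
      rw [MorphismProperty.cancel_left_of_respectsIso @GeometricallyIrreducible]
      exact hGI
    rw [← Category.assoc, h1] at h2
    exact h2
  · let e : pullback ι' Z.subschemeι ≅ J.subscheme := (Z.comapIso ι').symm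
    refine ⟨e.hom ⁻¹ᵁ U, ?_, ?_⟩
    · have h1 : Dense ((e.hom : _ → _) ⁻¹' (U : Set J.subscheme)) :=
        hUd.preimage e.hom.homeomorph.isOpenMap
      exact h1
    · have h2 : AlgebraicGeometry.IsReduced ((e.hom ⁻¹ᵁ U : (pullback ι' Z.subschemeι).Opens) : Scheme.{u}) := by
        have h3 : IsIso (e.hom ∣_ U) := inferInstance
        have h4 : IsOpenImmersion (e.hom ∣_ U) := IsOpenImmersion.of_isIso (e.hom ∣_ U)
        exact isReduced_of_isOpenImmersion (e.hom ∣_ U)
      exact h2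

attribute [local instance] Curv2.resAlgebra

theorem exists_g [PerfectField k] (ι : X ⟶ CohB1.ProjSpace n k) [IsClosedImmersion ι] [IsIntegral X]
    [GeometricallyIrreducible (ι ≫ CohB1.ProjSpace.toSpec n k)] {r : ℕ} (hr : 2 ≤ r)
    (hdim : topologicalKrullDim X = r) (d : ℕ)
    (hgr : ∀ ε : ℝ, 0 < ε → ∀ᶠ t : ℕ in atTop,
      (Module.finrank k ((MvPolynomial.homogeneousSubmodule (Fin (n + 1)) k t).map
        (Ideal.Quotient.mkₐ k (hI ι)).toLinearMap) : ℝ) ≤
        ((d : ℝ) / (r.factorial : ℝ) + ε) * (t : ℝ) ^ r) :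
    ∃ g : MvPolynomial (Fin (n + 1)) (AlgebraicClosure k), g ≠ 0 ∧
      g.totalDegree ≤ Cone.Dmax.{u} r d ∧
      ∀ ℓ : CohB1.polyGrading n k 1, MvPolynomial.eval (fun i => algebraMap k (AlgebraicClosure k)
        (MvPolynomial.coeff (Finsupp.single i 1) (ℓ : MvPolynomial (Fin (n + 1)) k))) g ≠ 0 →
        GoodSec ι ℓ := by
  let _ : X.Over (Spec (CommRingCat.of k)) := ⟨ι ≫ CohB1.ProjSpace.toSpec n k⟩
  let E := X.residueField (genericPoint X)
  obtain ⟨j₀, v, hj₀, hF, hv⟩ := K467.Assem.exists_coords' (X := X) ι rfl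
  have htr := K467.Assem.trdeg_eq (X := X) ι rfl hdim
  have hGI : GeometricallyIrreducible (X ↘ Spec (CommRingCat.of k)) :=
    inferInstanceAs (GeometricallyIrreducible (ι ≫ CohB1.ProjSpace.toSpec n k))
  have hdom : IsDomain (AlgebraicClosure k ⊗[k] E) :=
    K467.ConeAlg.isDomain_tensor fun x hx => (S1540.result k X).mp hGI x hx
  obtain ⟨g, hg0, hgd, hg⟩ := ConeFinal.main k (AlgebraicClosure k) hr v hj₀ hv htr d (by
    intro ε hε
    filter_upwards [hgr ε hε] with t ht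
    rw [K467.HilbCone.H_eq v hF]
    exact ht)
  refine ⟨g, hg0, hgd, fun ℓ hℓ => ?_⟩
  obtain ⟨I, hI, hI1, hI2⟩ := hg (fun i => MvPolynomial.coeff (Finsupp.single i 1)
    (ℓ : MvPolynomial (Fin (n + 1)) k)) hℓ
  have key : ∀ i, v i ≠ 0 → letI := alg (k := k) (n := n) ι i
      ConeFinal.ChartGood k (AlgebraicClosure k) I i
        (fun l => θ (k := k) (n := n) ι i (MvPolynomial.X l)) (θ (k := k) (n := n) ι i ℓ) := by
    intro i hi
    let _ := alg (k := k) (n := n) ι i
    obtain ⟨hadj, ρ, hρ, hρt⟩ := exists_ρ ι i v hF hi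
    have h1 := hI2 i hi (fun l => θ (k := k) (n := n) ι i (MvPolynomial.X l)) hadj ρ hρ hρt
    have h2 := θ_sum (k := k) (n := n) ι i ℓ
    rw [← h2] at h1
    exact h1
  refine goodSec_of (AlgebraicClosure k) ι ℓ I hI ?_ ?_ ?_
  · intro i hi
    by_cases hvi : v i = 0
    · have h1 : W (k := k) (n := n) ι i = ⊥ := by
        rw [eq_bot_iff_generic]
        intro h2
        exact (v_ne_zero_iff ι i v hF).mpr h2 hvi
      have h2 : Subsingleton Γ(X, W (k := k) (n := n) ι i) := by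
        rw [h1]; infer_instance
      rw [Ideal.eq_top_iff_one, Subsingleton.elim (1 : Γ(X, W (k := k) (n := n) ι i)) 0]
      exact zero_mem _
    · exact (key i hvi).1 hi
  · intro i hi
    let _ := alg (k := k) (n := n) ι i
    obtain ⟨h1, -, h2⟩ := (key i (hI1 i hi)).2 hi
    exact ⟨h1, h2⟩
  · intro i hi j hj
    let _ := alg (k := k) (n := n) ι i
    obtain ⟨-, h1, -⟩ := (key i (hI1 i hi)).2 hi
    exact h1 j hj

end K669.ProjMain
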