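import Groth.Agent.Zeta.K669.ProjAlg
import Groth.Agent.Variety.K418.HypInt
import Groth.Agent.VarietyA.GeomIrrS
import Groth.Agent.VarietyB.BaseExt1

/-!
# Geometric irreducibility and generic reducedness of a closed subscheme from charts
-/

set_option autoImplicit false
universe u

open CategoryTheory CategoryTheory.Limits AlgebraicGeometry TopologicalSpace TensorProduct
open Groth.Agent

namespace K669.ProjTrans

theorem irreducibleSpace_of_opens {Z α : Type*} [TopologicalSpace Z] (U : α → Set Z)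
    (hU : ∀ i, IsOpen (U i)) (hcov : ∀ z, ∃ i, z ∈ U i)
    (hirr : ∀ i, (U i).Nonempty → IsPreirreducible (U i))
    (hmeet : ∀ i j, (U i).Nonempty → (U j).Nonempty → (U i ∩ U j).Nonempty)
    (hne : ∃ i, (U i).Nonempty) : IrreducibleSpace Z := by
  obtain ⟨i₀, z₀, -⟩ := hne
  refine @IrreducibleSpace.mk _ _ ⟨?_⟩ ⟨z₀⟩
  rintro u v hu hv ⟨a, -, ha⟩ ⟨b, -, hb⟩
  obtain ⟨i, hi⟩ := hcov a
  obtain ⟨j, hj⟩ := hcov b
  obtain ⟨c, hci, hcj⟩ := hmeet i j ⟨a, hi⟩ ⟨b, hj⟩
  obtain ⟨e, hei, heu, hej⟩ := hirr i ⟨a, hi⟩ u (U j) hu (hU j) ⟨a, hi, ha⟩ ⟨c, hci, hcj⟩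
  obtain ⟨f, -, ⟨-, hfu⟩, hfv⟩ := hirr j ⟨b, hj⟩ (U i ∩ u) v ((hU i).inter hu) hv ⟨e, hej, hei, heu⟩ ⟨b, hj, hb⟩
  exact ⟨f, trivial, hfu, hfv⟩

/-- Localization at an element killing the nilradical is reduced. -/
theorem isReduced_away {C : Type*} [CommRing C] (c : C) (hc : ∀ y ∈ nilradical C, c * y = 0) :
    IsReduced (Localization.Away c) := by
  refine ⟨fun x hx => ?_⟩
  obtain ⟨m, hm⟩ := hx
  obtain ⟨y, ⟨_, e, rfl⟩, rfl⟩ := IsLocalization.exists_mk'_eq (Submonoid.powers c) x
  rw [← IsLocalization.mk'_pow, IsLocalization.mk'_eq_zero_iff] at hm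
  obtain ⟨⟨_, f, rfl⟩, hf⟩ := hm
  have hf' : c ^ f * y ^ m = 0 := hf
  have h1 : c * y ∈ nilradical C := by
    refine ⟨f + m, ?_⟩
    rw [mul_pow, pow_add, pow_add]
    calc c ^ f * c ^ m * (y ^ f * y ^ m) = (c ^ f * y ^ m) * (c ^ m * y ^ f) := by ring
      _ = 0 := by rw [hf', zero_mul]
  rw [IsLocalization.mk'_eq_zero_iff]
  refine ⟨⟨c ^ 2, 2, rfl⟩, ?_⟩
  change c ^ 2 * y = 0
  have := hc _ h1
  rw [pow_two, mul_assoc]
  exact this

variable {k : Type u} [Field k] {X : Scheme.{u}}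

/-- The good condition for one chart with ring `A`. -/
def Good (k K : Type u) [Field k] [Field K] [Algebra k K] {A : Type u} [CommRing A] [Algebra k A]
    (J : Ideal A) : Prop :=
  IrreducibleSpace (PrimeSpectrum (K ⊗[k] (A ⧸ J))) ∧
    ∃ c : A, c ∉ J.radical ∧ ∀ y ∈ J.radical, c * y ∈ J

theorem main (K : Type u) [Field K] [IsAlgClosed K] [Algebra k K] [Algebra.IsAlgebraic k K]
    (p : X ⟶ Spec (CommRingCat.of k)) (J : X.IdealSheafData) {α : Type u}
    (W : α → X.affineOpens) (hW : ∀ x : X, ∃ i, x ∈ (W i).1)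
    [∀ i, Algebra k Γ(X, (W i).1)]
    (halg : ∀ i, algebraMap k Γ(X, (W i).1) = Groth.Agent.VarietyB.ProjGlue.CoordData.baseHom p (W i).1)
    (I : Set α) (hI : I.Nonempty) (hI1 : ∀ i ∉ I, J.ideal (W i) = ⊤)
    (hI2 : ∀ i ∈ I, Good k K (J.ideal (W i)))
    (hmeet : ∀ i ∈ I, ∀ j ∈ I, ∃ y : J.subscheme, J.subschemeι y ∈ (W i).1 ∧ J.subschemeι y ∈ (W j).1) :
    GeometricallyIrreducible (J.subschemeι ≫ p) ∧
      ∃ U : J.subscheme.Opens, Dense (U : Set J.subscheme) ∧ AlgebraicGeometry.IsReduced (U : Scheme.{u}) := by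
  have hop : ∀ i, IsOpenImmersion (J.subschemeCover.f (W i)) := fun i => J.subschemeCover.map_prop (W i)
  have hrange : ∀ i (y : J.subscheme), y ∈ Set.range (J.subschemeCover.f (W i)) ↔ J.subschemeι y ∈ (W i).1 := by
    intro i y
    have h1 := J.opensRange_subschemeCover_map (W i)
    have h2 : y ∈ (J.subschemeCover.f (W i)).opensRange ↔ y ∈ J.subschemeι ⁻¹ᵁ (W i).1 := by rw [h1]
    exact h2
  let f : J.subscheme ⟶ Spec (CommRingCat.of k) := J.subschemeι ≫ p
  let g : Spec (CommRingCat.of K) ⟶ Spec (CommRingCat.of k) := Spec.map (CommRingCat.ofHom (algebraMap k K))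
  have hcomp : ∀ i, J.subschemeCover.f (W i) ≫ f = Spec.map (CommRingCat.ofHom
      (algebraMap k (Γ(X, (W i).1) ⧸ J.ideal (W i)))) := by
    intro i
    have h1 := K658.SecSmooth.cover_comp p J (W i)
    rw [← halg i] at h1
    exact h1
  have hgs : Surjective g := Groth.Agent.VarietyB.BaseExt1.surjective_of_subsingleton _
  have hirr : IrreducibleSpace ↥(pullback f g) := by
    let V : ∀ i, pullback (J.subschemeCover.f (W i) ≫ f) g ⟶ pullback f g := fun i =>
      pullback.map (J.subschemeCover.f (W i) ≫ f) g f g (J.subschemeCover.f (W i)) (𝟙 _) (𝟙 _)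
        (by simp) (by simp)
    have hVr : ∀ i, Set.range (V i) = (pullback.fst f g) ⁻¹' Set.range (J.subschemeCover.f (W i)) := by
      intro i
      have h1 := Scheme.Pullback.range_map (J.subschemeCover.f (W i) ≫ f) g f g
        (J.subschemeCover.f (W i)) (𝟙 _) (𝟙 _) (by simp) (by simp)
      have h2 : Set.range (𝟙 (Spec (CommRingCat.of K)) : Spec (CommRingCat.of K) ⟶ _) = Set.univ :=
        Set.range_eq_univ.mpr fun x => ⟨x, rfl⟩
      rw [h2, Set.preimage_univ, Set.inter_univ] at h1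
      exact h1
    have hVirr : ∀ i ∈ I, IrreducibleSpace ↥(pullback (J.subschemeCover.f (W i) ≫ f) g) := by
      intro i hi
      rw [hcomp i]
      have h1 := (hI2 i hi).1
      have h2 : IrreducibleSpace (PrimeSpectrum ((Γ(X, (W i).1) ⧸ J.ideal (W i)) ⊗[k] K)) :=
        (PrimeSpectrum.homeomorphOfRingEquiv (Algebra.TensorProduct.comm k K
          (Γ(X, (W i).1) ⧸ J.ideal (W i))).toRingEquiv).irreducibleSpace_iff.mp h1
      exact ((pullbackSpecIso k (Γ(X, (W i).1) ⧸ J.ideal (W i)) K).hom.homeomorph.irreducibleSpace_iff).2 h2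
    have hempty : ∀ i ∉ I, Set.range (J.subschemeCover.f (W i)) = ∅ := by
      intro i hi
      rw [Set.range_eq_empty_iff]
      have h1 : Subsingleton (Γ(X, (W i).1) ⧸ J.ideal (W i)) := by
        rw [hI1 i hi]
        exact Ideal.Quotient.subsingleton_iff.mpr rfl
      change IsEmpty (PrimeSpectrum (Γ(X, (W i).1) ⧸ J.ideal (W i)))
      infer_instance
    have hfst : Surjective (pullback.fst f g) := inferInstance
    have hnon : ∀ i, ((pullback.fst f g) ⁻¹' Set.range (J.subschemeCover.f (W i))).Nonempty → i ∈ I := by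
      intro i hne
      by_contra hi
      rw [hempty i hi, Set.preimage_empty] at hne
      exact Set.not_nonempty_empty hne
    refine irreducibleSpace_of_opens
      (fun i => (pullback.fst f g) ⁻¹' Set.range (J.subschemeCover.f (W i))) ?_ ?_ ?_ ?_ ?_
    · intro i
      exact (hop i).base_open.isOpen_range.preimage (pullback.fst f g).continuous
    · intro z
      obtain ⟨i, hi⟩ := hW (J.subschemeι (pullback.fst f g z))
      exact ⟨i, (hrange i _).mpr hi⟩
    · intro i hne
      have := hVirr i (hnon i hne)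
      rw [← hVr i, ← Set.image_univ]
      exact ((IrreducibleSpace.isIrreducible_univ _).image _ (V i).continuous.continuousOn).isPreirreducible
    · intro i j hne hne'
      obtain ⟨y, hyi, hyj⟩ := hmeet i (hnon i hne) j (hnon j hne')
      obtain ⟨z, rfl⟩ := hfst.surj y
      exact ⟨z, (hrange i _).mpr hyi, (hrange j _).mpr hyj⟩
    · obtain ⟨i, hi⟩ := hI
      obtain ⟨y, hyi, -⟩ := hmeet i hi i hi
      obtain ⟨z, rfl⟩ := hfst.surj y
      exact ⟨i, z, (hrange i _).mpr hyi⟩
  have hGI : GeometricallyIrreducible f :=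
    Groth.Agent.VarietyA.GeomIrr.geometricallyIrreducible_of_irreducibleSpace_of_isSepClosed k K f
  refine ⟨hGI, ?_⟩
  have hYirr : IrreducibleSpace J.subscheme :=
    GeometricallyIrreducible.irreducibleSpace_of_subsingleton (f := f)
  obtain ⟨i, hi⟩ := hI
  obtain ⟨c, hc, hc'⟩ := (hI2 i hi).2
  let C := Γ(X, (W i).1) ⧸ J.ideal (W i)
  let c' : C := Ideal.Quotient.mk _ c
  have hred : _root_.IsReduced (Localization.Away c') := by
    refine isReduced_away c' fun y hy => ?_
    obtain ⟨y, rfl⟩ := Ideal.Quotient.mk_surjective y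
    obtain ⟨m, hm⟩ := hy
    rw [← map_pow] at hm
    have h1 : y ∈ (J.ideal (W i)).radical := ⟨m, Ideal.Quotient.eq_zero_iff_mem.mp hm⟩
    rw [← map_mul, Ideal.Quotient.eq_zero_iff_mem]
    exact hc' y h1
  have hnt : Nontrivial (Localization.Away c') := by
    rw [← not_subsingleton_iff_nontrivial]
    intro hsub
    apply hc
    have h1 : (1 : Localization.Away c') = 0 := Subsingleton.elim _ _
    rw [← map_one (algebraMap C (Localization.Away c')),
      IsLocalization.map_eq_zero_iff (Submonoid.powers c')] at h1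
    obtain ⟨⟨_, m, rfl⟩, hm⟩ := h1
    refine ⟨m, ?_⟩
    rw [mul_one] at hm
    have hm' : c' ^ m = 0 := hm
    rw [← Ideal.Quotient.eq_zero_iff_mem, map_pow]
    exact hm'
  let a : Spec (CommRingCat.of (Localization.Away c')) ⟶ Spec (CommRingCat.of C) :=
    Spec.map (CommRingCat.ofHom (algebraMap C (Localization.Away c')))
  have ha : IsOpenImmersion a := IsOpenImmersion.of_isLocalization c'
  have := hop i
  let b : Spec (CommRingCat.of (Localization.Away c')) ⟶ J.subscheme := a ≫ J.subschemeCover.f (W i)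
  have hb : IsOpenImmersion b := by
    have h1 : IsOpenImmersion (J.subschemeCover.f (W i)) := hop i
    exact @IsOpenImmersion.comp _ _ _ a (J.subschemeCover.f (W i)) ha h1
  have hredS : AlgebraicGeometry.IsReduced (Spec (CommRingCat.of (Localization.Away c'))) := inferInstance
  refine ⟨b.opensRange, ?_, ?_⟩
  · refine b.opensRange.isOpen.dense ?_
    obtain ⟨z⟩ : Nonempty (Spec (CommRingCat.of (Localization.Away c'))) :=
      inferInstanceAs (Nonempty (PrimeSpectrum (Localization.Away c')))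
    exact ⟨b z, z, rfl⟩
  · exact isReduced_of_isOpenImmersion b.isoOpensRange.inv

end K669.ProjTrans
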